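import Mathlib
import Groth.Prelude.Def_W4bk4goldsch23FF

set_option autoImplicit false

namespace Groth.Agent.Helper16.FF

open FunFld IntermediateField IntermediateField.algebraAdjoinAdjoin Polynomial

variable {k K : Type*} [Field k] [Field K] [Algebra k K]

/-! ### Basic facts on places -/

theorem Place.val_algebraMap_le (P : Place k K) (c : k) : P.1 (algebraMap k K c) ≤ 1 := P.2.1 c

theorem Place.val_algebraMap (P : Place k K) {c : k} (hc : c ≠ 0) : P.1 (algebraMap k K c) = 1 := by
  apply le_antisymm (P.2.1 c)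
  have h1 : P.1 (algebraMap k K c⁻¹) ≤ 1 := P.2.1 c⁻¹
  have hne : algebraMap k K c ≠ 0 := by simpa using hc
  have h2 : P.1 (algebraMap k K c) * P.1 (algebraMap k K c⁻¹) = 1 := by
    rw [← map_mul, ← map_mul, mul_inv_cancel₀ hc, map_one, map_one]
  have hpos : 0 < P.1 (algebraMap k K c) := by
    rw [Valuation.pos_iff]; exact hne
  by_contra hlt
  push Not at hlt
  have : P.1 (algebraMap k K c) * P.1 (algebraMap k K c⁻¹) < 1 := by
    calc P.1 (algebraMap k K c) * P.1 (algebraMap k K c⁻¹)
        ≤ P.1 (algebraMap k K c) * 1 := by gcongr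
      _ < 1 := by simpa using hlt
  exact absurd h2 (ne_of_lt this)

theorem Place.val_smul (P : Place k K) {c : k} (hc : c ≠ 0) (x : K) : P.1 (c • x) = P.1 x := by
  rw [Algebra.smul_def, map_mul, Place.val_algebraMap P hc, one_mul]

theorem Place.val_smul_le (P : Place k K) (c : k) (x : K) : P.1 (c • x) ≤ P.1 x := by
  rw [Algebra.smul_def, map_mul]
  calc P.1 (algebraMap k K c) * P.1 x ≤ 1 * P.1 x := by gcongr; exact P.2.1 c
    _ = P.1 x := one_mul _

theorem Place.exists_uniformizer (P : Place k K) : ∃ t : K, P.1 t = WithZero.exp (-1 : ℤ) :=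
  P.2.2 _

theorem Place.exists_val_eq_exp (P : Place k K) (m : ℤ) : ∃ t : K, P.1 t = WithZero.exp m :=
  P.2.2 _

theorem Place.val_eq_exp_neg_ord (P : Place k K) {x : K} (hx : x ≠ 0) :
    P.1 x = WithZero.exp (-(P.ord x)) := by
  have : P.1 x ≠ 0 := by simpa using hx
  simp [Place.ord, WithZero.exp_log this]

theorem Place.ord_mul (P : Place k K) {x y : K} (hx : x ≠ 0) (hy : y ≠ 0) :
    P.ord (x * y) = P.ord x + P.ord y := by
  have hx' : P.1 x ≠ 0 := by simpa using hx
  have hy' : P.1 y ≠ 0 := by simpa using hy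
  simp only [Place.ord, map_mul, WithZero.log_mul hx' hy']
  ring

theorem Place.ord_inv (P : Place k K) (x : K) : P.ord x⁻¹ = -P.ord x := by
  simp [Place.ord, map_inv₀, WithZero.log_inv]

theorem Place.ord_zero (P : Place k K) : P.ord (0 : K) = 0 := by
  simp [Place.ord]

theorem Place.ord_one (P : Place k K) : P.ord (1 : K) = 0 := by
  simp [Place.ord]

theorem Place.ord_pow (P : Place k K) (x : K) (n : ℕ) : P.ord (x ^ n) = n * P.ord x := by
  simp [Place.ord, map_pow, WithZero.log_pow]

theorem Place.val_le_exp_iff (P : Place k K) {x : K} (hx : x ≠ 0) (m : ℤ) :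
    P.1 x ≤ WithZero.exp m ↔ -m ≤ P.ord x := by
  have hx' : P.1 x ≠ 0 := by simpa using hx
  rw [← WithZero.log_le_iff_le_exp hx', Place.ord]
  constructor <;> intro h <;> linarith

theorem Place.val_lt_exp_iff (P : Place k K) {x : K} (hx : x ≠ 0) (m : ℤ) :
    P.1 x < WithZero.exp m ↔ -m < P.ord x := by
  have hx' : P.1 x ≠ 0 := by simpa using hx
  rw [← WithZero.log_lt_iff_lt_exp hx', Place.ord]
  constructor <;> intro h <;> linarith

theorem Place.val_lt_one_iff (P : Place k K) {x : K} (hx : x ≠ 0) :
    P.1 x < 1 ↔ 0 < P.ord x := by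
  have := Place.val_lt_exp_iff P hx 0
  simpa using this

theorem Place.val_le_one_iff (P : Place k K) {x : K} (hx : x ≠ 0) :
    P.1 x ≤ 1 ↔ 0 ≤ P.ord x := by
  have := Place.val_le_exp_iff P hx 0
  simpa using this

theorem Place.ord_algebraMap (P : Place k K) (c : k) : P.ord (algebraMap k K c) = 0 := by
  by_cases hc : c = 0
  · simp [hc, Place.ord_zero]
  · simp [Place.ord, Place.val_algebraMap P hc]


/-! ### Transcendence and finiteness -/

theorem Place.val_eq_one_of_isAlgebraic (hK : IsFunctionField k K) (P : Place k K) {x : K}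
    (hx0 : x ≠ 0) (hx : IsAlgebraic k x) : P.1 x = 1 := by
  obtain ⟨c, rfl⟩ := hK.2 x hx
  have hc : c ≠ 0 := by rintro rfl; simp at hx0
  exact Place.val_algebraMap P hc

theorem Place.transcendental_of_val_ne_one (hK : IsFunctionField k K) (P : Place k K) {x : K}
    (hx0 : x ≠ 0) (h : P.1 x ≠ 1) : Transcendental k x := fun hx =>
  h (Place.val_eq_one_of_isAlgebraic hK P hx0 hx)

theorem transcendental_of_not_mem_range (hK : IsFunctionField k K) {x : K}
    (hx : x ∉ Set.range (algebraMap k K)) : Transcendental k x := fun h => hx (hK.2 x h)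

theorem finite_of_transcendental (hK : IsFunctionField k K) {x : K} (hx : Transcendental k x) :
    FiniteDimensional (IntermediateField.adjoin k ({x} : Set K)) K := by
  obtain ⟨⟨x₀, hx₀, hfin⟩, -⟩ := hK
  -- essentially of finite type
  have h1 : Algebra.EssFiniteType k (IntermediateField.adjoin k ({x₀} : Set K)) := by
    rw [IntermediateField.essFiniteType_iff]
    exact ⟨{x₀}, by simp⟩
  have h2 : Algebra.EssFiniteType k K :=
    Algebra.EssFiniteType.comp k (IntermediateField.adjoin k ({x₀} : Set K)) K
  have h3 : Algebra.EssFiniteType (IntermediateField.adjoin k ({x} : Set K)) K :=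
    Algebra.EssFiniteType.of_comp k _ K
  -- trdeg ≤ 1
  have halg0 : Algebra.IsAlgebraic (IntermediateField.adjoin k ({x₀} : Set K)) K :=
    Algebra.IsAlgebraic.of_finite _ _
  have halg0' : Algebra.IsAlgebraic (Algebra.adjoin k ({x₀} : Set K)) K := by
    exact Algebra.IsAlgebraic.trans _ (IntermediateField.adjoin k ({x₀} : Set K)) _
  have htr : Algebra.trdeg k K ≤ 1 := by
    have := Algebra.IsAlgebraic.trdeg_le_cardinalMk k ({x₀} : Set K)
    simpa using this
  have hind : AlgebraicIndependent k (fun _ : Unit => x) := by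
    rw [algebraicIndependent_unique_type_iff]
    exact hx
  have hbasis : IsTranscendenceBasis k (fun _ : Unit => x) :=
    hind.isTranscendenceBasis_of_lift_trdeg_le_of_finite (by simpa using htr)
  have halg : Algebra.IsAlgebraic (IntermediateField.adjoin k (Set.range (fun _ : Unit => x))) K :=
    hbasis.isAlgebraic_field
  have hr : Set.range (fun _ : Unit => x) = {x} := by simp
  rw [hr] at halg
  exact Algebra.finite_of_essFiniteType_of_isAlgebraic

/-- Key independence lemma: elements of a `k`-subalgebra `R` of `K` that are `k`-linearly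
independent modulo `x R` are linearly independent over `k(x)`. -/
theorem linearIndependent_adjoin_of_mod (R : Subalgebra k K) {x : K} (hxR : x ∈ R) (hx0 : x ≠ 0)
    {ι : Type*} (z : ι → K) (hz : ∀ i, z i ∈ R)
    (hind : ∀ (s : Finset ι) (a : ι → k),
      (∃ r ∈ R, ∑ i ∈ s, a i • z i = x * r) → ∀ i ∈ s, a i = 0) :
    LinearIndependent (IntermediateField.adjoin k ({x} : Set K)) z := by
  rw [← LinearIndependent.iff_fractionRing (Algebra.adjoin k ({x} : Set K))
    (IntermediateField.adjoin k ({x} : Set K))]
  -- key claim, by induction on a degree bound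
  have key : ∀ (n : ℕ) (s : Finset ι) (p : ι → k[X]), (∀ i ∈ s, (p i).natDegree ≤ n) →
      ∑ i ∈ s, aeval x (p i) * z i = 0 → ∀ i ∈ s, aeval x (p i) = 0 := by
    intro n
    induction n with
    | zero =>
      intro s p hdeg hsum i hi
      have hC : ∀ j ∈ s, p j = C ((p j).coeff 0) := fun j hj =>
        Polynomial.eq_C_of_natDegree_le_zero (hdeg j hj)
      have h0 : ∀ j ∈ s, (p j).coeff 0 = 0 := by
        apply hind s (fun j => (p j).coeff 0)
        refine ⟨0, R.zero_mem, ?_⟩
        rw [mul_zero, ← hsum]
        refine Finset.sum_congr rfl fun j hj => ?_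
        conv_rhs => rw [hC j hj]
        simp [Algebra.smul_def]
      rw [hC i hi, h0 i hi]; simp
    | succ n ih =>
      intro s p hdeg hsum i hi
      have hdecomp : ∀ j, aeval x (p j) = x * aeval x (p j).divX + algebraMap k K ((p j).coeff 0) := by
        intro j
        conv_lhs => rw [← Polynomial.divX_mul_X_add (p j)]
        rw [map_add, map_mul, aeval_X, aeval_C, mul_comm]
      have hr : (∑ j ∈ s, aeval x (p j).divX * z j) ∈ R := by
        refine R.sum_mem fun j _ => R.mul_mem ?_ (hz j)
        rw [Polynomial.aeval_eq_sum_range]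
        refine R.sum_mem fun m _ => R.smul_mem (R.pow_mem hxR _) _
      have hsum' : ∑ j ∈ s, (p j).coeff 0 • z j = x * (-∑ j ∈ s, aeval x (p j).divX * z j) := by
        have : ∑ j ∈ s, aeval x (p j) * z j =
            x * (∑ j ∈ s, aeval x (p j).divX * z j) + ∑ j ∈ s, (p j).coeff 0 • z j := by
          rw [Finset.mul_sum, ← Finset.sum_add_distrib]
          refine Finset.sum_congr rfl fun j _ => ?_
          rw [hdecomp j, Algebra.smul_def]; ring
        rw [this] at hsum
        linear_combination hsum
      have h0 : ∀ j ∈ s, (p j).coeff 0 = 0 := hind s (fun j => (p j).coeff 0) ⟨_, R.neg_mem hr, hsum'⟩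
      have hsum2 : ∑ j ∈ s, aeval x (p j).divX * z j = 0 := by
        have : ∑ j ∈ s, (p j).coeff 0 • z j = 0 :=
          Finset.sum_eq_zero fun j hj => by rw [h0 j hj, zero_smul]
        rw [this] at hsum'
        have := hsum'.symm
        rw [mul_eq_zero] at this
        rcases this with h | h
        · exact absurd h hx0
        · simpa using h
      have hdeg' : ∀ j ∈ s, (p j).divX.natDegree ≤ n := by
        intro j hj
        rw [Polynomial.natDegree_divX_eq_natDegree_tsub_one]
        have := hdeg j hj
        omega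
      have := ih s (fun j => (p j).divX) hdeg' hsum2 i hi
      rw [hdecomp i, this, h0 i hi]; simp
  rw [linearIndependent_iff']
  intro s g hg i hi
  -- choose polynomials
  have hex : ∀ j, ∃ p : k[X], aeval x p = (g j : K) := by
    intro j
    have h2 : (g j : K) ∈ (Algebra.adjoin k ({x} : Set K)) := (g j).2
    have h3 : (g j : K) ∈ (Polynomial.aeval (R := k) x).range := by
      rw [← Algebra.adjoin_singleton_eq_range_aeval]; exact h2
    exact h3
  choose p hp using hex
  have hsum : ∑ j ∈ s, aeval x (p j) * z j = 0 := by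
    rw [← hg]
    refine Finset.sum_congr rfl fun j _ => ?_
    rw [hp j]; rfl
  have := key (s.sup fun j => (p j).natDegree) s p
    (fun j hj => Finset.le_sup (f := fun j => (p j).natDegree) hj) hsum i hi
  apply Subtype.ext
  rw [← hp i, this]; rfl


end Groth.Agent.Helper16.FF
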