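import Mathlib
import Groth.Agent.Lib.Helper16.FF.Basic

set_option autoImplicit false
open FunFld IntermediateField IntermediateField.algebraAdjoinAdjoin Polynomial

namespace Groth.Agent.Helper16.FF

variable {k K : Type*} [Field k] [Field K] [Algebra k K]

/-- The valuation ring of a place as a `k`-subalgebra of `K`. -/
def OA (P : Place k K) : Subalgebra k K where
  carrier := {x | P.1 x ≤ 1}
  mul_mem' {a b} ha hb := by
    show P.1 (a * b) ≤ 1
    rw [map_mul]; exact mul_le_one' ha hb
  add_mem' {a b} ha hb := (P.1.map_add a b).trans (max_le ha hb)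
  algebraMap_mem' c := P.2.1 c

theorem Place.mem_OA (P : Place k K) (x : K) : x ∈ OA P ↔ P.1 x ≤ 1 := Iff.rfl

theorem Place.mem_O_iff (P : Place k K) (x : K) : x ∈ P.O ↔ P.1 x ≤ 1 :=
  Valuation.mem_valuationSubring_iff _ _

theorem Place.residue_smul (P : Place k K) (c : k) (z : P.O) :
    IsLocalRing.residue P.O (c • z) = c • IsLocalRing.residue P.O z := by
  rw [Algebra.smul_def, Algebra.smul_def, map_mul]; rfl

theorem Place.coe_smul_O (P : Place k K) (c : k) (z : P.O) : ((c • z : P.O) : K) = c • (z : K) := by
  rw [Algebra.smul_def, Algebra.smul_def]; rfl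

theorem Place.residue_eq_zero_iff (P : Place k K) (z : P.O) :
    IsLocalRing.residue P.O z = 0 ↔ P.1 (z : K) < 1 := by
  rw [IsLocalRing.residue_eq_zero_iff]
  exact Valuation.mem_maximalIdeal_iff _ _

/-- A bound for linearly independent families in the residue field. -/
theorem Place.card_le_of_linearIndependent_residue (hK : IsFunctionField k K) (P : Place k K)
    {t : K} (ht0 : t ≠ 0) (ht : P.1 t < 1) {ι : Type*} [Fintype ι]
    (b : ι → IsLocalRing.ResidueField P.O) (hb : LinearIndependent k b) :
    have := finite_of_transcendental hK (Place.transcendental_of_val_ne_one hK P ht0 ht.ne)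
    Fintype.card ι ≤ Module.finrank (IntermediateField.adjoin k ({t} : Set K)) K := by
  have := finite_of_transcendental hK (Place.transcendental_of_val_ne_one hK P ht0 ht.ne)
  have hlift : ∀ i, ∃ z : P.O, IsLocalRing.residue P.O z = b i := fun i =>
    IsLocalRing.residue_surjective (b i)
  choose z hz using hlift
  have hli : LinearIndependent (IntermediateField.adjoin k ({t} : Set K)) (fun i => (z i : K)) := by
    apply linearIndependent_adjoin_of_mod (OA P) (x := t) ht.le ht0
    · intro i
      exact (Place.mem_O_iff P _).mp (z i).2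
    · intro s a ⟨r, hr, hsum⟩ i hi
      let r' : P.O := ⟨r, (Place.mem_O_iff P _).mpr hr⟩
      let t' : P.O := ⟨t, (Place.mem_O_iff P _).mpr ht.le⟩
      have hsum' : ∑ i ∈ s, a i • z i = t' * r' := by
        apply Subtype.ext
        have : ((∑ i ∈ s, a i • z i : P.O) : K) = ∑ i ∈ s, a i • (z i : K) := by
          rw [← P.O.subtype_apply, map_sum]
          refine Finset.sum_congr rfl fun j _ => ?_
          exact Place.coe_smul_O P (a j) (z j)
        rw [this, hsum]; rfl
      have h1 := congrArg (IsLocalRing.residue P.O) hsum'
      rw [map_sum, map_mul] at h1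
      have ht' : IsLocalRing.residue P.O t' = 0 := (Place.residue_eq_zero_iff P t').mpr ht
      rw [ht', zero_mul] at h1
      have h2 : ∑ i ∈ s, a i • b i = 0 := by
        rw [← h1]
        refine Finset.sum_congr rfl fun j _ => ?_
        rw [Place.residue_smul, hz]
      exact linearIndependent_iff'.mp hb s a h2 i hi
  exact hli.fintype_card_le_finrank

theorem Place.finiteDimensional_residueField (hK : IsFunctionField k K) (P : Place k K) :
    FiniteDimensional k (IsLocalRing.ResidueField P.O) := by
  obtain ⟨t, ht⟩ := Place.exists_uniformizer P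
  have ht0 : t ≠ 0 := by
    rintro rfl
    rw [map_zero] at ht
    exact WithZero.exp_ne_zero ht.symm
  have ht1 : P.1 t < 1 := by
    rw [ht, ← WithZero.exp_zero]; exact WithZero.exp_lt_exp.mpr (by norm_num)
  have := finite_of_transcendental hK (Place.transcendental_of_val_ne_one hK P ht0 ht1.ne)
  rw [FiniteDimensional, ← Module.rank_lt_aleph0_iff]
  refine lt_of_le_of_lt (rank_le (n := Module.finrank (IntermediateField.adjoin k ({t} : Set K)) K) ?_)
    Cardinal.natCast_lt_aleph0
  intro s hs
  have := Place.card_le_of_linearIndependent_residue hK P ht0 ht1 (fun i : s => (i : IsLocalRing.ResidueField P.O)) hs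
  simpa using this

theorem Place.deg_pos (hK : IsFunctionField k K) (P : Place k K) : 0 < P.deg := by
  have := Place.finiteDimensional_residueField hK P
  exact Module.finrank_pos

end Groth.Agent.Helper16.FF
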