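import Mathlib
import Groth.Agent.Lib.Helper16.FF.Residue

set_option autoImplicit false
open FunFld
open scoped WithZero

namespace Groth.Agent.Helper16.FF

variable {k K : Type*} [Field k] [Field K] [Algebra k K]

theorem Place.ord_zpow (P : Place k K) (x : K) (n : ℤ) : P.ord (x ^ n) = n * P.ord x := by
  simp [Place.ord, map_zpow₀, WithZero.log_zpow]

theorem Place.val_zpow_uniformizer (P : Place k K) {t : K} (ht : P.1 t = WithZero.exp (-1 : ℤ))
    (n : ℤ) : P.1 (t ^ n) = WithZero.exp (-n) := by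
  rw [map_zpow₀, ht, ← WithZero.exp_zsmul]; simp

theorem Place.ext' {P Q : Place k K} (h : ∀ x, P.1 x = Q.1 x) : P = Q :=
  Subtype.ext (Valuation.ext h)

/-- Distinct places have incomparable valuation rings. -/
theorem Place.exists_le_one_lt (P Q : Place k K) (hPQ : P ≠ Q) :
    ∃ y : K, P.1 y ≤ 1 ∧ 1 < Q.1 y := by
  by_contra hcon
  push Not at hcon
  apply hPQ
  -- units of P are units of Q
  have hunit : ∀ u : K, P.1 u = 1 → Q.1 u = 1 := by
    intro u hu
    have hu0 : u ≠ 0 := by rintro rfl; simp at hu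
    have h1 : Q.1 u ≤ 1 := hcon u hu.le
    have h2 : Q.1 u⁻¹ ≤ 1 := hcon u⁻¹ (by rw [map_inv₀, hu, inv_one])
    have h3 : Q.1 u * Q.1 u⁻¹ = 1 := by
      rw [← map_mul, mul_inv_cancel₀ hu0, map_one]
    apply le_antisymm h1
    by_contra hlt
    push Not at hlt
    have : Q.1 u * Q.1 u⁻¹ < 1 := by
      calc Q.1 u * Q.1 u⁻¹ ≤ Q.1 u * 1 := by gcongr
        _ < 1 := by simpa using hlt
    exact absurd h3 (ne_of_lt this)
  obtain ⟨t, ht⟩ := Place.exists_uniformizer P
  have ht0 : t ≠ 0 := by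
    rintro rfl
    rw [map_zero] at ht
    exact WithZero.exp_ne_zero ht.symm
  -- Q x = (Q t)^(ord_P x)
  have hform : ∀ y : K, y ≠ 0 → Q.1 y = Q.1 t ^ (P.ord y) := by
    intro y hy
    have hu : P.1 (y * t ^ (-(P.ord y))) = 1 := by
      rw [map_mul, Place.val_zpow_uniformizer P ht, Place.val_eq_exp_neg_ord P hy,
        ← WithZero.exp_add]
      simp
    have := hunit _ hu
    rw [map_mul, map_zpow₀, zpow_neg] at this
    have hq0 : Q.1 t ^ P.ord y ≠ 0 := by
      apply zpow_ne_zero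
      simpa using ht0
    field_simp at this
    exact this
  obtain ⟨s, hs⟩ := Place.exists_uniformizer Q
  have hs0 : s ≠ 0 := by
    rintro rfl
    rw [map_zero] at hs
    exact WithZero.exp_ne_zero hs.symm
  have hq0 : Q.1 t ≠ 0 := by simpa using ht0
  have hqle : Q.1 t ≤ 1 := hcon t (by rw [ht, ← WithZero.exp_zero]; exact WithZero.exp_le_exp.mpr (by norm_num))
  -- write Q t = exp (-j)
  set j : ℤ := -WithZero.log (Q.1 t) with hj
  have hqj : Q.1 t = WithZero.exp (-j) := by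
    rw [hj, neg_neg, WithZero.exp_log hq0]
  have hj0 : 0 ≤ j := by
    rw [hqj, ← WithZero.exp_zero, WithZero.exp_le_exp] at hqle
    linarith
  have h1 := hform s hs0
  rw [hs, hqj, ← WithZero.exp_zsmul, WithZero.exp_inj] at h1
  have hj1 : j = 1 := by
    have h2 : P.ord s * j = 1 := by
      have : (-1 : ℤ) = P.ord s • (-j) := h1
      simp only [smul_eq_mul] at this
      linarith
    have := Int.eq_one_or_neg_one_of_mul_eq_one' h2
    rcases this with ⟨-, h⟩ | ⟨-, h⟩
    · exact h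
    · omega
  apply Place.ext'
  intro y
  by_cases hy : y = 0
  · simp [hy]
  · rw [hform y hy, hqj, hj1, ← WithZero.exp_zsmul, Place.val_eq_exp_neg_ord P hy]
    simp

theorem exists_pow_gt {a : ℤᵐ⁰} (b : ℤᵐ⁰) (ha : 1 < a) : ∃ r₀ : ℕ, ∀ r : ℕ, r₀ ≤ r → b < a ^ r := by
  have ha0 : a ≠ 0 := (lt_trans zero_lt_one ha).ne'
  have haj : a = WithZero.exp (WithZero.log a) := (WithZero.exp_log ha0).symm
  have hj : 0 < WithZero.log a := by
    rw [haj, ← WithZero.exp_zero, WithZero.exp_lt_exp] at ha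
    exact ha
  by_cases hb : b = 0
  · refine ⟨0, fun r _ => ?_⟩
    rw [hb]
    exact pow_pos (lt_trans zero_lt_one ha) r
  · refine ⟨(WithZero.log b).toNat + 1, fun r hr => ?_⟩
    rw [← WithZero.exp_log hb, haj, ← WithZero.exp_nsmul, WithZero.exp_lt_exp]
    have h1 : WithZero.log b ≤ (WithZero.log b).toNat := Int.self_le_toNat _
    have h2 : ((WithZero.log b).toNat : ℤ) + 1 ≤ r := by exact_mod_cast hr
    have h3 : (r : ℤ) ≤ r • WithZero.log a := by
      rw [nsmul_eq_mul]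
      nlinarith
    linarith

theorem lt_one_iff_le_exp_neg_one {a : ℤᵐ⁰} : a < 1 ↔ a ≤ WithZero.exp (-1 : ℤ) := by
  by_cases ha : a = 0
  · simp [ha]
  · rw [← WithZero.exp_log ha, ← WithZero.exp_zero, WithZero.exp_lt_exp, WithZero.exp_le_exp]
    omega

theorem one_lt_iff_exp_one_le {a : ℤᵐ⁰} : 1 < a ↔ WithZero.exp (1 : ℤ) ≤ a := by
  by_cases ha : a = 0
  · simp [ha]
  · rw [← WithZero.exp_log ha, ← WithZero.exp_zero, WithZero.exp_lt_exp, WithZero.exp_le_exp]
    omega

theorem Place.exists_lt_one_lt (P Q : Place k K) (hPQ : P ≠ Q) :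
    ∃ z : K, P.1 z < 1 ∧ 1 < Q.1 z := by
  obtain ⟨y₁, h1, h2⟩ := Place.exists_le_one_lt P Q hPQ
  obtain ⟨y₂, h3, h4⟩ := Place.exists_le_one_lt Q P (Ne.symm hPQ)
  refine ⟨y₁ / y₂, ?_, ?_⟩
  · rw [map_div₀]
    have h40 : 0 < P.1 y₂ := lt_trans zero_lt_one h4
    rw [div_lt_one₀ h40]
    exact lt_of_le_of_lt h1 h4
  · rw [map_div₀]
    have hy₂ : y₂ ≠ 0 := by
      rintro rfl
      simp at h4
    have h30 : 0 < Q.1 y₂ := by
      rw [Valuation.pos_iff]; exact hy₂
    rw [one_lt_div₀ h30]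
    exact lt_of_le_of_lt h3 h2

/-- Step 1 of weak approximation. -/
theorem Place.exists_lt_one_forall_gt_one (P : Place k K) (s : Finset (Place k K)) (hP : P ∉ s) :
    ∃ u : K, P.1 u < 1 ∧ ∀ Q ∈ s, 1 < Q.1 u := by
  classical
  induction s using Finset.induction_on with
  | empty =>
    obtain ⟨t, ht⟩ := Place.exists_uniformizer P
    refine ⟨t, ?_, by simp⟩
    rw [ht, ← WithZero.exp_zero]; exact WithZero.exp_lt_exp.mpr (by norm_num)
  | insert Q s' hQ ih =>
    have hPQ : P ≠ Q := by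
      rintro rfl; exact hP (Finset.mem_insert_self _ _)
    have hPs' : P ∉ s' := fun h => hP (Finset.mem_insert_of_mem h)
    obtain ⟨y, hy1, hy2⟩ := ih hPs'
    obtain ⟨z, hz1, hz2⟩ := Place.exists_lt_one_lt P Q hPQ
    by_cases hQy : 1 < Q.1 y
    · refine ⟨y, hy1, ?_⟩
      intro Q' hQ'
      rcases Finset.mem_insert.mp hQ' with rfl | h
      · exact hQy
      · exact hy2 Q' h
    · push Not at hQy
      -- thresholds
      have hthr : ∀ Q' ∈ s', ∃ r₀ : ℕ, ∀ r : ℕ, r₀ ≤ r → 1 < Q'.1 (y + z ^ r) := by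
        intro Q' hQ'
        by_cases hz : 1 < Q'.1 z
        · obtain ⟨r₀, hr₀⟩ := exists_pow_gt (Q'.1 y) hz
          refine ⟨r₀, fun r hr => ?_⟩
          have : Q'.1 y < Q'.1 (z ^ r) := by rw [map_pow]; exact hr₀ r hr
          rw [Valuation.map_add_eq_of_lt_right _ this]
          exact lt_trans (hy2 Q' hQ') this
        · push Not at hz
          refine ⟨0, fun r _ => ?_⟩
          have : Q'.1 (z ^ r) < Q'.1 y := by
            rw [map_pow]
            exact lt_of_le_of_lt (pow_le_one' hz r) (hy2 Q' hQ')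
          rw [Valuation.map_add_eq_of_lt_left _ this]
          exact hy2 Q' hQ'
      choose! r₀ hr₀ using hthr
      set R := s'.sup r₀ + 1 with hR
      refine ⟨y + z ^ R, ?_, ?_⟩
      · refine lt_of_le_of_lt (P.1.map_add _ _) (max_lt hy1 ?_)
        rw [map_pow]
        exact pow_lt_one' hz1 (by omega)
      · intro Q' hQ'
        rcases Finset.mem_insert.mp hQ' with rfl | h
        · have h1 : Q'.1 z ≤ Q'.1 (z ^ R) := by
            rw [map_pow]
            exact le_self_pow₀ hz2.le (by omega)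
          have : Q'.1 y < Q'.1 (z ^ R) := lt_of_le_of_lt hQy (lt_of_lt_of_le hz2 h1)
          rw [Valuation.map_add_eq_of_lt_right _ this]
          exact lt_of_lt_of_le hz2 h1
        · apply hr₀ Q' h
          have : r₀ Q' ≤ s'.sup r₀ := Finset.le_sup h
          omega

/-- Step 2 of weak approximation. -/
theorem Place.exists_approx_one (P : Place k K) (s : Finset (Place k K)) (hP : P ∉ s) (N : ℕ) :
    ∃ w : K, P.1 (w - 1) ≤ WithZero.exp (-(N : ℤ)) ∧ ∀ Q ∈ s, Q.1 w ≤ WithZero.exp (-(N : ℤ)) := by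
  obtain ⟨u, hu1, hu2⟩ := Place.exists_lt_one_forall_gt_one P s hP
  have hu1' : P.1 u ≤ WithZero.exp (-1 : ℤ) := lt_one_iff_le_exp_neg_one.mp hu1
  have hpowP : P.1 (u ^ (N + 1)) ≤ WithZero.exp (-((N : ℤ) + 1)) := by
    rw [map_pow]
    calc P.1 u ^ (N + 1) ≤ WithZero.exp (-1 : ℤ) ^ (N + 1) := pow_le_pow_left' hu1' _
      _ = WithZero.exp (-((N : ℤ) + 1)) := by
        rw [← WithZero.exp_nsmul]; congr 1; simp
  have hlt1 : P.1 (u ^ (N + 1)) < 1 := by
    refine lt_of_le_of_lt hpowP ?_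
    rw [← WithZero.exp_zero, WithZero.exp_lt_exp]; omega
  have hden : P.1 (1 + u ^ (N + 1)) = 1 := by
    have : P.1 (u ^ (N + 1)) < P.1 1 := by rw [map_one]; exact hlt1
    rw [Valuation.map_add_eq_of_lt_left _ this, map_one]
  have hden0 : (1 + u ^ (N + 1) : K) ≠ 0 := by
    intro h
    rw [h, map_zero] at hden
    exact zero_ne_one hden
  refine ⟨(1 + u ^ (N + 1))⁻¹, ?_, ?_⟩
  · have : (1 + u ^ (N + 1))⁻¹ - 1 = -(u ^ (N + 1)) * (1 + u ^ (N + 1))⁻¹ := by
      field_simp
      ring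
    rw [this, map_mul, map_inv₀, hden, inv_one, mul_one, Valuation.map_neg]
    refine hpowP.trans ?_
    rw [WithZero.exp_le_exp]; omega
  · intro Q hQ
    have hQu : WithZero.exp (1 : ℤ) ≤ Q.1 u := one_lt_iff_exp_one_le.mp (hu2 Q hQ)
    have hpowQ : WithZero.exp ((N : ℤ) + 1) ≤ Q.1 (u ^ (N + 1)) := by
      rw [map_pow]
      calc WithZero.exp ((N : ℤ) + 1) = WithZero.exp (1 : ℤ) ^ (N + 1) := by
            rw [← WithZero.exp_nsmul]; congr 1; simp
        _ ≤ Q.1 u ^ (N + 1) := pow_le_pow_left' hQu _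
    have hgt1 : Q.1 (1 : K) < Q.1 (u ^ (N + 1)) := by
      rw [map_one]
      refine lt_of_lt_of_le ?_ hpowQ
      rw [← WithZero.exp_zero, WithZero.exp_lt_exp]; omega
    rw [map_inv₀, Valuation.map_add_eq_of_lt_right _ hgt1]
    have hpos : 0 < Q.1 (u ^ (N + 1)) := lt_of_lt_of_le WithZero.exp_pos hpowQ
    rw [inv_le_comm₀ hpos WithZero.exp_pos, ← WithZero.exp_neg, neg_neg]
    refine le_trans ?_ hpowQ
    rw [WithZero.exp_le_exp]; omega

/-- Weak approximation theorem. -/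
theorem weak_approx {ι : Type*} [Fintype ι] (P : ι → Place k K) (hP : Function.Injective P)
    (y : ι → K) (m : ι → ℤ) : ∃ z : K, ∀ i, (P i).1 (z - y i) ≤ WithZero.exp (m i) := by
  classical
  -- a uniform bound for the values of the y j
  obtain ⟨M, hM⟩ := Finset.exists_le
    ((Finset.univ : Finset (ι × ι)).image fun p => WithZero.log ((P p.1).1 (y p.2)))
  have hM' : ∀ i j, (P i).1 (y j) ≤ WithZero.exp M := by
    intro i j
    refine le_trans WithZero.le_exp_log (WithZero.exp_le_exp.mpr ?_)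
    exact hM _ (Finset.mem_image.mpr ⟨(i, j), Finset.mem_univ _, rfl⟩)
  obtain ⟨m₀, hm₀⟩ := Finset.exists_le ((Finset.univ : Finset ι).image fun i => -m i)
  have hm₀' : ∀ i, -m₀ ≤ m i := by
    intro i
    have := hm₀ _ (Finset.mem_image.mpr ⟨i, Finset.mem_univ _, rfl⟩)
    linarith
  set N : ℕ := (M + m₀).toNat with hN
  have hNle : ∀ i, M - N ≤ m i := by
    intro i
    have h1 : M + m₀ ≤ N := Int.self_le_toNat _
    have := hm₀' i
    linarith
  have hw : ∀ j, ∃ w : K, (P j).1 (w - 1) ≤ WithZero.exp (-(N : ℤ)) ∧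
      ∀ Q ∈ (Finset.univ.erase j).image P, Q.1 w ≤ WithZero.exp (-(N : ℤ)) := by
    intro j
    apply Place.exists_approx_one
    intro h
    obtain ⟨i, hi, hij⟩ := Finset.mem_image.mp h
    exact (Finset.mem_erase.mp hi).1 (hP hij)
  choose w hw1 hw2 using hw
  refine ⟨∑ j, w j * y j, fun i => ?_⟩
  have hsplit : ∑ j, w j * y j - y i = ∑ j, (w j - if j = i then 1 else 0) * y j := by
    simp only [sub_mul, Finset.sum_sub_distrib, ite_mul, one_mul, zero_mul, Finset.sum_ite_eq',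
      Finset.mem_univ, if_true]
  rw [hsplit]
  apply Valuation.map_sum_le
  intro j _
  rw [map_mul]
  have hb : (P i).1 (w j - if j = i then 1 else 0) ≤ WithZero.exp (-(N : ℤ)) := by
    split_ifs with h
    · subst h; exact hw1 j
    · rw [sub_zero]
      apply hw2 j
      exact Finset.mem_image.mpr ⟨i, Finset.mem_erase.mpr ⟨fun h' => h h'.symm, Finset.mem_univ _⟩, rfl⟩
  calc (P i).1 (w j - if j = i then 1 else 0) * (P i).1 (y j)
      ≤ WithZero.exp (-(N : ℤ)) * WithZero.exp M := mul_le_mul' hb (hM' i j)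
    _ = WithZero.exp (M - N) := by rw [← WithZero.exp_add]; congr 1; ring
    _ ≤ WithZero.exp (m i) := WithZero.exp_le_exp.mpr (hNle i)

end Groth.Agent.Helper16.FF
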