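import Mathlib
import Groth.Agent.Lib.Helper16.FF.Approx
import Groth.Agent.Lib.Helper16.FF.RelDim

set_option autoImplicit false
open FunFld
open scoped WithZero

namespace Groth.Agent.Helper16.FF

variable {k K : Type*} [Field k] [Field K] [Algebra k K]

/-- The local space `{y | v_P(y) ≥ -m}` at a place. -/
def Vloc (P : Place k K) (m : ℤ) : Submodule k K where
  carrier := {y | P.1 y ≤ WithZero.exp m}
  add_mem' {x y} hx hy := (P.1.map_add x y).trans (max_le hx hy)
  zero_mem' := by simp
  smul_mem' c x hx := (Place.val_smul_le P c x).trans hx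

theorem mem_Vloc (P : Place k K) (m : ℤ) (y : K) : y ∈ Vloc P m ↔ P.1 y ≤ WithZero.exp m := Iff.rfl

theorem Vloc_mono (P : Place k K) {m m' : ℤ} (h : m ≤ m') : Vloc P m ≤ Vloc P m' := fun _ hy =>
  le_trans hy (WithZero.exp_le_exp.mpr h)

theorem lt_exp_succ_iff {a : ℤᵐ⁰} (m : ℤ) : a < WithZero.exp (m + 1) ↔ a ≤ WithZero.exp m := by
  by_cases ha : a = 0
  · simp [ha]
  · rw [← WithZero.exp_log ha, WithZero.exp_lt_exp, WithZero.exp_le_exp]
    omega

/-- The map `V(m+1) → F_P` given by multiplication with `t^(m+1)` followed by the residue map. -/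
noncomputable def VlocToResidue (P : Place k K) (t : K) (ht : P.1 t = WithZero.exp (-1 : ℤ)) (m : ℤ) :
    ↥(Vloc P (m + 1)) →ₗ[k] IsLocalRing.ResidueField P.O where
  toFun y := IsLocalRing.residue P.O ⟨t ^ (m + 1) * (y : K), by
    rw [Place.mem_O_iff, map_mul, Place.val_zpow_uniformizer P ht]
    calc WithZero.exp (-(m + 1)) * P.1 (y : K) ≤ WithZero.exp (-(m + 1)) * WithZero.exp (m + 1) :=
          mul_le_mul' le_rfl y.2
      _ = 1 := by rw [← WithZero.exp_add]; simp⟩
  map_add' x y := by
    rw [← map_add]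
    congr 1
    apply Subtype.ext
    simp [mul_add]
  map_smul' c y := by
    have hmem : t ^ (m + 1) * (y : K) ∈ P.O := by
      rw [Place.mem_O_iff, map_mul, Place.val_zpow_uniformizer P ht]
      calc WithZero.exp (-(m + 1)) * P.1 (y : K) ≤ WithZero.exp (-(m + 1)) * WithZero.exp (m + 1) :=
            mul_le_mul' le_rfl y.2
        _ = 1 := by rw [← WithZero.exp_add]; simp
    refine Eq.trans (congrArg (IsLocalRing.residue P.O) ?_)
      (Place.residue_smul P c ⟨t ^ (m + 1) * (y : K), hmem⟩)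
    apply Subtype.ext
    rw [Place.coe_smul_O]
    show t ^ (m + 1) * (c • (y : K)) = c • (t ^ (m + 1) * (y : K))
    rw [mul_smul_comm]

theorem VlocToResidue_apply (P : Place k K) (t : K) (ht : P.1 t = WithZero.exp (-1 : ℤ)) (m : ℤ)
    (y : ↥(Vloc P (m + 1))) (h : t ^ (m + 1) * (y : K) ∈ P.O) :
    VlocToResidue P t ht m y = IsLocalRing.residue P.O ⟨t ^ (m + 1) * (y : K), h⟩ := rfl

theorem hasRelDim_Vloc_succ (hK : IsFunctionField k K) (P : Place k K) (m : ℤ) :
    HasRelDim (Vloc P m) (Vloc P (m + 1)) P.deg := by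
  obtain ⟨t, ht⟩ := Place.exists_uniformizer P
  have ht0 : t ≠ 0 := by
    rintro rfl
    rw [map_zero] at ht
    exact WithZero.exp_ne_zero ht.symm
  have := Place.finiteDimensional_residueField hK P
  refine hasRelDim_of_surjective (Vloc P m) (Vloc P (m + 1)) (VlocToResidue P t ht m) ?_ ?_
  · intro y
    have hmem : t ^ (m + 1) * (y : K) ∈ P.O := by
      rw [Place.mem_O_iff, map_mul, Place.val_zpow_uniformizer P ht]
      calc WithZero.exp (-(m + 1)) * P.1 (y : K) ≤ WithZero.exp (-(m + 1)) * WithZero.exp (m + 1) :=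
            mul_le_mul' le_rfl y.2
        _ = 1 := by rw [← WithZero.exp_add]; simp
    rw [VlocToResidue_apply P t ht m y hmem, Place.residue_eq_zero_iff, mem_Vloc]
    show P.1 (t ^ (m + 1) * (y : K)) < 1 ↔ _
    rw [map_mul, Place.val_zpow_uniformizer P ht, ← lt_exp_succ_iff]
    constructor
    · intro h
      have := mul_lt_mul_of_pos_left h (WithZero.exp_pos (a := m + 1))
      rw [← mul_assoc, ← WithZero.exp_add, mul_one] at this
      simpa using this
    · intro h
      have := mul_lt_mul_of_pos_left h (WithZero.exp_pos (a := -(m + 1)))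
      rw [← WithZero.exp_add] at this
      simpa using this
  · intro r
    obtain ⟨u, rfl⟩ := IsLocalRing.residue_surjective r
    have hu : P.1 (u : K) ≤ 1 := (Place.mem_O_iff P _).mp u.2
    have hy : t ^ (-(m + 1)) * (u : K) ∈ Vloc P (m + 1) := by
      rw [mem_Vloc, map_mul, Place.val_zpow_uniformizer P ht, neg_neg]
      calc WithZero.exp (m + 1) * P.1 (u : K) ≤ WithZero.exp (m + 1) * 1 := mul_le_mul' le_rfl hu
        _ = WithZero.exp (m + 1) := mul_one _
    refine ⟨⟨_, hy⟩, ?_⟩
    have hmem : t ^ (m + 1) * (t ^ (-(m + 1)) * (u : K)) ∈ P.O := by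
      rw [← mul_assoc, ← zpow_add₀ ht0]; simp
    rw [VlocToResidue_apply P t ht m ⟨_, hy⟩ hmem]
    congr 1
    apply Subtype.ext
    show t ^ (m + 1) * (t ^ (-(m + 1)) * (u : K)) = u
    rw [← mul_assoc, ← zpow_add₀ ht0]; simp

theorem hasRelDim_Vloc_add (hK : IsFunctionField k K) (P : Place k K) (m : ℤ) (n : ℕ) :
    HasRelDim (Vloc P m) (Vloc P (m + n)) (n * P.deg) := by
  induction n with
  | zero => simpa using hasRelDim_self (Vloc P m)
  | succ n ih =>
    have h1 := hasRelDim_Vloc_succ hK P (m + n)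
    have := ih.trans (Vloc_mono P (by omega)) (Vloc_mono P (by omega)) h1
    have e : m + (n : ℤ) + 1 = m + ((n + 1 : ℕ) : ℤ) := by push_cast; ring
    rw [e] at this
    convert this using 1
    ring

theorem hasRelDim_Vloc (hK : IsFunctionField k K) (P : Place k K) {m m' : ℤ} (h : m ≤ m') :
    HasRelDim (Vloc P m) (Vloc P m') ((m' - m).toNat * P.deg) := by
  have := hasRelDim_Vloc_add hK P m (m' - m).toNat
  have e : m + ((m' - m).toNat : ℤ) = m' := by
    rw [Int.toNat_of_nonneg (by omega)]; ring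
  rwa [e] at this

end Groth.Agent.Helper16.FF

namespace Groth.Agent.Helper16.FF

variable {k K : Type*} [Field k] [Field K] [Algebra k K]

/-- Simultaneous local conditions at finitely many distinct places: relative dimension. -/
theorem hasRelDim_iInf_Vloc (hK : IsFunctionField k K) {ι : Type*} [Fintype ι]
    (P : ι → Place k K) (hP : Function.Injective P) (m m' : ι → ℤ) (h : ∀ i, m i ≤ m' i) :
    HasRelDim (⨅ i, Vloc (P i) (m i)) (⨅ i, Vloc (P i) (m' i))
      (∑ i, (m' i - m i).toNat * (P i).deg) := by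
  classical
  have hloc := fun i => hasRelDim_Vloc hK (P i) (h i)
  let φ : ↥(⨅ i, Vloc (P i) (m' i)) →ₗ[k]
      (∀ i, ↥(Vloc (P i) (m' i)) ⧸ (Vloc (P i) (m i)).comap (Vloc (P i) (m' i)).subtype) :=
    LinearMap.pi fun i => (Submodule.mkQ _).comp (Submodule.inclusion (iInf_le _ i))
  have hker : ∀ s : ↥(⨅ i, Vloc (P i) (m' i)), φ s = 0 ↔ (s : K) ∈ ⨅ i, Vloc (P i) (m i) := by
    intro s
    rw [Submodule.mem_iInf, funext_iff]
    refine forall_congr' fun i => ?_
    simp only [φ, LinearMap.pi_apply, LinearMap.comp_apply, Submodule.mkQ_apply, Pi.zero_apply,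
      Submodule.Quotient.mk_eq_zero, Submodule.mem_comap, Submodule.subtype_apply]
    rfl
  have hsurj : Function.Surjective φ := by
    intro g
    have hrep : ∀ i, ∃ y : ↥(Vloc (P i) (m' i)), Submodule.Quotient.mk y = g i := fun i =>
      Submodule.Quotient.mk_surjective _ (g i)
    choose y hy using hrep
    obtain ⟨z, hz⟩ := weak_approx P hP (fun i => (y i : K)) m
    have hzmem : ∀ i, z ∈ Vloc (P i) (m' i) := by
      intro i
      have h1 : z - (y i : K) ∈ Vloc (P i) (m' i) := Vloc_mono (P i) (h i) (hz i)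
      have := (Vloc (P i) (m' i)).add_mem h1 (y i).2
      simpa using this
    refine ⟨⟨z, (Submodule.mem_iInf _).mpr hzmem⟩, ?_⟩
    funext i
    rw [← hy i]
    simp only [φ, LinearMap.pi_apply, LinearMap.comp_apply, Submodule.mkQ_apply]
    rw [Submodule.Quotient.eq]
    exact hz i
  exact hasRelDim_pi_of_surjective _ _ (fun i => Vloc (P i) (m i)) (fun i => Vloc (P i) (m' i))
    (fun i => (m' i - m i).toNat * (P i).deg) hloc φ hker hsurj

end Groth.Agent.Helper16.FF
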