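import Mathlib
import Groth.Agent.Lib.Helper16.FF.Local

set_option autoImplicit false
open FunFld
open scoped WithZero

namespace Groth.Agent.Helper16.FF

variable {k K : Type*} [Field k] [Field K] [Algebra k K]

theorem mem_iInf_OA {ι : Type*} (P : ι → Place k K) (y : K) :
    y ∈ (⨅ i, OA (P i) : Subalgebra k K) ↔ ∀ i, (P i).1 y ≤ 1 := by
  rw [Algebra.mem_iInf]
  exact forall_congr' fun i => Place.mem_OA (P i) y

theorem mem_iInf_Vloc {ι : Type*} (P : ι → Place k K) (m : ι → ℤ) (y : K) :
    y ∈ (⨅ i, Vloc (P i) (m i)) ↔ ∀ i, (P i).1 y ≤ WithZero.exp (m i) := by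
  rw [Submodule.mem_iInf]
  exact forall_congr' fun i => mem_Vloc (P i) (m i) y

theorem Place.ord_pos_of_val_lt_one (P : Place k K) {x : K} (hx0 : x ≠ 0) (h : P.1 x < 1) :
    0 < P.ord x := (Place.val_lt_one_iff P hx0).mp h

/-- The fundamental inequality: the zeros of `x`, counted with multiplicity and degree, are bounded by
`[K : k(x)]`. -/
theorem sum_ord_mul_deg_le (hK : IsFunctionField k K) {x : K} (hx : Transcendental k x)
    {ι : Type*} [Fintype ι] (P : ι → Place k K) (hP : Function.Injective P)
    (hz : ∀ i, (P i).1 x < 1) :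
    ∑ i, ((P i).ord x).toNat * (P i).deg ≤
      Module.finrank (IntermediateField.adjoin k ({x} : Set K)) K := by
  classical
  have hx0 : x ≠ 0 := by
    rintro rfl
    exact hx (isAlgebraic_zero)
  have hfin := finite_of_transcendental hK hx
  have hord : ∀ i, 0 < (P i).ord x := fun i => Place.ord_pos_of_val_lt_one (P i) hx0 (hz i)
  set e : ι → ℤ := fun i => (P i).ord x with he
  have hrel := hasRelDim_iInf_Vloc hK P hP (fun i => -e i) (fun _ => 0) (fun i => by
    have := hord i; simp only [he]; omega)
  have hd : ∑ i, ((0 : ℤ) - -e i).toNat * (P i).deg = ∑ i, ((P i).ord x).toNat * (P i).deg := by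
    refine Finset.sum_congr rfl fun i _ => ?_
    simp [he]
  rw [hd] at hrel
  set d := ∑ i, ((P i).ord x).toNat * (P i).deg with hd'
  set T : Submodule k K := ⨅ i, Vloc (P i) (-e i) with hT
  set S : Submodule k K := ⨅ i, Vloc (P i) 0 with hS
  obtain ⟨hfd, hrk⟩ := hrel
  -- a basis of the quotient
  let b := Module.finBasis k (↥S ⧸ T.comap S.subtype)
  have hlift : ∀ j, ∃ z : S, Submodule.Quotient.mk z = b j := fun j =>
    Submodule.Quotient.mk_surjective _ (b j)
  choose z hzb using hlift
  have hli : LinearIndependent (IntermediateField.adjoin k ({x} : Set K)) (fun j => (z j : K)) := by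
    apply linearIndependent_adjoin_of_mod (⨅ i, OA (P i)) (x := x)
    · rw [mem_iInf_OA]; exact fun i => (hz i).le
    · exact hx0
    · intro j
      rw [mem_iInf_OA]
      intro i
      have := (mem_iInf_Vloc P (fun _ => 0) (z j : K)).mp (z j).2 i
      simpa using this
    · intro s a ⟨r, hr, hsum⟩ j hj
      rw [mem_iInf_OA] at hr
      have hmemT : (∑ j ∈ s, a j • (z j : K)) ∈ T := by
        rw [hsum, hT, mem_iInf_Vloc]
        intro i
        rw [map_mul, Place.val_eq_exp_neg_ord (P i) hx0]
        calc WithZero.exp (-(P i).ord x) * (P i).1 r ≤ WithZero.exp (-(P i).ord x) * 1 :=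
              mul_le_mul' le_rfl (hr i)
          _ = WithZero.exp (-e i) := by rw [mul_one]
      have hq : ∑ j ∈ s, a j • b j = 0 := by
        have h1 : (Submodule.Quotient.mk (∑ j ∈ s, a j • z j) : ↥S ⧸ T.comap S.subtype) = 0 := by
          rw [Submodule.Quotient.mk_eq_zero, Submodule.mem_comap]
          simpa using hmemT
        rw [← h1, ← Submodule.mkQ_apply, map_sum]
        refine Finset.sum_congr rfl fun j _ => ?_
        rw [map_smul, Submodule.mkQ_apply, hzb]
      exact linearIndependent_iff'.mp b.linearIndependent s a hq j hj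
  have := hli.fintype_card_le_finrank
  rw [Fintype.card_fin, hrk] at this
  exact this

/-- The zeros of a transcendental element form a finite set. -/
theorem finite_zeros (hK : IsFunctionField k K) {x : K} (hx : Transcendental k x) :
    {P : Place k K | P.1 x < 1}.Finite := by
  classical
  by_contra hinf
  have hinf' : {P : Place k K | P.1 x < 1}.Infinite := hinf
  set N := Module.finrank (IntermediateField.adjoin k ({x} : Set K)) K with hN
  obtain ⟨t, hts, htc⟩ := hinf'.exists_subset_card_eq (N + 1)
  have hx0 : x ≠ 0 := by
    rintro rfl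
    exact hx (isAlgebraic_zero)
  have h1 := sum_ord_mul_deg_le hK hx (fun i : t => (i : Place k K)) Subtype.val_injective
    (fun i => hts i.2)
  have h2 : ∀ i : t, 1 ≤ ((i : Place k K).ord x).toNat * (i : Place k K).deg := by
    intro i
    have ha : 0 < (i : Place k K).ord x := Place.ord_pos_of_val_lt_one _ hx0 (hts i.2)
    have hb : 0 < (i : Place k K).deg := Place.deg_pos hK _
    have : 1 ≤ ((i : Place k K).ord x).toNat := by omega
    exact Nat.one_le_iff_ne_zero.mpr (Nat.mul_ne_zero (by omega) (by omega))
  have h3 : (N + 1) ≤ ∑ i : t, ((i : Place k K).ord x).toNat * (i : Place k K).deg := by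
    calc N + 1 = ∑ _i : t, 1 := by simp [htc]
      _ ≤ _ := Finset.sum_le_sum fun i _ => h2 i
  omega

theorem transcendental_inv {x : K} (hx : Transcendental k x) : Transcendental k x⁻¹ := by
  intro h
  exact hx (by simpa using h.inv)

/-- An element of a function field has only finitely many zeros and poles. -/
theorem finite_support_ord (hK : IsFunctionField k K) (x : K) :
    (Function.support fun P : Place k K => P.ord x).Finite := by
  by_cases hx : IsAlgebraic k x
  · have : (Function.support fun P : Place k K => P.ord x) = ∅ := by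
      ext P
      simp only [Function.mem_support, ne_eq, Set.mem_empty_iff_false, iff_false, not_not]
      obtain ⟨c, rfl⟩ := hK.2 x hx
      exact Place.ord_algebraMap P c
    rw [this]; exact Set.finite_empty
  · have hx' : Transcendental k x := hx
    have hx0 : x ≠ 0 := by
      rintro rfl
      exact hx' (isAlgebraic_zero)
    refine ((finite_zeros hK hx').union (finite_zeros hK (transcendental_inv hx'))).subset ?_
    intro P hP
    simp only [Function.mem_support, ne_eq] at hP
    rcases lt_or_gt_of_ne hP with h | h
    · right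
      show P.1 x⁻¹ < 1
      rw [Place.val_lt_one_iff P (inv_ne_zero hx0), Place.ord_inv]
      omega
    · left
      show P.1 x < 1
      rw [Place.val_lt_one_iff P hx0]
      exact h

end Groth.Agent.Helper16.FF
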