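import Mathlib
import Groth.Agent.Lib.Helper16.FF.Zeros

set_option autoImplicit false

namespace Groth.Agent.Helper16.FF

open FunFld IntermediateField Polynomial
open scoped WithZero

variable {k K : Type*} [Field k] [Field K] [Algebra k K]

/-- For `x` transcendental over `k` there is a valuation subring of `K` containing `k`
in which `x` is a nonunit. -/
theorem exists_valuationSubring {x : K} (hx : Transcendental k x) :
    ∃ B : ValuationSubring K, (∀ c : k, algebraMap k K c ∈ B) ∧ B.valuation x < 1 := by
  let A : Subring K := (Algebra.adjoin k ({x} : Set K)).toSubring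
  have hxA : x ∈ A := Algebra.subset_adjoin (Set.mem_singleton x)
  let xA : A := ⟨x, hxA⟩
  have hI : Ideal.span ({xA} : Set A) ≠ ⊤ := by
    intro h
    rw [Ideal.eq_top_iff_one, Ideal.mem_span_singleton'] at h
    obtain ⟨⟨r, hr⟩, hr1⟩ := h
    have hr' : r ∈ Algebra.adjoin k ({x} : Set K) := hr
    rw [Algebra.adjoin_singleton_eq_range_aeval] at hr'
    obtain ⟨p, rfl⟩ := hr'
    have h1 : aeval x p * x = 1 := congrArg Subtype.val hr1
    have h2 : aeval x (p * X - 1) = 0 := by
      rw [map_sub, map_mul, aeval_X, map_one, h1, sub_self]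
    have h3 : p * X - 1 = 0 := by
      by_contra hne
      exact hx ⟨_, hne, h2⟩
    have h4 := congrArg (fun q => Polynomial.coeff q 0) h3
    simp at h4
  obtain ⟨B, hAB, hB⟩ := Ideal.image_subset_nonunits_valuationSubring _ hI
  refine ⟨B, fun c => hAB (Subalgebra.algebraMap_mem _ c), ?_⟩
  rw [← ValuationSubring.mem_nonunits_iff]
  exact hB ⟨xA, Ideal.subset_span (Set.mem_singleton _), rfl⟩


section general
variable {Γ₀ : Type*} [LinearOrderedCommGroupWithZero Γ₀] (v : Valuation K Γ₀)

theorem val_algebraMap_of_le (hv : ∀ c : k, v (algebraMap k K c) ≤ 1) {c : k} (hc : c ≠ 0) :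
    v (algebraMap k K c) = 1 := by
  apply le_antisymm (hv c)
  have h1 : v (algebraMap k K c⁻¹) ≤ 1 := hv c⁻¹
  have h2 : v (algebraMap k K c) * v (algebraMap k K c⁻¹) = 1 := by
    rw [← map_mul, ← map_mul, mul_inv_cancel₀ hc, map_one, map_one]
  by_contra hlt
  push Not at hlt
  have : v (algebraMap k K c) * v (algebraMap k K c⁻¹) < 1 := by
    calc v (algebraMap k K c) * v (algebraMap k K c⁻¹)
        ≤ v (algebraMap k K c) * 1 := by gcongr
      _ < 1 := by simpa using hlt
  exact absurd h2 (ne_of_lt this)

/-- The `k`-subalgebra of `v`-integral elements. -/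
def valSubalgebra (hv : ∀ c : k, v (algebraMap k K c) ≤ 1) : Subalgebra k K where
  carrier := {y | v y ≤ 1}
  mul_mem' {a b} ha hb := by
    show v (a * b) ≤ 1
    rw [map_mul]; exact mul_le_one' ha hb
  add_mem' {a b} ha hb := (v.map_add a b).trans (max_le ha hb)
  algebraMap_mem' c := hv c

theorem card_le_of_val_injective (hK : IsFunctionField k K)
    (hv : ∀ c : k, v (algebraMap k K c) ≤ 1) {z : K} (hz : Transcendental k z) (hz1 : v z ≤ 1)
    {ι : Type*} [Fintype ι] (y : ι → K) (hy1 : ∀ i, v (y i) ≤ 1) (hy2 : ∀ i, v z < v (y i))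
    (hinj : Function.Injective fun i => v (y i)) :
    Fintype.card ι ≤ Module.finrank (IntermediateField.adjoin k ({z} : Set K)) K := by
  classical
  have := finite_of_transcendental hK hz
  have hz0 : z ≠ 0 := fun h => hz (h ▸ isAlgebraic_zero)
  have hli : LinearIndependent (IntermediateField.adjoin k ({z} : Set K)) y := by
    refine linearIndependent_adjoin_of_mod (valSubalgebra v hv) (x := z) hz1 hz0 y hy1 ?_
    rintro s a ⟨r, hr, hsum⟩
    by_contra hne
    push Not at hne
    obtain ⟨i0, hi0s, hi0⟩ := hne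
    let s' := s.filter fun i => a i ≠ 0
    have hs' : s'.Nonempty := ⟨i0, Finset.mem_filter.2 ⟨hi0s, hi0⟩⟩
    obtain ⟨j, hjs', hjmax⟩ := Finset.exists_max_image s' (fun i => v (y i)) hs'
    have hsum' : ∑ i ∈ s, a i • y i = ∑ i ∈ s', a i • y i := by
      rw [Finset.sum_filter]
      refine Finset.sum_congr rfl fun i _ => ?_
      by_cases h : a i = 0 <;> simp [h]
    have hval : ∀ i ∈ s', v (a i • y i) = v (y i) := by
      intro i hi
      rw [Algebra.smul_def, map_mul, val_algebraMap_of_le v hv (Finset.mem_filter.1 hi).2, one_mul]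
    have hv1 : v (∑ i ∈ s', a i • y i) = v (a j • y j) := by
      refine Valuation.map_sum_eq_of_lt v hjs' fun i hi => ?_
      rw [Finset.mem_sdiff, Finset.mem_singleton] at hi
      rw [hval i hi.1, hval j hjs']
      exact lt_of_le_of_ne (hjmax i hi.1) fun h => hi.2 (hinj h)
    have hv2 : v (z * r) ≤ v z := by
      rw [map_mul]
      calc v z * v r ≤ v z * 1 := by gcongr; exact hr
        _ = v z := mul_one _
    have := hy2 j
    rw [← hval j hjs', ← hv1, ← hsum', hsum] at this
    exact absurd hv2 (not_le.2 this)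
  exact hli.fintype_card_le_finrank

end general

end Groth.Agent.Helper16.FF
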