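import Mathlib
import Groth.Agent.Lib.Helper16.FF.Zeros
import Groth.Agent.Lib.Helper16.FF.ExistsA
import Groth.Agent.Lib.Helper16.FF.ExistsB
import Groth.Agent.Lib.Helper16.FF.ExistsC

set_option autoImplicit false

namespace Groth.Agent.Helper16.FF

open FunFld IntermediateField Polynomial IsDedekindDomain
open scoped WithZero

variable {k K : Type*} [Field k] [Field K] [Algebra k K]

/-- A valuation subring of `K` containing `k` in which a transcendental element is a nonunit
is the valuation ring of a place. -/
theorem exists_place_of_valuationSubring (hK : IsFunctionField k K) (B : ValuationSubring K)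
    (hB : ∀ c : k, algebraMap k K c ∈ B) {x : K} (hx : Transcendental k x)
    (hx1 : B.valuation x < 1) :
    ∃ P : Place k K, (∀ y : K, P.1 y ≤ 1 ↔ y ∈ B) ∧ ∀ y : K, P.1 y < 1 ↔ B.valuation y < 1 := by
  have := isDiscreteValuationRing_of_valuationSubring hK B hB hx hx1
  let w : Valuation K ℤᵐ⁰ := (IsDiscreteValuationRing.maximalIdeal B).valuation K
  have hle : ∀ y : K, w y ≤ 1 ↔ y ∈ B := by
    intro y
    constructor
    · intro h
      obtain ⟨a, rfl⟩ := IsDiscreteValuationRing.exists_lift_of_le_one h
      exact a.2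
    · intro h
      exact HeightOneSpectrum.valuation_le_one (K := K) (IsDiscreteValuationRing.maximalIdeal B) ⟨y, h⟩
  have hlt : ∀ y : K, w y < 1 ↔ B.valuation y < 1 := by
    intro y
    constructor
    · intro h
      have hyB : y ∈ B := (hle y).1 h.le
      have := (HeightOneSpectrum.valuation_lt_one_iff_mem (K := K)
        (IsDiscreteValuationRing.maximalIdeal B) ⟨y, hyB⟩).1 h
      exact (B.valuation_lt_one_iff ⟨y, hyB⟩).1 this
    · intro h
      have hyB : y ∈ B := (B.valuation_le_one_iff y).1 h.le
      have := (B.valuation_lt_one_iff ⟨y, hyB⟩).2 h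
      exact (HeightOneSpectrum.valuation_lt_one_iff_mem (K := K)
        (IsDiscreteValuationRing.maximalIdeal B) ⟨y, hyB⟩).2 this
  refine ⟨⟨w, fun c => (hle _).2 (hB c), HeightOneSpectrum.valuation_surjective K _⟩, hle, hlt⟩

/-- A transcendental element has a zero. -/
theorem exists_zero (hK : IsFunctionField k K) {x : K} (hx : Transcendental k x) :
    ∃ P : Place k K, P.1 x < 1 := by
  obtain ⟨B, hB, hx1⟩ := exists_valuationSubring hx
  obtain ⟨P, -, hP⟩ := exists_place_of_valuationSubring hK B hB hx hx1
  exact ⟨P, (hP x).2 hx1⟩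

/-- A transcendental element has a pole. -/
theorem exists_pole (hK : IsFunctionField k K) {x : K} (hx : Transcendental k x) :
    ∃ P : Place k K, 1 < P.1 x := by
  obtain ⟨P, hP⟩ := exists_zero hK (transcendental_inv hx)
  refine ⟨P, ?_⟩
  have hx0 : x ≠ 0 := fun h => hx (h ▸ isAlgebraic_zero)
  rw [map_inv₀] at hP
  have hpos : 0 < P.1 x := by rw [Valuation.pos_iff]; exact hx0
  exact (inv_lt_one₀ hpos).1 hP

end Groth.Agent.Helper16.FF
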