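import Mathlib
import Groth.Agent.Lib.Helper16.FF.Exists
import Groth.Agent.Lib.Helper16.FF.RelDim2

set_option autoImplicit false

namespace Groth.Agent.Helper16.FF

open FunFld
open scoped WithZero

variable {k K : Type*} [Field k] [Field K] [Algebra k K]

theorem Divisor.deg_eq_sum (D : Divisor k K) (s : Finset (Place k K)) (hs : D.support ⊆ s) :
    D.deg = ∑ P ∈ s, D P * (P.deg : ℤ) := by
  unfold Divisor.deg
  exact Finsupp.sum_of_support_subset D hs _ (fun P _ => by simp)

theorem Divisor.deg_add (D E : Divisor k K) : (D + E).deg = D.deg + E.deg := by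
  unfold Divisor.deg
  exact Finsupp.sum_add_index' (fun P => by simp) (fun P a b => by ring)

theorem Divisor.deg_zero : (0 : Divisor k K).deg = 0 := by
  unfold Divisor.deg; simp

theorem Divisor.deg_neg (D : Divisor k K) : (-D).deg = -D.deg := by
  have := Divisor.deg_add D (-D)
  rw [add_neg_cancel, Divisor.deg_zero] at this
  omega

theorem Divisor.deg_sub (D E : Divisor k K) : (D - E).deg = D.deg - E.deg := by
  rw [sub_eq_add_neg, Divisor.deg_add, Divisor.deg_neg]; ring

theorem Divisor.deg_single (P : Place k K) (n : ℤ) :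
    Divisor.deg (Finsupp.single P n : Divisor k K) = n * P.deg := by
  unfold Divisor.deg
  rw [Finsupp.sum_single_index]; simp

theorem Divisor.deg_smul (n : ℤ) (D : Divisor k K) : (n • D).deg = n * D.deg := by
  unfold Divisor.deg
  rw [Finsupp.sum_smul_index (fun P => by simp)]
  rw [Finsupp.mul_sum]
  refine Finsupp.sum_congr fun P _ => ?_
  ring

theorem Divisor.deg_nsmul (n : ℕ) (D : Divisor k K) : (n • D).deg = n * D.deg := by
  rw [← natCast_zsmul, Divisor.deg_smul]

theorem mem_AD (D : Divisor k K) (a : Place k K → K) :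
    a ∈ AD D ↔ ∀ P : Place k K, P.1 (a P) ≤ WithZero.exp (D P) := Iff.rfl

theorem mem_L (D : Divisor k K) (x : K) :
    x ∈ L D ↔ ∀ P : Place k K, P.1 x ≤ WithZero.exp (D P) := Iff.rfl

theorem AD_mono {D₁ D₂ : Divisor k K} (h : D₁ ≤ D₂) : AD D₁ ≤ AD D₂ := fun _ ha P =>
  (ha P).trans (WithZero.exp_le_exp.2 (h P))

theorem L_mono {D₁ D₂ : Divisor k K} (h : D₁ ≤ D₂) : L D₁ ≤ L D₂ := fun _ ha P =>
  (ha P).trans (WithZero.exp_le_exp.2 (h P))

open scoped Classical in
/-- `dim A(D₂)/A(D₁) = ∑ (D₂ P - D₁ P) deg P`. -/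
theorem hasRelDim_AD_sum (hK : IsFunctionField k K) {D₁ D₂ : Divisor k K} (h : D₁ ≤ D₂) :
    HasRelDim (AD D₁) (AD D₂)
      (∑ P : ↥(D₁.support ∪ D₂.support), (D₂ P - D₁ P).toNat * (P : Place k K).deg) := by
  classical
  set s := D₁.support ∪ D₂.support with hs
  have hloc := fun P : ↥s => hasRelDim_Vloc hK (P : Place k K) (h P)
  let φ : ↥(AD D₂) →ₗ[k]
      (∀ P : ↥s, ↥(Vloc (P : Place k K) (D₂ P)) ⧸
        (Vloc (P : Place k K) (D₁ P)).comap (Vloc (P : Place k K) (D₂ P)).subtype) :=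
    LinearMap.pi fun P => (Submodule.mkQ _).comp
      (((LinearMap.proj (P : Place k K)).comp (AD D₂).subtype).codRestrict
        (Vloc (P : Place k K) (D₂ P)) (fun a => a.2 P))
  have hker : ∀ a : ↥(AD D₂), φ a = 0 ↔ (a : Place k K → K) ∈ AD D₁ := by
    intro a
    rw [funext_iff]
    simp only [φ, LinearMap.pi_apply, LinearMap.comp_apply, Submodule.mkQ_apply, Pi.zero_apply,
      Submodule.Quotient.mk_eq_zero, Submodule.mem_comap, Submodule.subtype_apply]
    constructor
    · intro hφ P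
      by_cases hP : P ∈ s
      · exact hφ ⟨P, hP⟩
      · have h1 : D₁ P = 0 := by
          by_contra hne
          exact hP (Finset.mem_union_left _ (Finsupp.mem_support_iff.2 hne))
        have h2 : D₂ P = 0 := by
          by_contra hne
          exact hP (Finset.mem_union_right _ (Finsupp.mem_support_iff.2 hne))
        have := a.2 P
        rwa [h2, ← h1] at this
    · intro ha P
      exact ha P
  have hsurj : Function.Surjective φ := by
    intro g
    have hrep : ∀ P : ↥s, ∃ y : ↥(Vloc (P : Place k K) (D₂ P)), Submodule.Quotient.mk y = g P :=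
      fun P => Submodule.Quotient.mk_surjective _ (g P)
    choose y hy using hrep
    let a : Place k K → K := fun Q => if hQ : Q ∈ s then (y ⟨Q, hQ⟩ : K) else 0
    have ha : a ∈ AD D₂ := by
      intro Q
      by_cases hQ : Q ∈ s
      · simp only [a, dif_pos hQ]
        exact (y ⟨Q, hQ⟩).2
      · simp only [a, dif_neg hQ, map_zero]
        exact zero_le
    refine ⟨⟨a, ha⟩, ?_⟩
    funext P
    rw [← hy P]
    simp only [φ, LinearMap.pi_apply, LinearMap.comp_apply, Submodule.mkQ_apply]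
    congr 1
    apply Subtype.ext
    show a P = y P
    simp only [a, dif_pos P.2]
  exact hasRelDim_pi_of_surjective' _ _ (fun P : ↥s => Vloc (P : Place k K) (D₁ P))
    (fun P : ↥s => Vloc (P : Place k K) (D₂ P))
    (fun P : ↥s => (D₂ P - D₁ P).toNat * (P : Place k K).deg) hloc φ hker hsurj

open scoped Classical in
theorem deg_sub_eq_sum {D₁ D₂ : Divisor k K} (h : D₁ ≤ D₂) :
    ((∑ P : ↥(D₁.support ∪ D₂.support), (D₂ P - D₁ P).toNat * (P : Place k K).deg : ℕ) : ℤ) =
      D₂.deg - D₁.deg := by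
  classical
  rw [Divisor.deg_eq_sum D₂ _ Finset.subset_union_right,
    Divisor.deg_eq_sum D₁ _ Finset.subset_union_left, ← Finset.sum_sub_distrib]
  rw [Finset.sum_coe_sort (D₁.support ∪ D₂.support)
    (fun P => (D₂ P - D₁ P).toNat * (P : Place k K).deg)]
  push_cast
  refine Finset.sum_congr rfl fun P _ => ?_
  rw [Int.toNat_of_nonneg (by have := h P; omega)]
  ring

theorem Divisor.deg_mono {D₁ D₂ : Divisor k K} (h : D₁ ≤ D₂) : D₁.deg ≤ D₂.deg := by
  classical
  have := deg_sub_eq_sum h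
  have h0 : (0 : ℤ) ≤ ((∑ P : ↥(D₁.support ∪ D₂.support),
    (D₂ P - D₁ P).toNat * (P : Place k K).deg : ℕ) : ℤ) := Int.natCast_nonneg _
  omega

/-- `dim A(D₂)/A(D₁) = deg D₂ - deg D₁`. -/
theorem hasRelDim_AD (hK : IsFunctionField k K) {D₁ D₂ : Divisor k K} (h : D₁ ≤ D₂) :
    HasRelDim (AD D₁) (AD D₂) (D₂.deg - D₁.deg).toNat := by
  classical
  have h1 := hasRelDim_AD_sum hK h
  have h2 := deg_sub_eq_sum h
  rw [← h2, Int.toNat_natCast]
  exact h1

end Groth.Agent.Helper16.FF
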