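import Mathlib
import Groth.Agent.Lib.Helper16.FF.Adele

set_option autoImplicit false

namespace Groth.Agent.Helper16.FF

open FunFld
open scoped WithZero

variable {k K : Type*} [Field k] [Field K] [Algebra k K]

theorem diag_apply (x : K) (P : Place k K) : diag k K x P = x := rfl

theorem diag_mem_AD (D : Divisor k K) (x : K) : diag k K x ∈ AD D ↔ x ∈ L D := Iff.rfl

/-- `dim L(D₂)/L(D₁) ≤ deg D₂ - deg D₁`. -/
theorem exists_hasRelDim_L (hK : IsFunctionField k K) {D₁ D₂ : Divisor k K} (h : D₁ ≤ D₂) :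
    ∃ d, d ≤ (D₂.deg - D₁.deg).toNat ∧ HasRelDim (L D₁) (L D₂) d := by
  have hA := hasRelDim_AD hK h
  have hf := hA.1
  let φ : ↥(L D₂) →ₗ[k] (↥(AD D₂) ⧸ (AD D₁).comap (AD D₂).subtype) :=
    (Submodule.mkQ _).comp (((diag k K).comp (L D₂).subtype).codRestrict (AD D₂) (fun x => x.2))
  have hker : ∀ x : ↥(L D₂), φ x = 0 ↔ (x : K) ∈ L D₁ := by
    intro x
    simp only [φ, LinearMap.comp_apply, Submodule.mkQ_apply, Submodule.Quotient.mk_eq_zero,
      Submodule.mem_comap, Submodule.subtype_apply]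
    rfl
  obtain ⟨d, hd, hd'⟩ := hasRelDim_le_of_ker (L D₁) (L D₂) φ hker
  exact ⟨d, by rw [← hA.2]; exact hd, hd'⟩

theorem L_zero_eq_one (hK : IsFunctionField k K) : L (0 : Divisor k K) = 1 := by
  ext x
  rw [Submodule.mem_one]
  constructor
  · intro hxL
    by_contra hne
    have hx : x ∉ Set.range (algebraMap k K) := hne
    have htr := transcendental_of_not_mem_range hK hx
    obtain ⟨Q, hQ⟩ := exists_pole hK htr
    have h1 : Q.1 x ≤ WithZero.exp ((0 : Divisor k K) Q) := hxL Q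
    rw [Finsupp.zero_apply, WithZero.exp_zero] at h1
    exact absurd h1 (not_le.2 hQ)
  · rintro ⟨c, rfl⟩
    intro P
    rw [Finsupp.zero_apply, WithZero.exp_zero]
    exact P.2.1 c

theorem finrank_L_zero (hK : IsFunctionField k K) :
    FiniteDimensional k (L (0 : Divisor k K)) ∧ Module.finrank k (L (0 : Divisor k K)) = 1 := by
  rw [L_zero_eq_one hK, Submodule.one_eq_span]
  exact ⟨inferInstance, finrank_span_singleton one_ne_zero⟩

theorem finiteDimensional_L (hK : IsFunctionField k K) (D : Divisor k K) :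
    FiniteDimensional k (L D) := by
  have h0 : (0 : Divisor k K) ≤ D ⊔ 0 := le_sup_right
  obtain ⟨d, -, hd⟩ := exists_hasRelDim_L hK h0
  have := (finrank_L_zero hK).1
  have := (hd.finrank_add (L_mono h0)).1
  exact Submodule.finiteDimensional_of_le (L_mono (le_sup_left : D ≤ D ⊔ 0))

theorem ell_sub_le (hK : IsFunctionField k K) {D₁ D₂ : Divisor k K} (h : D₁ ≤ D₂) :
    (ell D₂ : ℤ) - ell D₁ ≤ D₂.deg - D₁.deg := by
  obtain ⟨d, hd, hd'⟩ := exists_hasRelDim_L hK h
  have := finiteDimensional_L hK D₁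
  have h2 := (hd'.finrank_add (L_mono h)).2
  have h3 := Divisor.deg_mono h
  unfold ell
  rw [h2]
  push_cast
  have : (d : ℤ) ≤ D₂.deg - D₁.deg := by
    have := Int.toNat_of_nonneg (show (0 : ℤ) ≤ D₂.deg - D₁.deg by omega)
    omega
  omega

theorem ell_mono (hK : IsFunctionField k K) {D₁ D₂ : Divisor k K} (h : D₁ ≤ D₂) :
    ell D₁ ≤ ell D₂ := by
  have := finiteDimensional_L hK D₂
  exact Submodule.finrank_mono (L_mono h)

theorem ell_zero (hK : IsFunctionField k K) : ell (0 : Divisor k K) = 1 := (finrank_L_zero hK).2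

theorem ell_le_deg_add_one (hK : IsFunctionField k K) {D : Divisor k K} (hD : 0 ≤ D) :
    (ell D : ℤ) ≤ D.deg + 1 := by
  have := ell_sub_le hK hD
  rw [ell_zero hK, Divisor.deg_zero] at this
  push_cast at this
  omega

end Groth.Agent.Helper16.FF
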