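import Mathlib
import Groth.Agent.Lib.Helper16.FF.LD

set_option autoImplicit false

namespace Groth.Agent.Helper16.FF

open FunFld
open scoped WithZero

variable {k K : Type*} [Field k] [Field K] [Algebra k K]

theorem exists_place (hK : IsFunctionField k K) : Nonempty (Place k K) := by
  obtain ⟨x, hx, -⟩ := hK.1
  obtain ⟨P, -⟩ := exists_zero hK hx
  exact ⟨P⟩

theorem diag_injective (hK : IsFunctionField k K) : Function.Injective (diag k K) := by
  obtain ⟨P⟩ := exists_place hK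
  intro x y h
  exact congrFun h P

theorem AD_inf_range_diag (D : Divisor k K) :
    AD D ⊓ LinearMap.range (diag k K) = (L D).map (diag k K) := by
  ext a
  constructor
  · rintro ⟨ha, x, rfl⟩
    exact ⟨x, ha, rfl⟩
  · rintro ⟨x, hx, rfl⟩
    exact ⟨hx, x, rfl⟩

/-- exact value of `dim L(D₂)/L(D₁)` -/
theorem hasRelDim_L (hK : IsFunctionField k K) {D₁ D₂ : Divisor k K} (h : D₁ ≤ D₂) :
    HasRelDim (L D₁) (L D₂) (ell D₂ - ell D₁) := by
  obtain ⟨d, hd, hd'⟩ := exists_hasRelDim_L hK h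
  have := finiteDimensional_L hK D₁
  have h2 := (hd'.finrank_add (L_mono h)).2
  have : ell D₂ - ell D₁ = d := by unfold ell; omega
  rw [this]; exact hd'

/-- `dim (A(D₂)+K)/(A(D₁)+K)`. -/
theorem hasRelDim_AD_sup (hK : IsFunctionField k K) {D₁ D₂ : Divisor k K} (h : D₁ ≤ D₂) :
    HasRelDim (AD D₁ ⊔ LinearMap.range (diag k K)) (AD D₂ ⊔ LinearMap.range (diag k K))
      ((D₂.deg - D₁.deg).toNat - (ell D₂ - ell D₁)) ∧
      ell D₂ - ell D₁ ≤ (D₂.deg - D₁.deg).toNat := by
  have hA := hasRelDim_AD hK h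
  have hL := (hasRelDim_L hK h).map (diag k K) (diag_injective hK)
  rw [← AD_inf_range_diag, ← AD_inf_range_diag] at hL
  exact hA.sup_right (AD_mono h) hL

theorem finrank_AD_sup (hK : IsFunctionField k K) {D₁ D₂ : Divisor k K} (h : D₁ ≤ D₂) :
    FiniteDimensional k (↥(AD D₂ ⊔ LinearMap.range (diag k K)) ⧸
        Submodule.comap (AD D₂ ⊔ LinearMap.range (diag k K)).subtype
          (AD D₁ ⊔ LinearMap.range (diag k K))) ∧
    (Module.finrank k (↥(AD D₂ ⊔ LinearMap.range (diag k K)) ⧸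
        Submodule.comap (AD D₂ ⊔ LinearMap.range (diag k K)).subtype
          (AD D₁ ⊔ LinearMap.range (diag k K))) : ℤ) =
      (D₂.deg + 1 - ell D₂) - (D₁.deg + 1 - ell D₁) := by
  obtain ⟨h1, h2⟩ := hasRelDim_AD_sup hK h
  refine ⟨h1.1, ?_⟩
  rw [h1.2]
  have h3 := Divisor.deg_mono h
  have h4 := ell_mono hK h
  have h5 := Int.toNat_of_nonneg (show (0 : ℤ) ≤ D₂.deg - D₁.deg by omega)
  omega

end Groth.Agent.Helper16.FF
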