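import Mathlib
import Groth.Agent.Lib.Helper16.FF.ADK

set_option autoImplicit false

namespace Groth.Agent.Helper16.FF

open FunFld IntermediateField
open scoped WithZero

variable {k K : Type*} [Field k] [Field K] [Algebra k K]

theorem div_apply (hK : IsFunctionField k K) (x : K) (P : Place k K) : div k x P = P.ord x := by
  unfold div
  rw [dif_pos (finite_support_ord hK x)]
  rfl

theorem div_zero (hK : IsFunctionField k K) : div k (0 : K) = 0 := by
  ext P; rw [div_apply hK, Place.ord_zero]; rfl

theorem div_inv (hK : IsFunctionField k K) (x : K) : div k x⁻¹ = -div k x := by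
  ext P; rw [Finsupp.neg_apply, div_apply hK, div_apply hK, Place.ord_inv]

theorem div_mul (hK : IsFunctionField k K) {x y : K} (hx : x ≠ 0) (hy : y ≠ 0) :
    div k (x * y) = div k x + div k y := by
  ext P; rw [Finsupp.add_apply, div_apply hK, div_apply hK, div_apply hK, Place.ord_mul P hx hy]

theorem div_algebraMap (hK : IsFunctionField k K) (c : k) : div k (algebraMap k K c) = 0 := by
  ext P; rw [div_apply hK, Place.ord_algebraMap]; rfl

theorem div_pow (hK : IsFunctionField k K) (x : K) (n : ℕ) : div k (x ^ n) = n • div k x := by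
  ext P; rw [Finsupp.smul_apply, div_apply hK, div_apply hK, Place.ord_pow]; simp

/-- the divisor of zeros -/
noncomputable def zeroDiv (x : K) : Divisor k K := div k x ⊔ 0

/-- the divisor of poles -/
noncomputable def poleDiv (x : K) : Divisor k K := (-div k x) ⊔ 0

theorem zeroDiv_apply (hK : IsFunctionField k K) (x : K) (P : Place k K) :
    zeroDiv x P = max (P.ord x) 0 := by
  unfold zeroDiv
  rw [Finsupp.sup_apply, div_apply hK]; rfl

theorem poleDiv_apply (hK : IsFunctionField k K) (x : K) (P : Place k K) :
    poleDiv x P = max (-P.ord x) 0 := by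
  unfold poleDiv
  rw [Finsupp.sup_apply, Finsupp.neg_apply, div_apply hK]; rfl

theorem zeroDiv_nonneg (x : K) : (0 : Divisor k K) ≤ zeroDiv x := le_sup_right
theorem poleDiv_nonneg (x : K) : (0 : Divisor k K) ≤ poleDiv x := le_sup_right

theorem poleDiv_inv (hK : IsFunctionField k K) (x : K) : (poleDiv x⁻¹ : Divisor k K) = zeroDiv x := by
  unfold poleDiv zeroDiv
  rw [div_inv hK, neg_neg]

theorem zeroDiv_sub_poleDiv (hK : IsFunctionField k K) (x : K) :
    (zeroDiv x - poleDiv x : Divisor k K) = div k x := by
  ext P
  rw [Finsupp.sub_apply, zeroDiv_apply hK, poleDiv_apply hK, div_apply hK]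
  rcases le_total (P.ord x) 0 with h | h
  · rw [max_eq_right h, max_eq_left (by omega)]; ring
  · rw [max_eq_left h, max_eq_right (by omega)]; ring

theorem mem_L_poleDiv (hK : IsFunctionField k K) (x : K) : x ∈ L (poleDiv x : Divisor k K) := by
  intro P
  by_cases hx : x = 0
  · subst hx; simp
  rw [Place.val_le_exp_iff P hx, poleDiv_apply hK]
  have := le_max_left (-P.ord x) 0
  omega

theorem mem_L_iff (hK : IsFunctionField k K) (D : Divisor k K) {x : K} (hx : x ≠ 0) :
    x ∈ L D ↔ -D ≤ div k x := by
  rw [mem_L]
  refine forall_congr' fun P => ?_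
  rw [Place.val_le_exp_iff P hx, Finsupp.neg_apply, div_apply hK]

end Groth.Agent.Helper16.FF
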