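import Mathlib
import Groth.Agent.Lib.Helper16.FF.DegB

set_option autoImplicit false

namespace Groth.Agent.Helper16.FF

open FunFld IntermediateField Polynomial
open scoped WithZero

variable {k K : Type*} [Field k] [Field K] [Algebra k K]

theorem adjoin_inv (x : K) :
    IntermediateField.adjoin k ({x⁻¹} : Set K) = IntermediateField.adjoin k ({x} : Set K) := by
  apply le_antisymm
  · rw [adjoin_simple_le_iff]
    exact inv_mem (mem_adjoin_simple_self k x)
  · rw [adjoin_simple_le_iff]
    have := inv_mem (mem_adjoin_simple_self k x⁻¹)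
    rwa [inv_inv] at this

theorem finrank_adjoin_inv (x : K) :
    Module.finrank (IntermediateField.adjoin k ({x⁻¹} : Set K)) K =
      Module.finrank (IntermediateField.adjoin k ({x} : Set K)) K :=
  congrArg (fun F : IntermediateField k K => Module.finrank F K) (adjoin_inv x)

theorem zeroDiv_inv (hK : IsFunctionField k K) (x : K) :
    (zeroDiv x⁻¹ : Divisor k K) = poleDiv x := by
  have := poleDiv_inv hK x⁻¹
  rw [inv_inv] at this
  exact this.symm

theorem deg_poleDiv (hK : IsFunctionField k K) {x : K} (hx : Transcendental k x) :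
    (poleDiv x : Divisor k K).deg = Module.finrank (IntermediateField.adjoin k ({x} : Set K)) K := by
  apply le_antisymm
  · rw [← zeroDiv_inv hK, ← finrank_adjoin_inv]
    exact deg_zeroDiv_le hK (transcendental_inv hx)
  · exact le_deg_poleDiv hK hx

theorem deg_zeroDiv (hK : IsFunctionField k K) {x : K} (hx : Transcendental k x) :
    (zeroDiv x : Divisor k K).deg = Module.finrank (IntermediateField.adjoin k ({x} : Set K)) K := by
  rw [← poleDiv_inv hK, deg_poleDiv hK (transcendental_inv hx), finrank_adjoin_inv]

theorem deg_div (hK : IsFunctionField k K) (x : K) : (div k x).deg = 0 := by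
  by_cases hx : IsAlgebraic k x
  · obtain ⟨c, rfl⟩ := hK.2 x hx
    rw [div_algebraMap hK, Divisor.deg_zero]
  · have hx' : Transcendental k x := hx
    rw [← zeroDiv_sub_poleDiv hK, Divisor.deg_sub, deg_zeroDiv hK hx', deg_poleDiv hK hx', sub_self]

theorem L_eq_bot_of_deg_neg (hK : IsFunctionField k K) {D : Divisor k K} (h : D.deg < 0) :
    L D = ⊥ := by
  rw [eq_bot_iff]
  intro x hx
  rw [Submodule.mem_bot]
  by_contra hx0
  rw [mem_L_iff hK D hx0] at hx
  have := Divisor.deg_mono hx
  rw [Divisor.deg_neg, deg_div hK] at this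
  omega

end Groth.Agent.Helper16.FF
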