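import Mathlib
import Groth.Agent.Lib.Helper16.FF.Deg

set_option autoImplicit false

namespace Groth.Agent.Helper16.FF

open FunFld IntermediateField Polynomial
open scoped WithZero

variable {k K : Type*} [Field k] [Field K] [Algebra k K]

theorem mul_mem_L_iff (hK : IsFunctionField k K) (D : Divisor k K) {x : K} (hx : x ≠ 0) (y : K) :
    x * y ∈ L D ↔ y ∈ L (D + div k x) := by
  rw [mem_L, mem_L]
  refine forall_congr' fun P => ?_
  rw [map_mul, Finsupp.add_apply, div_apply hK, Place.val_eq_exp_neg_ord P hx, WithZero.exp_add]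
  have h1 : (WithZero.exp (P.ord x) : ℤᵐ⁰) * WithZero.exp (-P.ord x) = 1 := by
    rw [← WithZero.exp_add, add_neg_cancel, WithZero.exp_zero]
  constructor
  · intro h
    calc P.1 y = WithZero.exp (P.ord x) * (WithZero.exp (-P.ord x) * P.1 y) := by
          rw [← mul_assoc, h1, one_mul]
      _ ≤ WithZero.exp (P.ord x) * WithZero.exp (D P) := by gcongr
      _ = WithZero.exp (D P) * WithZero.exp (P.ord x) := mul_comm _ _
  · intro h
    calc WithZero.exp (-P.ord x) * P.1 y
        ≤ WithZero.exp (-P.ord x) * (WithZero.exp (D P) * WithZero.exp (P.ord x)) := by gcongr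
      _ = WithZero.exp (D P) * (WithZero.exp (P.ord x) * WithZero.exp (-P.ord x)) := by
          rw [mul_comm (WithZero.exp (-P.ord x)), mul_assoc]
      _ = WithZero.exp (D P) := by rw [h1, mul_one]

/-- multiplication by `x` as a linear equivalence `L(D + (x)) ≃ L(D)` -/
theorem map_mulLeft_L (hK : IsFunctionField k K) (D : Divisor k K) {x : K} (hx : x ≠ 0) :
    (L (D + div k x)).map (LinearMap.mulLeft k x) = L D := by
  ext y
  constructor
  · rintro ⟨z, hz, rfl⟩
    exact (mul_mem_L_iff hK D hx z).2 hz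
  · intro hy
    refine ⟨x⁻¹ * y, ?_, ?_⟩
    · rw [SetLike.mem_coe, ← mul_mem_L_iff hK D hx, ← mul_assoc, mul_inv_cancel₀ hx, one_mul]
      exact hy
    · simp [← mul_assoc, mul_inv_cancel₀ hx]

theorem ell_add_div (hK : IsFunctionField k K) (D : Divisor k K) {x : K} (hx : x ≠ 0) :
    ell (D + div k x) = ell D := by
  have hinj : Function.Injective (LinearMap.mulLeft k x) := by
    intro a b h
    exact mul_left_cancel₀ hx h
  have e := Submodule.equivMapOfInjective (LinearMap.mulLeft k x) hinj (L (D + div k x))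
  unfold ell
  rw [e.finrank_eq, map_mulLeft_L hK D hx]

theorem deg_add_div (hK : IsFunctionField k K) (D : Divisor k K) (x : K) :
    (D + div k x).deg = D.deg := by
  rw [Divisor.deg_add, deg_div hK, add_zero]

/-- `δ(D) = deg D - ℓ(D)` -/
noncomputable def delta (D : Divisor k K) : ℤ := D.deg - ell D

theorem delta_mono (hK : IsFunctionField k K) {D₁ D₂ : Divisor k K} (h : D₁ ≤ D₂) :
    delta D₁ ≤ delta D₂ := by
  have := ell_sub_le hK h
  unfold delta; omega

theorem delta_add_div (hK : IsFunctionField k K) (D : Divisor k K) {x : K} (hx : x ≠ 0) :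
    delta (D + div k x) = delta D := by
  unfold delta
  rw [ell_add_div hK D hx, deg_add_div hK]

theorem exists_ne_zero_mem_L (hK : IsFunctionField k K) {D : Divisor k K} (h : 0 < ell D) :
    ∃ z : K, z ≠ 0 ∧ z ∈ L D := by
  have := finiteDimensional_L hK D
  obtain ⟨z, hz⟩ := Module.finrank_pos_iff_exists_ne_zero.1 h
  exact ⟨z, fun h0 => hz (Subtype.ext h0), z.2⟩

/-- `deg D - ℓ(D)` is bounded above. -/
theorem delta_bounded (hK : IsFunctionField k K) : ∃ γ : ℤ, ∀ D : Divisor k K, delta D ≤ γ := by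
  obtain ⟨x, hx, -⟩ := hK.1
  have hfin := finite_of_transcendental hK hx
  obtain ⟨C, hC0, key⟩ := exists_large_ell hK hx
  set n := Module.finrank (IntermediateField.adjoin k ({x} : Set K)) K with hn
  set B : Divisor k K := poleDiv x with hB
  have hnpos : 0 < n := Module.finrank_pos
  have hBdeg : B.deg = n := deg_poleDiv hK hx
  -- bound for multiples of B
  have hlB : ∀ l : ℕ, delta (l • B) ≤ C.deg - n := by
    intro l
    have h1 : l • B ≤ l • B + C := le_add_of_nonneg_right hC0
    have h2 := ell_sub_le hK h1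
    have h3 := key l
    have h3' : (((l + 1) * n : ℕ) : ℤ) ≤ (ell (l • B + C) : ℤ) := Int.ofNat_le.2 h3
    push_cast at h3'
    unfold delta
    rw [Divisor.deg_add] at h2
    rw [Divisor.deg_nsmul, hBdeg]
    nlinarith
  refine ⟨C.deg - n, fun A => ?_⟩
  set A₁ : Divisor k K := A ⊔ 0 with hA₁
  have hAA₁ : A ≤ A₁ := le_sup_left
  have hA₁0 : 0 ≤ A₁ := le_sup_right
  -- choose l large
  obtain ⟨l, hl⟩ : ∃ l : ℕ, C.deg - n + A₁.deg < l * n := by
    refine ⟨(C.deg - n + A₁.deg).toNat + 1, ?_⟩
    have h6 : (0 : ℤ) < n := by exact_mod_cast hnpos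
    have := Int.self_le_toNat (C.deg - n + A₁.deg)
    push_cast
    nlinarith
  have h1 : l • B - A₁ ≤ l • B := sub_le_self _ hA₁0
  have h2 := ell_sub_le hK h1
  have h3 := hlB l
  have hpos : 0 < ell (l • B - A₁) := by
    unfold delta at h3
    rw [Divisor.deg_nsmul, hBdeg] at h3
    rw [Divisor.deg_sub, Divisor.deg_nsmul, hBdeg] at h2
    have : (0 : ℤ) < ell (l • B - A₁) := by linarith
    exact_mod_cast this
  obtain ⟨z, hz0, hz⟩ := exists_ne_zero_mem_L hK hpos
  rw [mem_L_iff hK _ hz0] at hz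
  -- D := A₁ + div z⁻¹ ≤ l • B
  have hD : A₁ + div k z⁻¹ ≤ l • B := by
    rw [div_inv hK]
    have := add_le_add_right hz (l • B - div k z)
    have e1 : l • B - div k z + -(l • B - A₁) = A₁ + -div k z := by abel
    have e2 : l • B - div k z + div k z = l • B := by abel
    rwa [e1, e2] at this
  calc delta A ≤ delta A₁ := delta_mono hK hAA₁
    _ = delta (A₁ + div k z⁻¹) := (delta_add_div hK A₁ (inv_ne_zero hz0)).symm
    _ ≤ delta (l • B) := delta_mono hK hD
    _ ≤ C.deg - n := hlB l

end Groth.Agent.Helper16.FF
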