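import Mathlib
import Groth.Agent.Lib.Helper16.FF.RiemannA

set_option autoImplicit false

namespace Groth.Agent.Helper16.FF

open FunFld IntermediateField Polynomial
open scoped WithZero

variable {k K : Type*} [Field k] [Field K] [Algebra k K]

theorem genus_bddAbove (hK : IsFunctionField k K) :
    BddAbove (Set.range fun D : Divisor k K => (D.deg + 1 - (ell D : ℤ)).toNat) := by
  obtain ⟨γ, hγ⟩ := delta_bounded hK
  refine ⟨(γ + 1).toNat, ?_⟩
  rintro _ ⟨D, rfl⟩
  have := hγ D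
  unfold delta at this
  show (D.deg + 1 - (ell D : ℤ)).toNat ≤ (γ + 1).toNat
  omega

/-- Riemann's inequality. -/
theorem riemann_le (hK : IsFunctionField k K) (D : Divisor k K) :
    D.deg + 1 - (ell D : ℤ) ≤ genus k K := by
  have h1 : (D.deg + 1 - (ell D : ℤ)).toNat ≤ genus k K :=
    le_csSup (genus_bddAbove hK) ⟨D, rfl⟩
  have := Int.self_le_toNat (D.deg + 1 - (ell D : ℤ))
  omega

theorem exists_genus_eq (hK : IsFunctionField k K) :
    ∃ A₀ : Divisor k K, A₀.deg + 1 - (ell A₀ : ℤ) = genus k K := by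
  have hne : (Set.range fun D : Divisor k K => (D.deg + 1 - (ell D : ℤ)).toNat).Nonempty :=
    ⟨_, ⟨0, rfl⟩⟩
  obtain ⟨A₀, hA₀⟩ := Nat.sSup_mem hne (genus_bddAbove hK)
  have hA₀' : (A₀.deg + 1 - (ell A₀ : ℤ)).toNat = genus k K := hA₀
  by_cases h : 0 ≤ A₀.deg + 1 - (ell A₀ : ℤ)
  · exact ⟨A₀, by rw [← hA₀']; exact (Int.toNat_of_nonneg h).symm⟩
  · refine ⟨0, ?_⟩
    have : genus k K = 0 := by rw [← hA₀']; omega
    rw [this, Divisor.deg_zero, ell_zero hK]; simp

/-- Riemann's theorem. -/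
theorem riemann_eq (hK : IsFunctionField k K) :
    ∃ N : ℤ, ∀ D : Divisor k K, N ≤ D.deg → D.deg + 1 - (ell D : ℤ) = genus k K := by
  obtain ⟨A₀, hA₀⟩ := exists_genus_eq hK
  refine ⟨A₀.deg + genus k K, fun A hA => ?_⟩
  apply le_antisymm (riemann_le hK A)
  have h1 := riemann_le hK (A - A₀)
  rw [Divisor.deg_sub] at h1
  have hpos : 0 < ell (A - A₀) := by
    have : (0 : ℤ) < ell (A - A₀) := by omega
    exact_mod_cast this
  obtain ⟨z, hz0, hz⟩ := exists_ne_zero_mem_L hK hpos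
  rw [mem_L_iff hK _ hz0] at hz
  have hle : A₀ ≤ A + div k z := by
    have := add_le_add_right hz A
    have e1 : A + -(A - A₀) = A₀ := by abel
    rwa [e1] at this
  have h2 := delta_mono hK hle
  rw [delta_add_div hK A hz0] at h2
  unfold delta at h2
  omega

end Groth.Agent.Helper16.FF
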