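import Mathlib
import Groth.Agent.Lib.Helper16.FF.Riemann

set_option autoImplicit false

namespace Groth.Agent.Helper16.FF

open FunFld IntermediateField Polynomial
open scoped WithZero

variable {k K : Type*} [Field k] [Field K] [Algebra k K]

theorem mem_adele (a : Place k K → K) :
    a ∈ adele k K ↔ {P : Place k K | ¬ P.1 (a P) ≤ 1}.Finite := by
  show (∀ᶠ P : Place k K in Filter.cofinite, P.1 (a P) ≤ 1) ↔ _
  rw [Filter.eventually_cofinite]

theorem AD_le_adele (D : Divisor k K) : AD D ≤ adele k K := by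
  intro a ha
  rw [mem_adele]
  refine D.support.finite_toSet.subset ?_
  intro P hP
  by_contra hne
  have h0 : D P = 0 := by
    by_contra h; exact hne (Finsupp.mem_support_iff.2 h)
  have := ha P
  rw [h0, WithZero.exp_zero] at this
  exact hP this

theorem range_diag_le_adele (hK : IsFunctionField k K) :
    LinearMap.range (diag k K) ≤ adele k K := by
  rintro _ ⟨x, rfl⟩
  rw [mem_adele]
  refine (finite_support_ord hK x).subset ?_
  intro P hP
  simp only [Set.mem_ofPred_eq, diag_apply] at hP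
  simp only [Function.mem_support]
  by_cases hx : x = 0
  · subst hx; simp at hP
  · rw [Place.val_le_one_iff P hx] at hP
    omega

theorem exists_AD_of_mem_adele {a : Place k K → K} (ha : a ∈ adele k K) (D₁ : Divisor k K) :
    ∃ D₂ : Divisor k K, D₁ ≤ D₂ ∧ a ∈ AD D₂ := by
  classical
  rw [mem_adele] at ha
  let f : Place k K → ℤ := fun P => if P.1 (a P) ≤ 1 then 0 else -P.ord (a P)
  have hf : (Function.support f).Finite := by
    refine ha.subset ?_
    intro P hP
    simp only [Function.mem_support, f] at hP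
    simp only [Set.mem_ofPred_eq]
    intro h
    exact hP (if_pos h)
  let Da : Divisor k K := Finsupp.ofSupportFinite f hf
  have hDa : a ∈ AD Da := by
    intro P
    show P.1 (a P) ≤ WithZero.exp (f P)
    by_cases h : P.1 (a P) ≤ 1
    · simp only [f, if_pos h, WithZero.exp_zero]; exact h
    · simp only [f, if_neg h]
      have h0 : a P ≠ 0 := by
        intro h0; rw [h0, map_zero] at h; exact h zero_le
      rw [Place.val_eq_exp_neg_ord P h0]
  exact ⟨D₁ ⊔ Da, le_sup_left, AD_mono le_sup_right hDa⟩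

theorem HasRelDim.eq_of_zero {V : Type*} [AddCommGroup V] [Module k V] {T S : Submodule k V}
    (hTS : T ≤ S) (h : HasRelDim T S 0) : T = S := by
  obtain ⟨f, r⟩ := h
  have hsub : Subsingleton (↥S ⧸ T.comap S.subtype) := Module.finrank_zero_iff.1 r
  have htop : T.comap S.subtype = ⊤ := Submodule.Quotient.subsingleton_iff.1 hsub
  apply le_antisymm hTS
  intro s hs
  have : (⟨s, hs⟩ : ↥S) ∈ T.comap S.subtype := by rw [htop]; trivial
  exact this

theorem AD_sup_eq_adele (hK : IsFunctionField k K) {D : Divisor k K}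
    (hD : D.deg + 1 - (ell D : ℤ) = genus k K) :
    AD D ⊔ LinearMap.range (diag k K) = adele k K := by
  apply le_antisymm (sup_le (AD_le_adele D) (range_diag_le_adele hK))
  intro a ha
  obtain ⟨D₂, hD₂, haD₂⟩ := exists_AD_of_mem_adele ha D
  obtain ⟨h1, h2⟩ := hasRelDim_AD_sup hK hD₂
  have h3 := riemann_le hK D₂
  have h4 := Divisor.deg_mono hD₂
  have h5 := ell_mono hK hD₂
  have h6 := Int.toNat_of_nonneg (show (0 : ℤ) ≤ D₂.deg - D.deg by omega)
  have h0 : (D₂.deg - D.deg).toNat - (ell D₂ - ell D) = 0 := by omega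
  rw [h0] at h1
  have heq := HasRelDim.eq_of_zero (sup_le_sup_right (AD_mono hD₂) _) h1
  rw [heq]
  exact Submodule.mem_sup_left haD₂

theorem exists_ge_deg_ge (hK : IsFunctionField k K) (D : Divisor k K) (N : ℤ) :
    ∃ D₁ : Divisor k K, D ≤ D₁ ∧ N ≤ D₁.deg := by
  obtain ⟨P⟩ := exists_place hK
  refine ⟨(D ⊔ 0) + N.toNat • (Finsupp.single P 1 : Divisor k K), ?_, ?_⟩
  · calc D ≤ D ⊔ 0 := le_sup_left
      _ ≤ _ := le_add_of_nonneg_right (nsmul_nonneg (by
          intro Q; simp only [Finsupp.coe_zero, Pi.zero_apply]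
          classical
          rw [Finsupp.single_apply]; split_ifs <;> omega) _)
  · rw [Divisor.deg_add, Divisor.deg_nsmul, Divisor.deg_single]
    have h1 : (0 : ℤ) ≤ (D ⊔ 0 : Divisor k K).deg := by
      have := Divisor.deg_mono (le_sup_right : (0 : Divisor k K) ≤ D ⊔ 0)
      rwa [Divisor.deg_zero] at this
    have h2 := Place.deg_pos hK P
    have h3 := Int.self_le_toNat N
    have h4 : (1 : ℤ) ≤ (P.deg : ℤ) := by exact_mod_cast h2
    have h5 : (0 : ℤ) ≤ (N.toNat : ℤ) := Int.natCast_nonneg _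
    nlinarith

/-- `dim A/(A(D)+K) = g - (deg D + 1 - ℓ(D))`. -/
theorem hasRelDim_adele (hK : IsFunctionField k K) (D : Divisor k K) :
    HasRelDim (AD D ⊔ LinearMap.range (diag k K)) (adele k K)
      ((genus k K : ℤ) - (D.deg + 1 - ell D)).toNat := by
  obtain ⟨N, hN⟩ := riemann_eq hK
  obtain ⟨D₁, hDD₁, hD₁⟩ := exists_ge_deg_ge hK D N
  have hg := hN D₁ hD₁
  have hA := AD_sup_eq_adele hK hg
  obtain ⟨h1, h2⟩ := hasRelDim_AD_sup hK hDD₁
  rw [hA] at h1
  have h4 := Divisor.deg_mono hDD₁
  have h5 := ell_mono hK hDD₁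
  have h6 := Int.toNat_of_nonneg (show (0 : ℤ) ≤ D₁.deg - D.deg by omega)
  have h7 := riemann_le hK D
  have h0 : (D₁.deg - D.deg).toNat - (ell D₁ - ell D) =
      ((genus k K : ℤ) - (D.deg + 1 - ell D)).toNat := by omega
  rw [← h0]; exact h1

end Groth.Agent.Helper16.FF
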