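import Mathlib
import Groth.Agent.Lib.Helper16.FF.AdeleSpace

set_option autoImplicit false

namespace Groth.Agent.Helper16.FF

open FunFld IntermediateField Polynomial
open scoped WithZero

variable {k K : Type*} [Field k] [Field K] [Algebra k K]

/-- index of specialty -/
noncomputable def idx (D : Divisor k K) : ℕ := ((genus k K : ℤ) - (D.deg + 1 - ell D)).toNat

theorem idx_eq (hK : IsFunctionField k K) (D : Divisor k K) :
    (idx D : ℤ) = (genus k K : ℤ) - (D.deg + 1 - ell D) := by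
  have h7 := riemann_le hK D
  unfold idx
  rw [Int.toNat_of_nonneg (by omega)]

theorem finrank_WD (hK : IsFunctionField k K) (D : Divisor k K) :
    FiniteDimensional k (WD D) ∧ Module.finrank k (WD D) = idx D := by
  have h := hasRelDim_adele hK D
  have hf : FiniteDimensional k (↥(adele k K) ⧸ ADK D) := h.1
  have hr : Module.finrank k (↥(adele k K) ⧸ ADK D) = idx D := h.2
  let e : Module.Dual k (↥(adele k K) ⧸ ADK D) ≃ₗ[k] WD D :=
    Submodule.dualQuotEquivDualAnnihilator (ADK D)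
  refine ⟨LinearEquiv.finiteDimensional e, ?_⟩
  rw [← e.finrank_eq, Subspace.dual_finrank_eq, hr]

theorem mem_WD_iff (ω : Module.Dual k (adele k K)) (D : Divisor k K) :
    ω ∈ WD D ↔ ∀ a : adele k K,
      (a : Place k K → K) ∈ AD D ⊔ LinearMap.range (diag k K) → ω a = 0 := by
  rw [WD, Submodule.mem_dualAnnihilator]
  rfl

theorem WD_anti {D E : Divisor k K} (h : D ≤ E) : WD E ≤ WD D := by
  intro ω hω
  rw [mem_WD_iff] at hω ⊢
  intro a ha
  exact hω a (sup_le_sup_right (AD_mono h) _ ha)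

theorem AD_sup' (D₁ D₂ : Divisor k K) : AD (D₁ ⊔ D₂) ≤ AD D₁ ⊔ AD D₂ := by
  classical
  intro a ha
  have ha' : ∀ P : Place k K, P.1 (a P) ≤ WithZero.exp ((D₁ ⊔ D₂) P) := ha
  rw [Submodule.mem_sup]
  refine ⟨fun P => if D₂ P ≤ D₁ P then a P else 0, ?_, fun P => if D₂ P ≤ D₁ P then 0 else a P, ?_, ?_⟩
  · intro P
    show P.1 (if D₂ P ≤ D₁ P then a P else 0) ≤ WithZero.exp (D₁ P)
    split_ifs with h
    · have := ha' P
      rwa [Finsupp.sup_apply, sup_eq_left.mpr h] at this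
    · simp
  · intro P
    show P.1 (if D₂ P ≤ D₁ P then 0 else a P) ≤ WithZero.exp (D₂ P)
    split_ifs with h
    · simp
    · have := ha' P
      rwa [Finsupp.sup_apply, sup_eq_right.mpr (le_of_not_ge h)] at this
  · funext P
    simp only [Pi.add_apply]
    split_ifs <;> simp

theorem WD_sup (hK : IsFunctionField k K) {ω : Module.Dual k (adele k K)} {D₁ D₂ : Divisor k K}
    (h1 : ω ∈ WD D₁) (h2 : ω ∈ WD D₂) : ω ∈ WD (D₁ ⊔ D₂) := by
  rw [mem_WD_iff] at h1 h2 ⊢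
  intro a ha
  obtain ⟨b, hb, c, hc, hbc⟩ := Submodule.mem_sup.1 ha
  obtain ⟨b₁, hb₁, b₂, hb₂, hbb⟩ := Submodule.mem_sup.1 (AD_sup' D₁ D₂ hb)
  have hb₁' : b₁ ∈ adele k K := AD_le_adele D₁ hb₁
  have hb₂' : b₂ ∈ adele k K := AD_le_adele D₂ hb₂
  have hc' : c ∈ adele k K := range_diag_le_adele hK hc
  have e : a = (⟨b₁, hb₁'⟩ : adele k K) + (⟨b₂ + c, (adele k K).add_mem hb₂' hc'⟩ : adele k K) := by
    apply Subtype.ext
    show (a : Place k K → K) = b₁ + (b₂ + c)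
    rw [← hbc, ← hbb, add_assoc]
  rw [e, map_add, h1 _ (Submodule.mem_sup_left hb₁),
    h2 _ (Submodule.add_mem _ (Submodule.mem_sup_left hb₂) (Submodule.mem_sup_right hc)), add_zero]

theorem Divisor.deg_lt_of_lt (hK : IsFunctionField k K) {D₁ D₂ : Divisor k K} (h : D₁ < D₂) :
    D₁.deg < D₂.deg := by
  classical
  obtain ⟨hle, hne⟩ := lt_iff_le_and_ne.1 h
  obtain ⟨Q, hQ⟩ : ∃ Q, D₁ Q ≠ D₂ Q := by
    by_contra hall
    push Not at hall
    exact hne (Finsupp.ext hall)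
  have hQ' : D₁ Q < D₂ Q := lt_of_le_of_ne (hle Q) hQ
  have h1 : D₁ + Finsupp.single Q 1 ≤ D₂ := by
    intro P
    rw [Finsupp.add_apply, Finsupp.single_apply]
    split_ifs with hPQ
    · subst hPQ; omega
    · have := hle P; omega
  have h2 := Divisor.deg_mono h1
  rw [Divisor.deg_add, Divisor.deg_single] at h2
  have h3 := Place.deg_pos hK Q
  have h4 : (1 : ℤ) ≤ (Q.deg : ℤ) := by exact_mod_cast h3
  omega

theorem WD_eq_bot_of_large (hK : IsFunctionField k K) :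
    ∃ N : ℤ, ∀ D : Divisor k K, N ≤ D.deg → WD D = ⊥ := by
  obtain ⟨N, hN⟩ := riemann_eq hK
  refine ⟨N, fun D hD => ?_⟩
  obtain ⟨hf, hr⟩ := finrank_WD hK D
  have h1 := idx_eq hK D
  rw [hN D hD, sub_self] at h1
  have h2 : idx D = 0 := by exact_mod_cast h1
  rw [h2] at hr
  exact Submodule.finrank_eq_zero.1 hr

/-- A nonzero Weil differential has a divisor. -/
theorem exists_isDivOf (hK : IsFunctionField k K) {ω : Module.Dual k (adele k K)}
    (hω : IsWeil ω) (h0 : ω ≠ 0) : ∃ C : Divisor k K, IsDivOf ω C := by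
  obtain ⟨D₀, hD₀⟩ := hω
  obtain ⟨N, hN⟩ := WD_eq_bot_of_large hK
  have hbdd : ∀ D : Divisor k K, ω ∈ WD D → D.deg < N := by
    intro D hD
    by_contra hge
    push Not at hge
    rw [hN D hge, Submodule.mem_bot] at hD
    exact h0 hD
  -- a divisor of maximal degree
  obtain ⟨m, ⟨W, hW, hWm⟩, hmax⟩ : ∃ m : ℤ, (∃ W : Divisor k K, ω ∈ WD W ∧ W.deg = m) ∧
      ∀ z : ℤ, (∃ W : Divisor k K, ω ∈ WD W ∧ W.deg = z) → z ≤ m := by
    refine Int.exists_greatest_of_bdd ⟨N, ?_⟩ ⟨D₀.deg, D₀, hD₀, rfl⟩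
    rintro z ⟨W, hW, rfl⟩
    exact (hbdd W hW).le
  refine ⟨W, fun E => ⟨fun hE => ?_, fun hE => WD_anti hE hW⟩⟩
  by_contra hle
  have hlt : W < E ⊔ W := lt_of_le_of_ne le_sup_right fun h => hle (h ▸ le_sup_left)
  have h1 := Divisor.deg_lt_of_lt hK hlt
  have h2 := hmax _ ⟨E ⊔ W, WD_sup hK hE hW, rfl⟩
  omega

theorem IsDivOf.unique {ω : Module.Dual k (adele k K)} {C C' : Divisor k K}
    (h : IsDivOf ω C) (h' : IsDivOf ω C') : C = C' :=
  le_antisymm ((h' C).1 ((h C).2 le_rfl)) ((h C').1 ((h' C').2 le_rfl))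

theorem IsDivOf.mem_WD {ω : Module.Dual k (adele k K)} {C : Divisor k K}
    (h : IsDivOf ω C) : ω ∈ WD C := (h C).2 le_rfl

theorem IsDivOf.ne_zero (hK : IsFunctionField k K) {ω : Module.Dual k (adele k K)} {C : Divisor k K}
    (h : IsDivOf ω C) : ω ≠ 0 := by
  rintro rfl
  obtain ⟨P⟩ := exists_place hK
  have h1 : (0 : Module.Dual k (adele k K)) ∈ WD (C + Finsupp.single P 1) := Submodule.zero_mem _
  have h2 := (h _).1 h1 P
  rw [Finsupp.add_apply, Finsupp.single_eq_same] at h2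
  omega

end Groth.Agent.Helper16.FF
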