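import Mathlib
import Groth.Agent.Lib.Helper16.FF.WeilA

set_option autoImplicit false

namespace Groth.Agent.Helper16.FF

open FunFld IntermediateField Polynomial
open scoped WithZero

variable {k K : Type*} [Field k] [Field K] [Algebra k K]

theorem smul_mem_AD_iff (hK : IsFunctionField k K) (E : Divisor k K) {x : K} (hx : x ≠ 0)
    (a : Place k K → K) : x • a ∈ AD E ↔ a ∈ AD (E + div k x) := by
  rw [mem_AD, mem_AD]
  refine forall_congr' fun P => ?_
  have := mul_mem_L_iff hK E hx (a P)
  rw [mem_L, mem_L] at this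
  -- reuse the local computation
  rw [Pi.smul_apply, smul_eq_mul, map_mul, Finsupp.add_apply, div_apply hK,
    Place.val_eq_exp_neg_ord P hx, WithZero.exp_add]
  have h1 : (WithZero.exp (P.ord x) : ℤᵐ⁰) * WithZero.exp (-P.ord x) = 1 := by
    rw [← WithZero.exp_add, add_neg_cancel, WithZero.exp_zero]
  constructor
  · intro h
    calc P.1 (a P) = WithZero.exp (P.ord x) * (WithZero.exp (-P.ord x) * P.1 (a P)) := by
          rw [← mul_assoc, h1, one_mul]
      _ ≤ WithZero.exp (P.ord x) * WithZero.exp (E P) := by gcongr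
      _ = WithZero.exp (E P) * WithZero.exp (P.ord x) := mul_comm _ _
  · intro h
    calc WithZero.exp (-P.ord x) * P.1 (a P)
        ≤ WithZero.exp (-P.ord x) * (WithZero.exp (E P) * WithZero.exp (P.ord x)) := by gcongr
      _ = WithZero.exp (E P) * (WithZero.exp (P.ord x) * WithZero.exp (-P.ord x)) := by
          rw [mul_comm (WithZero.exp (-P.ord x)), mul_assoc]
      _ = WithZero.exp (E P) := by rw [h1, mul_one]

/-- every element of `K` multiplies adeles to adeles -/
theorem smul_mem_adele (hK : IsFunctionField k K) (x : K) :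
    ∀ a ∈ adele k K, x • a ∈ adele k K := by
  intro a ha
  by_cases hx : x = 0
  · subst hx; rw [zero_smul]; exact Submodule.zero_mem _
  obtain ⟨D, -, hD⟩ := exists_AD_of_mem_adele ha 0
  have : x • a ∈ AD (D - div k x) := by
    rw [smul_mem_AD_iff hK _ hx, sub_add_cancel]; exact hD
  exact AD_le_adele _ this

theorem mulW_apply (x : K) (hx : ∀ a ∈ adele k K, x • a ∈ adele k K)
    (ω : Module.Dual k (adele k K)) (a : adele k K) :
    mulW x hx ω a = ω ⟨x • (a : Place k K → K), hx _ a.2⟩ := rfl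

theorem smul_diag (x y : K) : x • diag k K y = diag k K (x * y) := by
  funext P; simp [diag]

theorem smul_mem_ADK_iff (hK : IsFunctionField k K) (E : Divisor k K) {x : K} (hx : x ≠ 0)
    (a : Place k K → K) :
    x • a ∈ AD E ⊔ LinearMap.range (diag k K) ↔
      a ∈ AD (E + div k x) ⊔ LinearMap.range (diag k K) := by
  constructor
  · intro h
    obtain ⟨b, hb, c, ⟨y, rfl⟩, hbc⟩ := Submodule.mem_sup.1 h
    have e : a = x⁻¹ • b + diag k K (x⁻¹ * y) := by
      rw [← smul_diag, ← smul_add, hbc, smul_smul, inv_mul_cancel₀ hx, one_smul]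
    rw [e]
    refine Submodule.add_mem _ (Submodule.mem_sup_left ?_) (Submodule.mem_sup_right ⟨_, rfl⟩)
    rw [← smul_mem_AD_iff hK E hx, smul_smul, mul_inv_cancel₀ hx, one_smul]
    exact hb
  · intro h
    obtain ⟨b, hb, c, ⟨y, rfl⟩, hbc⟩ := Submodule.mem_sup.1 h
    rw [← hbc, smul_add, smul_diag]
    refine Submodule.add_mem _ (Submodule.mem_sup_left ?_) (Submodule.mem_sup_right ⟨_, rfl⟩)
    rw [smul_mem_AD_iff hK E hx]
    exact hb

theorem mulW_mem_WD_iff (hK : IsFunctionField k K) {x : K} (hx0 : x ≠ 0)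
    (hx : ∀ a ∈ adele k K, x • a ∈ adele k K) (ω : Module.Dual k (adele k K)) (E : Divisor k K) :
    mulW x hx ω ∈ WD E ↔ ω ∈ WD (E - div k x) := by
  rw [mem_WD_iff, mem_WD_iff]
  constructor
  · intro h a ha
    have hmem : x⁻¹ • (a : Place k K → K) ∈ adele k K := smul_mem_adele hK x⁻¹ _ a.2
    have h1 := h ⟨x⁻¹ • (a : Place k K → K), hmem⟩ (by
      show x⁻¹ • (a : Place k K → K) ∈ _
      have := (smul_mem_ADK_iff hK (E - div k x) hx0 (x⁻¹ • (a : Place k K → K))).1 (by
        rw [smul_smul, mul_inv_cancel₀ hx0, one_smul]; exact ha)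
      rwa [sub_add_cancel] at this)
    rw [mulW_apply] at h1
    have e : (⟨x • (x⁻¹ • (a : Place k K → K)), hx _ hmem⟩ : adele k K) = a := by
      apply Subtype.ext
      show x • (x⁻¹ • (a : Place k K → K)) = a
      rw [smul_smul, mul_inv_cancel₀ hx0, one_smul]
    rwa [e] at h1
  · intro h a ha
    rw [mulW_apply]
    apply h
    show x • (a : Place k K → K) ∈ _
    rw [smul_mem_ADK_iff hK _ hx0, sub_add_cancel]
    exact ha

theorem isDivOf_mulW (hK : IsFunctionField k K) {x : K} (h0 : x ≠ 0)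
    (hx : ∀ a ∈ adele k K, x • a ∈ adele k K) {ω : Module.Dual k (adele k K)} {C : Divisor k K}
    (hω : IsDivOf ω C) : IsDivOf (mulW x hx ω) (C + div k x) := by
  intro E
  rw [mulW_mem_WD_iff hK h0, hω (E - div k x), sub_le_iff_le_add]

end Groth.Agent.Helper16.FF
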