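import Mathlib
import Groth.Agent.Lib.Helper16.FF.WeilB

set_option autoImplicit false

namespace Groth.Agent.Helper16.FF

open FunFld IntermediateField Polynomial
open scoped WithZero

variable {k K : Type*} [Field k] [Field K] [Algebra k K]

theorem mulW_mem_WD_of_mem_L (C D : Divisor k K) {x : K} (hxD : x ∈ L D)
    (hx : ∀ a ∈ adele k K, x • a ∈ adele k K)
    {ω : Module.Dual k (adele k K)} (hω : ω ∈ WD C) : mulW x hx ω ∈ WD (C - D) := by
  have hxD' : ∀ P : Place k K, P.1 x ≤ WithZero.exp (D P) := hxD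
  rw [mem_WD_iff] at hω ⊢
  intro a ha
  obtain ⟨b, hb, c, ⟨y, rfl⟩, hbc⟩ := Submodule.mem_sup.1 ha
  have hb' : ∀ P : Place k K, P.1 (b P) ≤ WithZero.exp ((C - D) P) := hb
  rw [mulW_apply]
  apply hω
  show x • (a : Place k K → K) ∈ AD C ⊔ LinearMap.range (diag k K)
  rw [← hbc, smul_add, smul_diag]
  refine Submodule.add_mem _ (Submodule.mem_sup_left ?_) (Submodule.mem_sup_right ⟨_, rfl⟩)
  intro P
  show P.1 ((x • b) P) ≤ WithZero.exp (C P)
  rw [Pi.smul_apply, smul_eq_mul, map_mul]
  calc P.1 x * P.1 (b P) ≤ WithZero.exp (D P) * WithZero.exp ((C - D) P) :=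
        mul_le_mul' (hxD' P) (hb' P)
    _ = WithZero.exp (C P) := by
        rw [← WithZero.exp_add, Finsupp.sub_apply]; congr 1; ring

/-- `x ↦ xω` as a `k`-linear map -/
noncomputable def mulWL (hK : IsFunctionField k K) (ω : Module.Dual k (adele k K)) :
    K →ₗ[k] Module.Dual k (adele k K) where
  toFun x := mulW x (smul_mem_adele hK x) ω
  map_add' x y := by
    apply LinearMap.ext
    intro a
    rw [LinearMap.add_apply, mulW_apply, mulW_apply, mulW_apply, ← map_add]
    congr 1
    apply Subtype.ext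
    show (x + y) • (a : Place k K → K) = x • (a : Place k K → K) + y • (a : Place k K → K)
    rw [add_smul]
  map_smul' c x := by
    apply LinearMap.ext
    intro a
    rw [RingHom.id_apply, LinearMap.smul_apply, mulW_apply, mulW_apply, ← map_smul]
    congr 1
    apply Subtype.ext
    show (c • x) • (a : Place k K → K) = c • (x • (a : Place k K → K))
    rw [smul_assoc]

theorem mulWL_apply (hK : IsFunctionField k K) (ω : Module.Dual k (adele k K)) (x : K) :
    mulWL hK ω x = mulW x (smul_mem_adele hK x) ω := rfl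

theorem mulW_mulW (x y : K) (hx : ∀ a ∈ adele k K, x • a ∈ adele k K)
    (hy : ∀ a ∈ adele k K, y • a ∈ adele k K) (hxy : ∀ a ∈ adele k K, (x * y) • a ∈ adele k K)
    (ω : Module.Dual k (adele k K)) : mulW y hy (mulW x hx ω) = mulW (x * y) hxy ω := by
  apply LinearMap.ext
  intro a
  rw [mulW_apply, mulW_apply, mulW_apply]
  congr 1
  apply Subtype.ext
  show x • (y • (a : Place k K → K)) = (x * y) • (a : Place k K → K)
  rw [smul_smul]

theorem mulW_one (h1 : ∀ a ∈ adele k K, (1 : K) • a ∈ adele k K) (ω : Module.Dual k (adele k K)) :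
    mulW 1 h1 ω = ω := by
  apply LinearMap.ext
  intro a
  rw [mulW_apply]
  congr 1
  apply Subtype.ext
  show (1 : K) • (a : Place k K → K) = a
  rw [one_smul]

theorem mulW_zero_right (x : K) (hx : ∀ a ∈ adele k K, x • a ∈ adele k K) :
    mulW x hx (0 : Module.Dual k (adele k K)) = 0 := by
  apply LinearMap.ext
  intro a
  rw [mulW_apply]; rfl

theorem mulWL_injective (hK : IsFunctionField k K) {ω : Module.Dual k (adele k K)} (h0 : ω ≠ 0) :
    Function.Injective (mulWL hK ω) := by
  rw [← LinearMap.ker_eq_bot, Submodule.eq_bot_iff]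
  intro x hx
  rw [LinearMap.mem_ker, mulWL_apply] at hx
  by_contra hx0
  apply h0
  have h1 := mulW_mulW x x⁻¹ (smul_mem_adele hK x) (smul_mem_adele hK x⁻¹)
    (smul_mem_adele hK (x * x⁻¹)) ω
  rw [hx, mulW_zero_right] at h1
  have h2 : mulW (x * x⁻¹) (smul_mem_adele hK (x * x⁻¹)) ω = ω := by
    have := mulW_one (smul_mem_adele hK 1) ω
    convert this using 2
    exact mul_inv_cancel₀ hx0
  rw [← h2, ← h1]

end Groth.Agent.Helper16.FF
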