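import Mathlib
import Groth.Agent.Lib.Helper16.FF.WeilC

set_option autoImplicit false

namespace Groth.Agent.Helper16.FF

open FunFld IntermediateField Polynomial
open scoped WithZero

variable {k K : Type*} [Field k] [Field K] [Algebra k K]

theorem ell_eq_zero_of_deg_neg (hK : IsFunctionField k K) {D : Divisor k K} (h : D.deg < 0) :
    ell D = 0 := by
  unfold ell
  rw [L_eq_bot_of_deg_neg hK h]
  exact finrank_bot k K

/-- `dim_K W_K = 1`. -/
theorem exists_mulW_eq (hK : IsFunctionField k K) {ω₁ ω₂ : Module.Dual k (adele k K)}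
    (h₁ : IsWeil ω₁) (h0 : ω₁ ≠ 0) (h₂ : IsWeil ω₂) :
    ∃ x : K, mulW x (smul_mem_adele hK x) ω₁ = ω₂ := by
  by_cases h20 : ω₂ = 0
  · refine ⟨0, ?_⟩
    subst h20
    apply LinearMap.ext
    intro a
    rw [mulW_apply]
    have : (⟨(0 : K) • (a : Place k K → K), smul_mem_adele hK 0 _ a.2⟩ : adele k K) = 0 := by
      apply Subtype.ext
      show (0 : K) • (a : Place k K → K) = 0
      rw [zero_smul]
    rw [this, map_zero]; rfl
  obtain ⟨W₁, hW₁⟩ := h₁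
  obtain ⟨W₂, hW₂⟩ := h₂
  obtain ⟨N, hN⟩ := riemann_eq hK
  obtain ⟨P⟩ := exists_place hK
  set g : ℤ := ((genus k K : ℕ) : ℤ) with hg
  -- choose m
  set m : ℕ := (|N| + |W₁.deg| + |W₂.deg| + 3 * g + 1).toNat with hm
  have hg0 : 0 ≤ g := Int.natCast_nonneg _
  have hm' : (m : ℤ) = |N| + |W₁.deg| + |W₂.deg| + 3 * g + 1 := by
    rw [hm, Int.toNat_of_nonneg]
    have := abs_nonneg N; have := abs_nonneg W₁.deg; have := abs_nonneg W₂.deg
    omega
  set B : Divisor k K := m • (Finsupp.single P 1 : Divisor k K) with hB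
  have hP1 : (1 : ℤ) ≤ (P.deg : ℤ) := by exact_mod_cast Place.deg_pos hK P
  have hBdeg : B.deg = m * P.deg := by
    rw [hB, Divisor.deg_nsmul, Divisor.deg_single, one_mul]
  have hBm : (m : ℤ) ≤ B.deg := by
    rw [hBdeg]
    have : (0 : ℤ) ≤ m := Int.natCast_nonneg _
    nlinarith
  have hN1 := le_abs_self N
  have hN2 := neg_abs_le N
  have ha1 := le_abs_self W₁.deg
  have ha2 := neg_abs_le W₁.deg
  have hb1 := le_abs_self W₂.deg
  have hb2 := neg_abs_le W₂.deg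
  have e1 := hN (W₁ + B) (by rw [Divisor.deg_add]; omega)
  have e2 := hN (W₂ + B) (by rw [Divisor.deg_add]; omega)
  rw [Divisor.deg_add] at e1 e2
  have hnegB : (-B).deg < 0 := by rw [Divisor.deg_neg]; omega
  have e3 := ell_eq_zero_of_deg_neg hK hnegB
  have e4 := idx_eq hK (-B)
  rw [e3, Divisor.deg_neg] at e4
  -- the two subspaces
  set U₁ : Submodule k (Module.Dual k (adele k K)) := (L (W₁ + B)).map (mulWL hK ω₁) with hU₁
  set U₂ : Submodule k (Module.Dual k (adele k K)) := (L (W₂ + B)).map (mulWL hK ω₂) with hU₂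
  have hU₁le : U₁ ≤ WD (-B) := by
    rintro _ ⟨x, hx, rfl⟩
    have := mulW_mem_WD_of_mem_L W₁ (W₁ + B) hx (smul_mem_adele hK x) hW₁
    rwa [sub_add_cancel_left] at this
  have hU₂le : U₂ ≤ WD (-B) := by
    rintro _ ⟨x, hx, rfl⟩
    have := mulW_mem_WD_of_mem_L W₂ (W₂ + B) hx (smul_mem_adele hK x) hW₂
    rwa [sub_add_cancel_left] at this
  have hfW := (finrank_WD hK (-B)).1
  have hrW := (finrank_WD hK (-B)).2
  have hf1 : FiniteDimensional k U₁ := Submodule.finiteDimensional_of_le hU₁le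
  have hf2 : FiniteDimensional k U₂ := Submodule.finiteDimensional_of_le hU₂le
  have hr1 : Module.finrank k U₁ = ell (W₁ + B) :=
    ((Submodule.equivMapOfInjective (mulWL hK ω₁) (mulWL_injective hK h0) (L (W₁ + B))).finrank_eq).symm
  have hr2 : Module.finrank k U₂ = ell (W₂ + B) :=
    ((Submodule.equivMapOfInjective (mulWL hK ω₂) (mulWL_injective hK h20) (L (W₂ + B))).finrank_eq).symm
  have hsum := Submodule.finrank_sup_add_finrank_inf_eq U₁ U₂
  have hsup : Module.finrank k ↥(U₁ ⊔ U₂) ≤ idx (-B) := by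
    rw [← hrW]; exact Submodule.finrank_mono (sup_le hU₁le hU₂le)
  have hpos : 0 < Module.finrank k ↥(U₁ ⊓ U₂) := by
    have : (0 : ℤ) < (Module.finrank k ↥(U₁ ⊓ U₂) : ℤ) := by
      have h5 : ((Module.finrank k ↥(U₁ ⊔ U₂) : ℕ) : ℤ) + (Module.finrank k ↥(U₁ ⊓ U₂) : ℕ) =
          (ell (W₁ + B) : ℤ) + ell (W₂ + B) := by
        rw [← hr1, ← hr2]; exact_mod_cast hsum
      have h6 : ((Module.finrank k ↥(U₁ ⊔ U₂) : ℕ) : ℤ) ≤ idx (-B) := by exact_mod_cast hsup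
      omega
    exact_mod_cast this
  have hfinf : FiniteDimensional k ↥(U₁ ⊓ U₂) := Submodule.finiteDimensional_of_le inf_le_left
  obtain ⟨η, hη⟩ := (Module.finrank_pos_iff_exists_ne_zero (R := k) (M := ↥(U₁ ⊓ U₂))).1 hpos
  obtain ⟨⟨x₁, -, hx₁⟩, ⟨x₂, -, hx₂⟩⟩ := η.2
  have hη0 : (η : Module.Dual k (adele k K)) ≠ 0 := fun h => hη (Subtype.ext h)
  have hx₂0 : x₂ ≠ 0 := by
    rintro rfl
    rw [map_zero] at hx₂
    exact hη0 hx₂.symm
  refine ⟨x₁ * x₂⁻¹, ?_⟩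
  rw [mulWL_apply] at hx₁ hx₂
  have h7 := mulW_mulW x₁ x₂⁻¹ (smul_mem_adele hK x₁) (smul_mem_adele hK x₂⁻¹)
    (smul_mem_adele hK (x₁ * x₂⁻¹)) ω₁
  have h8 := mulW_mulW x₂ x₂⁻¹ (smul_mem_adele hK x₂) (smul_mem_adele hK x₂⁻¹)
    (smul_mem_adele hK (x₂ * x₂⁻¹)) ω₂
  have h9 : mulW (x₂ * x₂⁻¹) (smul_mem_adele hK (x₂ * x₂⁻¹)) ω₂ = ω₂ := by
    have := mulW_one (smul_mem_adele hK 1) ω₂
    convert this using 2
    exact mul_inv_cancel₀ hx₂0
  rw [← h7, hx₁, ← hx₂, h8, h9]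

end Groth.Agent.Helper16.FF
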