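import Mathlib
import Groth.Agent.Lib.Helper16.FF.WeilD

set_option autoImplicit false

namespace Groth.Agent.Helper16.FF

open FunFld IntermediateField Polynomial
open scoped WithZero

variable {k K : Type*} [Field k] [Field K] [Algebra k K]

theorem mulW_zero_left (h : ∀ a ∈ adele k K, (0 : K) • a ∈ adele k K)
    (ω : Module.Dual k (adele k K)) : mulW 0 h ω = 0 := by
  apply LinearMap.ext
  intro a
  rw [mulW_apply]
  have : (⟨(0 : K) • (a : Place k K → K), h _ a.2⟩ : adele k K) = 0 := by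
    apply Subtype.ext
    show (0 : K) • (a : Place k K → K) = 0
    rw [zero_smul]
  rw [this, map_zero]; rfl

theorem mem_L_of_mulW_mem_WD (hK : IsFunctionField k K) {ω : Module.Dual k (adele k K)}
    {C : Divisor k K} (hω : IsDivOf ω C) (D : Divisor k K) (x : K)
    (h : mulW x (smul_mem_adele hK x) ω ∈ WD D) : x ∈ L (C - D) := by
  by_cases hx : x = 0
  · subst hx; exact Submodule.zero_mem _
  have h1 := (isDivOf_mulW hK hx (smul_mem_adele hK x) hω D).1 h
  rw [mem_L_iff hK _ hx]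
  have := sub_le_sub_right h1 C
  simpa using this

theorem map_mulWL_L (hK : IsFunctionField k K) {ω : Module.Dual k (adele k K)}
    {C : Divisor k K} (hω : IsDivOf ω C) (D : Divisor k K) :
    (L (C - D)).map (mulWL hK ω) = WD D := by
  apply le_antisymm
  · rintro _ ⟨x, hx, rfl⟩
    have := mulW_mem_WD_of_mem_L C (C - D) hx (smul_mem_adele hK x) (IsDivOf.mem_WD hω)
    rwa [sub_sub_cancel] at this
  · intro ω' hω'
    obtain ⟨x, hx⟩ := exists_mulW_eq hK ⟨C, (IsDivOf.mem_WD hω)⟩ (IsDivOf.ne_zero hK hω) ⟨D, hω'⟩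
    refine ⟨x, ?_, hx⟩
    exact mem_L_of_mulW_mem_WD hK hω D x (hx ▸ hω')

theorem existsUnique_mulW (hK : IsFunctionField k K) {ω : Module.Dual k (adele k K)}
    {C : Divisor k K} (hω : IsDivOf ω C) (D : Divisor k K) {ω' : Module.Dual k (adele k K)}
    (hω' : ω' ∈ WD D) :
    ∃! x : K, x ∈ L (C - D) ∧ mulW x (smul_mem_adele hK x) ω = ω' := by
  have h1 : ω' ∈ (L (C - D)).map (mulWL hK ω) := by rw [map_mulWL_L hK hω D]; exact hω'
  obtain ⟨x, hx, hxω⟩ := h1
  refine ⟨x, ⟨hx, hxω⟩, ?_⟩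
  rintro y ⟨-, hy⟩
  exact mulWL_injective hK (IsDivOf.ne_zero hK hω) (hy.trans hxω.symm)

/-- Riemann–Roch, in terms of the divisor of a Weil differential. -/
theorem riemann_roch' (hK : IsFunctionField k K) {ω : Module.Dual k (adele k K)}
    {C : Divisor k K} (hω : IsDivOf ω C) (D : Divisor k K) :
    (ell D : ℤ) = D.deg + 1 - genus k K + ell (C - D) := by
  have e := Submodule.equivMapOfInjective (mulWL hK ω) (mulWL_injective hK (IsDivOf.ne_zero hK hω))
    (L (C - D))
  have h1 : ell (C - D) = Module.finrank k ↥((L (C - D)).map (mulWL hK ω)) := e.finrank_eq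
  rw [map_mulWL_L hK hω D, (finrank_WD hK D).2] at h1
  have h2 := idx_eq hK D
  rw [h1]; omega

theorem riemann_roch (hK : IsFunctionField k K) {C : Divisor k K} (hC : IsCanonical k K C)
    (D : Divisor k K) : (ell D : ℤ) = D.deg + 1 - genus k K + ell (C - D) := by
  obtain ⟨ω, -, hω⟩ := hC
  exact riemann_roch' hK hω D

theorem canonical_ell_deg (hK : IsFunctionField k K) {C : Divisor k K} (hC : IsCanonical k K C) :
    ell C = genus k K ∧ C.deg = 2 * (genus k K : ℤ) - 2 := by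
  have h1 := riemann_roch hK hC 0
  have h2 := riemann_roch hK hC C
  rw [sub_zero, ell_zero hK, Divisor.deg_zero] at h1
  rw [sub_self, ell_zero hK] at h2
  push_cast at h1 h2
  constructor
  · have : (ell C : ℤ) = genus k K := by omega
    exact_mod_cast this
  · omega

theorem exists_canonical (hK : IsFunctionField k K) : ∃ C : Divisor k K, IsCanonical k K C := by
  obtain ⟨P⟩ := exists_place hK
  set D : Divisor k K := -(Finsupp.single P 2 : Divisor k K) with hD
  have hP1 : (1 : ℤ) ≤ (P.deg : ℤ) := by exact_mod_cast Place.deg_pos hK P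
  have hdeg : D.deg = -(2 * P.deg) := by rw [hD, Divisor.deg_neg, Divisor.deg_single]
  have e3 := ell_eq_zero_of_deg_neg hK (show D.deg < 0 by omega)
  have e4 := idx_eq hK D
  rw [e3, hdeg] at e4
  obtain ⟨hf, hr⟩ := finrank_WD hK D
  have hpos : 0 < Module.finrank k (WD D) := by
    rw [hr]
    have : (0 : ℤ) < idx D := by
      have : (0 : ℤ) ≤ (genus k K : ℤ) := Int.natCast_nonneg _
      push_cast at e4; omega
    exact_mod_cast this
  obtain ⟨ω, hω⟩ := (Module.finrank_pos_iff_exists_ne_zero (R := k) (M := ↥(WD D))).1 hpos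
  have hω0 : (ω : Module.Dual k (adele k K)) ≠ 0 := fun h => hω (Subtype.ext h)
  obtain ⟨C, hC⟩ := exists_isDivOf hK ⟨D, ω.2⟩ hω0
  exact ⟨C, ω, hω0, hC⟩

theorem isCanonical_add_div (hK : IsFunctionField k K) {C : Divisor k K} (hC : IsCanonical k K C)
    {x : K} (hx : x ≠ 0) : IsCanonical k K (C + div k x) := by
  obtain ⟨ω, hω0, hω⟩ := hC
  refine ⟨mulW x (smul_mem_adele hK x) ω, ?_, isDivOf_mulW hK hx _ hω⟩
  intro h
  have := mulWL_injective hK hω0 (a₁ := x) (a₂ := 0) (by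
    rw [mulWL_apply, mulWL_apply, h, mulW_zero_left])
  exact hx this

theorem isCanonical_iff (hK : IsFunctionField k K) (C : Divisor k K) :
    IsCanonical k K C ↔ (ell C = genus k K ∧ C.deg = 2 * (genus k K : ℤ) - 2) := by
  refine ⟨canonical_ell_deg hK, ?_⟩
  rintro ⟨h1, h2⟩
  obtain ⟨W, hW⟩ := exists_canonical hK
  obtain ⟨hW1, hW2⟩ := canonical_ell_deg hK hW
  have h3 := riemann_roch hK hW C
  rw [h1, h2] at h3
  have hpos : 0 < ell (W - C) := by
    have : (0 : ℤ) < ell (W - C) := by omega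
    exact_mod_cast this
  obtain ⟨x, hx0, hx⟩ := exists_ne_zero_mem_L hK hpos
  rw [mem_L_iff hK _ hx0] at hx
  have heq : -(W - C) = div k x := by
    by_contra hne
    have := Divisor.deg_lt_of_lt hK (lt_of_le_of_ne hx hne)
    rw [Divisor.deg_neg, Divisor.deg_sub, deg_div hK] at this
    omega
  have : C = W + div k x := by rw [← heq]; abel
  rw [this]
  exact isCanonical_add_div hK hW hx0

theorem ell_eq_of_large (hK : IsFunctionField k K) {D : Divisor k K}
    (h : 2 * (genus k K : ℤ) - 1 ≤ D.deg) : (ell D : ℤ) = D.deg + 1 - genus k K := by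
  obtain ⟨W, hW⟩ := exists_canonical hK
  obtain ⟨hW1, hW2⟩ := canonical_ell_deg hK hW
  have h3 := riemann_roch hK hW D
  have h4 : ell (W - D) = 0 := ell_eq_zero_of_deg_neg hK (by rw [Divisor.deg_sub]; omega)
  rw [h4] at h3
  simpa using h3

theorem exists_weil_of_deg_lt_genus (hK : IsFunctionField k K) {D : Divisor k K} (hD : 0 ≤ D)
    (hdeg : D.deg < genus k K) : ∃ ω : Module.Dual k (adele k K), ω ≠ 0 ∧ ω ∈ WD D := by
  have h1 := ell_mono hK hD
  rw [ell_zero hK] at h1
  have e4 := idx_eq hK D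
  obtain ⟨hf, hr⟩ := finrank_WD hK D
  have hpos : 0 < Module.finrank k (WD D) := by
    rw [hr]
    have : (0 : ℤ) < idx D := by
      have : (1 : ℤ) ≤ ell D := by exact_mod_cast h1
      omega
    exact_mod_cast this
  obtain ⟨ω, hω⟩ := (Module.finrank_pos_iff_exists_ne_zero (R := k) (M := ↥(WD D))).1 hpos
  exact ⟨ω, fun h => hω (Subtype.ext h), ω.2⟩

theorem canonical_linear_equiv (hK : IsFunctionField k K) {C₁ C₂ : Divisor k K}
    (h₁ : IsCanonical k K C₁) (h₂ : IsCanonical k K C₂) :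
    ∃ x : K, x ≠ 0 ∧ C₂ = C₁ + div k x := by
  obtain ⟨ω₁, hω₁0, hω₁⟩ := h₁
  obtain ⟨ω₂, hω₂0, hω₂⟩ := h₂
  obtain ⟨x, hx⟩ := exists_mulW_eq hK ⟨C₁, (IsDivOf.mem_WD hω₁)⟩ hω₁0 ⟨C₂, (IsDivOf.mem_WD hω₂)⟩
  have hx0 : x ≠ 0 := by
    rintro rfl
    rw [mulW_zero_left] at hx
    exact hω₂0 hx.symm
  refine ⟨x, hx0, ?_⟩
  have := isDivOf_mulW hK hx0 (smul_mem_adele hK x) hω₁
  rw [hx] at this
  exact IsDivOf.unique hω₂ this

end Groth.Agent.Helper16.FF
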