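import Mathlib
import Groth.Agent.Lib.Helper16.FF.RR

set_option autoImplicit false

namespace Groth.Agent.Helper16.FF

open FunFld IntermediateField Polynomial
open scoped WithZero

variable {k K : Type*} [Field k] [Field K] [Algebra k K]

theorem one_mem_L_zero : (1 : K) ∈ L (0 : Divisor k K) := by
  intro P; simp

/-- `ℓ(n (x)_∞) ≥ n + 1`. -/
theorem le_ell_nsmul_poleDiv (hK : IsFunctionField k K) {x : K} (hx : Transcendental k x) (n : ℕ) :
    n + 1 ≤ ell (n • (poleDiv x : Divisor k K)) := by
  have hli : LinearIndependent k (fun i : Fin (n + 1) => x ^ (i : ℕ)) :=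
    (linearIndependent_pow_of_transcendental hx).comp _ Fin.val_injective
  have hmem : ∀ i : Fin (n + 1), x ^ (i : ℕ) ∈ L (n • (poleDiv x : Divisor k K)) := by
    intro i
    have := val_pow_mul_le hK x 1 0 one_mem_L_zero (i := i) (l := n) (by have := i.2; omega)
    rwa [mul_one, add_zero] at this
  have h1 := finrank_span_eq_card hli
  have hle : Submodule.span k (Set.range fun i : Fin (n + 1) => x ^ (i : ℕ)) ≤
      L (n • (poleDiv x : Divisor k K)) := Submodule.span_le.2 (Set.range_subset_iff.2 hmem)
  have := finiteDimensional_L hK (n • (poleDiv x : Divisor k K))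
  have h2 := Submodule.finrank_mono hle
  rw [h1, Fintype.card_fin] at h2
  exact h2

theorem genus_eq_zero_of_finrank_eq_one (hK : IsFunctionField k K) {x : K}
    (hx : Transcendental k x)
    (h1 : Module.finrank (IntermediateField.adjoin k ({x} : Set K)) K = 1) : genus k K = 0 := by
  obtain ⟨N, hN⟩ := riemann_eq hK
  have hdeg : (poleDiv x : Divisor k K).deg = 1 := by rw [deg_poleDiv hK hx, h1]; rfl
  have h2 := hN (N.toNat • (poleDiv x : Divisor k K)) (by
    rw [Divisor.deg_nsmul, hdeg, mul_one]; exact Int.self_le_toNat N)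
  have h3 := le_ell_nsmul_poleDiv hK hx N.toNat
  rw [Divisor.deg_nsmul, hdeg, mul_one] at h2
  have h4 : ((N.toNat + 1 : ℕ) : ℤ) ≤ ell (N.toNat • (poleDiv x : Divisor k K)) := by
    exact_mod_cast h3
  push_cast at h4
  have : (genus k K : ℤ) ≤ 0 := by omega
  omega

theorem transcendental_of_adjoin_eq_top (hK : IsFunctionField k K) {x : K}
    (h : IntermediateField.adjoin k ({x} : Set K) = ⊤) : Transcendental k x := by
  intro halg
  obtain ⟨c, rfl⟩ := hK.2 x halg
  obtain ⟨y, hy, -⟩ := hK.1
  apply hy
  have hy' : y ∈ IntermediateField.adjoin k ({algebraMap k K c} : Set K) := by rw [h]; trivial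
  have hbot : IntermediateField.adjoin k ({algebraMap k K c} : Set K) = ⊥ := by
    rw [IntermediateField.adjoin_simple_eq_bot_iff]
    exact IntermediateField.algebraMap_mem _ c
  rw [hbot, IntermediateField.mem_bot] at hy'
  obtain ⟨d, rfl⟩ := hy'
  exact isAlgebraic_algebraMap d

/-- An effective divisor of degree one is a place of degree one. -/
theorem exists_single_of_deg_eq_one (hK : IsFunctionField k K) {D : Divisor k K} (hD : 0 ≤ D)
    (hdeg : D.deg = 1) : ∃ P : Place k K, P.deg = 1 ∧ D = Finsupp.single P 1 := by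
  classical
  have hne : D ≠ 0 := by
    rintro rfl; rw [Divisor.deg_zero] at hdeg; omega
  obtain ⟨P, hP⟩ : ∃ P, D P ≠ 0 := by
    by_contra hall
    push Not at hall
    exact hne (Finsupp.ext hall)
  have hP0 : 0 ≤ D P := hD P
  have hP1 : 1 ≤ D P := by omega
  have hle : (Finsupp.single P 1 : Divisor k K) ≤ D := by
    intro Q
    rw [Finsupp.single_apply]
    split_ifs with h
    · subst h; exact hP1
    · exact hD Q
  have hPdeg : (1 : ℤ) ≤ (P.deg : ℤ) := by exact_mod_cast Place.deg_pos hK P
  have h1 := Divisor.deg_mono hle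
  rw [Divisor.deg_single, one_mul, hdeg] at h1
  have hPd : P.deg = 1 := by omega
  refine ⟨P, hPd, ?_⟩
  by_contra hne'
  have hlt : (Finsupp.single P 1 : Divisor k K) < D := lt_of_le_of_ne hle (Ne.symm hne')
  have := Divisor.deg_lt_of_lt hK hlt
  rw [Divisor.deg_single, one_mul, hdeg, hPd] at this
  omega

theorem poleDiv_le_of_mem_L (hK : IsFunctionField k K) {D : Divisor k K} (hD : 0 ≤ D) {x : K}
    (hx0 : x ≠ 0) (hx : x ∈ L D) : (poleDiv x : Divisor k K) ≤ D := by
  rw [mem_L_iff hK D hx0] at hx
  unfold poleDiv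
  exact sup_le (by simpa using neg_le_neg hx) hD

theorem exists_adjoin_eq_top_of_genus_zero (hK : IsFunctionField k K) (hg : genus k K = 0)
    {P : Place k K} (hP : P.deg = 1) : ∃ x : K, IntermediateField.adjoin k ({x} : Set K) = ⊤ := by
  set D : Divisor k K := Finsupp.single P 1 with hD
  have hD0 : (0 : Divisor k K) ≤ D := by
    intro Q; classical
    rw [hD, Finsupp.single_apply]; split_ifs <;> simp
  have hdeg : D.deg = 1 := by rw [hD, Divisor.deg_single, hP]; simp
  have h1 := ell_eq_of_large hK (D := D) (by rw [hg, hdeg]; simp)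
  rw [hdeg, hg] at h1
  have h2 : ell D = 2 := by
    have : (ell D : ℤ) = 2 := by rw [h1]; norm_num
    exact_mod_cast this
  -- some element of L(D) is not constant
  obtain ⟨x, hxD, hxk⟩ : ∃ x ∈ L D, x ∉ Set.range (algebraMap k K) := by
    by_contra hall
    push Not at hall
    have hle : L D ≤ L (0 : Divisor k K) := by
      intro x hx
      rw [L_zero_eq_one hK, Submodule.mem_one]
      exact hall x hx
    have := (finrank_L_zero hK).1
    have h3 := Submodule.finrank_mono hle
    rw [(finrank_L_zero hK).2] at h3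
    unfold ell at h2
    omega
  have hx := transcendental_of_not_mem_range hK hxk
  have hx0 : x ≠ 0 := fun h => hx (h ▸ isAlgebraic_zero)
  have h3 := Divisor.deg_mono (poleDiv_le_of_mem_L hK hD0 hx0 hxD)
  rw [deg_poleDiv hK hx, hdeg] at h3
  have := finite_of_transcendental hK hx
  have h4 : 0 < Module.finrank (IntermediateField.adjoin k ({x} : Set K)) K := Module.finrank_pos
  have h5 : Module.finrank (IntermediateField.adjoin k ({x} : Set K)) K = 1 := by omega
  exact ⟨x, IntermediateField.finrank_eq_one_iff_eq_top.1 h5⟩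

theorem poleDiv_eq_single_of_adjoin_eq_top (hK : IsFunctionField k K) {x : K}
    (h : IntermediateField.adjoin k ({x} : Set K) = ⊤) :
    ∃ P : Place k K, P.deg = 1 ∧ (poleDiv x : Divisor k K) = Finsupp.single P 1 := by
  have hx := transcendental_of_adjoin_eq_top hK h
  have h1 : Module.finrank (IntermediateField.adjoin k ({x} : Set K)) K = 1 :=
    IntermediateField.finrank_eq_one_iff_eq_top.2 h
  have hdeg : (poleDiv x : Divisor k K).deg = 1 := by rw [deg_poleDiv hK hx, h1]; rfl
  exact exists_single_of_deg_eq_one hK (poleDiv_nonneg x) hdeg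

theorem genus_zero_iff (hK : IsFunctionField k K) :
    (genus k K = 0 ∧ ∃ P : Place k K, P.deg = 1) ↔
      ∃ x : K, IntermediateField.adjoin k ({x} : Set K) = ⊤ := by
  constructor
  · rintro ⟨hg, P, hP⟩
    exact exists_adjoin_eq_top_of_genus_zero hK hg hP
  · rintro ⟨x, h⟩
    have hx := transcendental_of_adjoin_eq_top hK h
    have h1 : Module.finrank (IntermediateField.adjoin k ({x} : Set K)) K = 1 :=
      IntermediateField.finrank_eq_one_iff_eq_top.2 h
    obtain ⟨P, hP, -⟩ := poleDiv_eq_single_of_adjoin_eq_top hK h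
    exact ⟨genus_eq_zero_of_finrank_eq_one hK hx h1, P, hP⟩

end Groth.Agent.Helper16.FF
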