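import Mathlib
import Groth.Agent.Lib.Helper16.FF.Rational

set_option autoImplicit false

namespace Groth.Agent.Helper16.FF

open FunFld IntermediateField Polynomial
open scoped WithZero

variable {k K : Type*} [Field k] [Field K] [Algebra k K]

theorem transcendental_of_ord_ne_zero (hK : IsFunctionField k K) {x : K} {P : Place k K}
    (h : P.ord x ≠ 0) : Transcendental k x := by
  intro halg
  obtain ⟨c, rfl⟩ := hK.2 x halg
  exact h (Place.ord_algebraMap P c)

theorem poleDiv_eq_single_of_simple_pole (hK : IsFunctionField k K) {x : K} {P : Place k K}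
    (h1 : P.ord x = -1) (h2 : ∀ Q : Place k K, Q ≠ P → 0 ≤ Q.ord x) :
    (poleDiv x : Divisor k K) = Finsupp.single P 1 := by
  classical
  ext Q
  rw [poleDiv_apply hK, Finsupp.single_apply]
  split_ifs with h
  · subst h; rw [h1]; rfl
  · have := h2 Q (fun e => h e.symm)
    exact max_eq_right (by omega)

theorem adjoin_eq_top_of_simple_pole (hK : IsFunctionField k K) {x : K} {P : Place k K}
    (hP : P.deg = 1) (h1 : P.ord x = -1) (h2 : ∀ Q : Place k K, Q ≠ P → 0 ≤ Q.ord x) :
    IntermediateField.adjoin k ({x} : Set K) = ⊤ := by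
  have hx := transcendental_of_ord_ne_zero hK (x := x) (P := P) (by omega)
  have h3 := deg_poleDiv hK hx
  rw [poleDiv_eq_single_of_simple_pole hK h1 h2, Divisor.deg_single, hP] at h3
  have h5 : Module.finrank (IntermediateField.adjoin k ({x} : Set K)) K = 1 := by
    have : ((Module.finrank (IntermediateField.adjoin k ({x} : Set K)) K : ℕ) : ℤ) = 1 := by
      rw [← h3]; norm_num
    exact_mod_cast this
  exact IntermediateField.finrank_eq_one_iff_eq_top.1 h5

theorem simple_pole_iff (hK : IsFunctionField k K) :
    (∃ (x : K) (P : Place k K), P.deg = 1 ∧ P.ord x = -1 ∧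
        ∀ Q : Place k K, Q ≠ P → 0 ≤ Q.ord x) ↔
      ∃ x : K, IntermediateField.adjoin k ({x} : Set K) = ⊤ := by
  classical
  constructor
  · rintro ⟨x, P, hP, h1, h2⟩
    exact ⟨x, adjoin_eq_top_of_simple_pole hK hP h1 h2⟩
  · rintro ⟨x, h⟩
    obtain ⟨P, hP, hpole⟩ := poleDiv_eq_single_of_adjoin_eq_top hK h
    refine ⟨x, P, hP, ?_, ?_⟩
    · have := congrArg (fun D : Divisor k K => D P) hpole
      simp only [Finsupp.single_eq_same] at this
      rw [poleDiv_apply hK] at this
      rcases le_total (-P.ord x) 0 with h0 | h0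
      · rw [max_eq_right h0] at this; omega
      · rw [max_eq_left h0] at this; omega
    · intro Q hQ
      have := congrArg (fun D : Divisor k K => D Q) hpole
      simp only [Finsupp.single_apply, if_neg (Ne.symm hQ)] at this
      rw [poleDiv_apply hK] at this
      have := le_max_left (-Q.ord x) 0
      omega

theorem eq_of_single_sub_single_eq_div (hK : IsFunctionField k K) (hg : 0 < genus k K)
    {P P' : Place k K} (hP : P.deg = 1) (hP' : P'.deg = 1) {x : K} (hx : x ≠ 0)
    (h : (Finsupp.single P 1 - Finsupp.single P' 1 : Divisor k K) = div k x) : P = P' := by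
  classical
  by_contra hne
  have h1 : P'.ord x = -1 := by
    rw [← div_apply hK, ← h, Finsupp.sub_apply, Finsupp.single_apply, Finsupp.single_eq_same,
      if_neg hne]; rfl
  have h2 : ∀ Q : Place k K, Q ≠ P' → 0 ≤ Q.ord x := by
    intro Q hQ
    rw [← div_apply hK, ← h, Finsupp.sub_apply, Finsupp.single_apply, Finsupp.single_apply,
      if_neg (Ne.symm hQ)]
    split_ifs <;> simp
  have htop := adjoin_eq_top_of_simple_pole hK hP' h1 h2
  have := ((genus_zero_iff hK).2 ⟨x, htop⟩).1
  omega

end Groth.Agent.Helper16.FF
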