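import Mathlib
import Groth.Agent.Lib.Helper16.FF.Rational2

set_option autoImplicit false

namespace Groth.Agent.Helper16.FF

open FunFld IntermediateField Polynomial
open scoped WithZero

variable {k K : Type*} [Field k] [Field K] [Algebra k K]

theorem Place.deg_eq_one [IsAlgClosed k] (hK : IsFunctionField k K) (P : Place k K) :
    P.deg = 1 := by
  have hfd : Module.Finite k (IsLocalRing.ResidueField P.O) :=
    Place.finiteDimensional_residueField hK P
  let alg : Algebra k (IsLocalRing.ResidueField P.O) :=
    IsLocalRing.ResidueField.algebra (R := P.O) (R₀ := k)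
  have hfd' : @Module.Finite k (IsLocalRing.ResidueField P.O) _ _ alg.toModule := hfd
  have hint : @Algebra.IsIntegral k (IsLocalRing.ResidueField P.O) _ _ alg :=
    @Algebra.IsIntegral.of_finite k (IsLocalRing.ResidueField P.O) _ _ alg hfd'
  have hbij := @IsAlgClosed.algebraMap_bijective_of_isIntegral k (IsLocalRing.ResidueField P.O)
    _ _ _ _ alg hint
  let e : k ≃ₗ[k] IsLocalRing.ResidueField P.O :=
    LinearEquiv.ofBijective (@Algebra.linearMap k (IsLocalRing.ResidueField P.O) _ _ alg) hbij
  have h1 := e.finrank_eq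
  rw [Module.finrank_self] at h1
  exact h1.symm

theorem single_nonneg (P : Place k K) {n : ℤ} (hn : 0 ≤ n) :
    (0 : Divisor k K) ≤ Finsupp.single P n := by
  classical
  intro Q
  rw [Finsupp.single_apply]
  split_ifs <;> simp [hn]

/-- if `ℓ(P) ≥ 2` for a place of degree one then `K` is rational -/
theorem exists_adjoin_eq_top_of_two_le_ell (hK : IsFunctionField k K) {P : Place k K}
    (hP : P.deg = 1) (h2 : 2 ≤ ell (Finsupp.single P 1 : Divisor k K)) :
    ∃ x : K, IntermediateField.adjoin k ({x} : Set K) = ⊤ := by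
  set D : Divisor k K := Finsupp.single P 1 with hD
  have hD0 : (0 : Divisor k K) ≤ D := single_nonneg P (by norm_num)
  have hdeg : D.deg = 1 := by rw [hD, Divisor.deg_single, hP]; simp
  obtain ⟨x, hxD, hxk⟩ : ∃ x ∈ L D, x ∉ Set.range (algebraMap k K) := by
    by_contra hall
    push Not at hall
    have hle : L D ≤ L (0 : Divisor k K) := by
      intro x hx
      rw [L_zero_eq_one hK, Submodule.mem_one]
      exact hall x hx
    have := (finrank_L_zero hK).1
    have h3 := Submodule.finrank_mono hle
    rw [(finrank_L_zero hK).2] at h3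
    unfold ell at h2
    omega
  have hx := transcendental_of_not_mem_range hK hxk
  have hx0 : x ≠ 0 := fun h => hx (h ▸ isAlgebraic_zero)
  have h3 := Divisor.deg_mono (poleDiv_le_of_mem_L hK hD0 hx0 hxD)
  rw [deg_poleDiv hK hx, hdeg] at h3
  have := finite_of_transcendental hK hx
  have h4 : 0 < Module.finrank (IntermediateField.adjoin k ({x} : Set K)) K := Module.finrank_pos
  have h5 : Module.finrank (IntermediateField.adjoin k ({x} : Set K)) K = 1 := by omega
  exact ⟨x, IntermediateField.finrank_eq_one_iff_eq_top.1 h5⟩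

theorem ell_single_one_of_genus_pos (hK : IsFunctionField k K) (hg : 0 < genus k K) {P : Place k K}
    (hP : P.deg = 1) : ell (Finsupp.single P 1 : Divisor k K) = 1 := by
  have h1 := ell_mono hK (single_nonneg P (show (0 : ℤ) ≤ 1 by norm_num))
  rw [ell_zero hK] at h1
  by_contra hne
  have h2 : 2 ≤ ell (Finsupp.single P 1 : Divisor k K) := by omega
  obtain ⟨x, hx⟩ := exists_adjoin_eq_top_of_two_le_ell hK hP h2
  have := ((genus_zero_iff hK).2 ⟨x, hx⟩).1
  omega

theorem ell_sub_single_lt (hK : IsFunctionField k K) (hg : 0 < genus k K) (D : Divisor k K)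
    (hD : 2 * (genus k K : ℤ) ≤ D.deg ∨ IsCanonical k K D) {P : Place k K} (hP : P.deg = 1) :
    ell (D - Finsupp.single P 1) < ell D := by
  have hdeg : (D - Finsupp.single P 1).deg = D.deg - 1 := by
    rw [Divisor.deg_sub, Divisor.deg_single, hP]; simp
  rcases hD with hD | hD
  · have h1 := ell_eq_of_large hK (D := D) (by omega)
    have h2 := ell_eq_of_large hK (D := D - Finsupp.single P 1) (by rw [hdeg]; omega)
    rw [hdeg] at h2
    have : (ell (D - Finsupp.single P 1) : ℤ) < ell D := by omega
    exact_mod_cast this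
  · obtain ⟨h1, h2⟩ := canonical_ell_deg hK hD
    have h3 := riemann_roch hK hD (D - Finsupp.single P 1)
    rw [sub_sub_cancel, ell_single_one_of_genus_pos hK hg hP, hdeg, h2] at h3
    have : (ell (D - Finsupp.single P 1) : ℤ) < ell D := by rw [h1]; push_cast at h3 ⊢; omega
    exact_mod_cast this

end Groth.Agent.Helper16.FF
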