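import Mathlib
import Groth.Agent.Lib.Helper16.FF.AlgClosed

set_option autoImplicit false

namespace Groth.Agent.Helper16.FF

open FunFld IntermediateField Polynomial
open scoped WithZero

variable {k K : Type*} [Field k] [Field K] [Algebra k K]

/-- at a place of degree one every integral element is congruent to a constant -/
theorem exists_const_sub_lt_one (hK : IsFunctionField k K) {Q : Place k K} (hQ : Q.deg = 1) {f : K}
    (hf : Q.1 f ≤ 1) : ∃ c : k, Q.1 (f - algebraMap k K c) < 1 := by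
  have h := hasRelDim_Vloc_succ hK Q (-1)
  rw [show (-1 : ℤ) + 1 = 0 by norm_num, hQ] at h
  obtain ⟨hfd, hr⟩ := h
  have h1 : (1 : K) ∈ Vloc Q 0 := by
    rw [mem_Vloc, map_one, WithZero.exp_zero]
  have hfm : f ∈ Vloc Q 0 := by
    rw [mem_Vloc, WithZero.exp_zero]; exact hf
  set q1 : ↥(Vloc Q 0) ⧸ (Vloc Q (-1)).comap (Vloc Q 0).subtype :=
    Submodule.Quotient.mk ⟨1, h1⟩ with hq1
  have hq1ne : q1 ≠ 0 := by
    rw [hq1, Ne, Submodule.Quotient.mk_eq_zero]
    intro hmem
    have : Q.1 (1 : K) ≤ WithZero.exp (-1 : ℤ) := hmem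
    rw [map_one, ← WithZero.exp_zero, WithZero.exp_le_exp] at this
    omega
  obtain ⟨c, hc⟩ := (finrank_eq_one_iff_of_nonzero' q1 hq1ne).1 hr
    (Submodule.Quotient.mk ⟨f, hfm⟩)
  refine ⟨c, ?_⟩
  rw [hq1, ← Submodule.Quotient.mk_smul, eq_comm, Submodule.Quotient.eq] at hc
  have hmem : Q.1 (f - c • (1 : K)) ≤ WithZero.exp (-1 : ℤ) := hc
  rw [Algebra.smul_def, mul_one] at hmem
  exact lt_of_le_of_lt hmem (by rw [← WithZero.exp_zero, WithZero.exp_lt_exp]; norm_num)

/-- transport of a place along an automorphism -/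
def Place.comapAut (σ : K ≃ₐ[k] K) (P : Place k K) : Place k K :=
  ⟨P.1.comap (σ : K →+* K), fun c => by
    show P.1 (σ (algebraMap k K c)) ≤ 1
    rw [σ.commutes]; exact P.2.1 c, fun γ => by
    obtain ⟨x, hx⟩ := P.2.2 γ
    exact ⟨σ.symm x, by show P.1 (σ (σ.symm x)) = γ; rw [σ.apply_symm_apply]; exact hx⟩⟩

theorem Place.comapAut_apply (σ : K ≃ₐ[k] K) (P : Place k K) (x : K) :
    (Place.comapAut σ P).1 x = P.1 (σ x) := rfl

theorem Place.comapAut_symm (σ : K ≃ₐ[k] K) (P : Place k K) :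
    Place.comapAut σ (Place.comapAut σ.symm P) = P := by
  apply Place.ext'
  intro x
  rw [Place.comapAut_apply, Place.comapAut_apply, σ.symm_apply_apply]

theorem Place.comapAut_eq_of_fixed (σ : K ≃ₐ[k] K) (P : Place k K)
    (h : ∀ x : K, P.1 x < 1 → P.1 (σ x) < 1) : Place.comapAut σ P = P := by
  by_contra hne
  obtain ⟨z, hz1, hz2⟩ := Place.exists_lt_one_lt P (Place.comapAut σ P) (Ne.symm hne)
  rw [Place.comapAut_apply] at hz2
  exact absurd (h z hz1) (not_lt.2 hz2.le)

theorem infinite_places [IsAlgClosed k] (hK : IsFunctionField k K) : Infinite (Place k K) := by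
  obtain ⟨x, hx, -⟩ := hK.1
  have htr : ∀ c : k, Transcendental k (x - algebraMap k K c) := by
    intro c halg
    apply hx
    have := halg.add (isAlgebraic_algebraMap (R := k) (A := K) c)
    simpa using this
  have hP : ∀ c : k, ∃ P : Place k K, P.1 (x - algebraMap k K c) < 1 := fun c =>
    exists_zero hK (htr c)
  choose P hP using hP
  refine Infinite.of_injective P ?_
  intro c c' hcc
  by_contra hne
  have h1 := hP c
  have h2 := hP c'
  rw [hcc] at h1
  have h3 : (P c').1 ((x - algebraMap k K c') - (x - algebraMap k K c)) < 1 :=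
    lt_of_le_of_lt (Valuation.map_sub _ _ _) (max_lt h2 h1)
  have e : (x - algebraMap k K c') - (x - algebraMap k K c) = algebraMap k K (c - c') := by
    rw [map_sub]; ring
  rw [e, Place.val_algebraMap _ (sub_ne_zero.2 hne)] at h3
  exact lt_irrefl _ h3

end Groth.Agent.Helper16.FF
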