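import Mathlib
import Groth.Agent.Lib.Helper16.FF.AutA

set_option autoImplicit false

namespace Groth.Agent.Helper16.FF

open FunFld IntermediateField Polynomial
open scoped WithZero

variable {k K : Type*} [Field k] [Field K] [Algebra k K]

theorem card_zeros_le (hK : IsFunctionField k K) {h : K} (hh : Transcendental k h)
    (S : Finset (Place k K)) (hS : ∀ Q ∈ S, Q.1 h < 1) :
    S.card ≤ Module.finrank (IntermediateField.adjoin k ({h} : Set K)) K := by
  classical
  have h0 : h ≠ 0 := fun e => hh (e ▸ isAlgebraic_zero)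
  have h1 := sum_ord_mul_deg_le hK hh (fun Q : ↥S => (Q : Place k K)) Subtype.val_injective
    (fun Q => hS Q Q.2)
  refine le_trans ?_ h1
  have h2 : ∀ Q : ↥S, 1 ≤ ((Q : Place k K).ord h).toNat * (Q : Place k K).deg := by
    intro Q
    have ha : 0 < (Q : Place k K).ord h := Place.ord_pos_of_val_lt_one _ h0 (hS Q Q.2)
    have hb : 0 < (Q : Place k K).deg := Place.deg_pos hK _
    have : 1 ≤ ((Q : Place k K).ord h).toNat := by omega
    exact Nat.one_le_iff_ne_zero.mpr (Nat.mul_ne_zero (by omega) (by omega))
  calc S.card = ∑ _Q : ↥S, 1 := by simp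
    _ ≤ _ := Finset.sum_le_sum fun Q _ => h2 Q

theorem exists_nonconstant_mem_L (hK : IsFunctionField k K) {D : Divisor k K}
    (h2 : 2 ≤ ell D) : ∃ x ∈ L D, x ∉ Set.range (algebraMap k K) := by
  by_contra hall
  push Not at hall
  have hle : L D ≤ L (0 : Divisor k K) := by
    intro x hx
    rw [L_zero_eq_one hK, Submodule.mem_one]
    exact hall x hx
  have := (finrank_L_zero hK).1
  have h3 := Submodule.finrank_mono hle
  rw [(finrank_L_zero hK).2] at h3
  unfold ell at h2
  omega

theorem transcendental_of_zero (hK : IsFunctionField k K) {h : K} (h0 : h ≠ 0) {Q : Place k K}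
    (hQ : Q.1 h < 1) : Transcendental k h :=
  Place.transcendental_of_val_ne_one hK Q h0 (ne_of_lt hQ)

theorem finite_poles (hK : IsFunctionField k K) (f : K) : {Q : Place k K | ¬ Q.1 f ≤ 1}.Finite := by
  have := range_diag_le_adele hK (⟨f, rfl⟩ : diag k K f ∈ LinearMap.range (diag k K))
  rwa [mem_adele] at this

end Groth.Agent.Helper16.FF
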