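import Mathlib
import Groth.Agent.Lib.Helper16.FF.AlgClosed

set_option autoImplicit false

namespace Groth.Agent.Helper16.FF

open FunFld IntermediateField Polynomial
open scoped WithZero

variable {k K : Type*} [Field k] [Field K] [Algebra k K]

/-- `m` is a gap number at `P` -/
def IsGap (P : Place k K) (m : ℕ) : Prop :=
  L (Finsupp.single P (m : ℤ) : Divisor k K) = L (Finsupp.single P ((m : ℤ) - 1))

theorem single_apply_ne {P Q : Place k K} (h : Q ≠ P) (n : ℤ) :
    (Finsupp.single P n : Divisor k K) Q = 0 := by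
  classical
  rw [Finsupp.single_apply, if_neg (Ne.symm h)]

theorem not_isGap_iff (P : Place k K) (m : ℕ) :
    ¬ IsGap P m ↔ ∃ x : K, x ∈ L (Finsupp.single P (m : ℤ) : Divisor k K) ∧
      P.1 x = WithZero.exp (m : ℤ) := by
  classical
  have hle : L (Finsupp.single P ((m : ℤ) - 1) : Divisor k K) ≤ L (Finsupp.single P (m : ℤ)) := by
    apply L_mono
    intro Q
    rw [Finsupp.single_apply, Finsupp.single_apply]
    split_ifs <;> omega
  constructor
  · intro h
    have hnle : ¬ L (Finsupp.single P (m : ℤ) : Divisor k K) ≤ L (Finsupp.single P ((m : ℤ) - 1)) :=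
      fun h' => h (le_antisymm h' hle)
    obtain ⟨x, hx, hx'⟩ := SetLike.not_le_iff_exists.1 hnle
    refine ⟨x, hx, ?_⟩
    rw [mem_L] at hx'
    push Not at hx'
    obtain ⟨Q, hQ⟩ := hx'
    have hQP : Q = P := by
      by_contra hne
      rw [single_apply_ne hne] at hQ
      have := hx Q
      rw [single_apply_ne hne] at this
      exact absurd this (not_le.2 hQ)
    subst hQP
    rw [Finsupp.single_eq_same] at hQ
    have h1 := hx Q
    rw [Finsupp.single_eq_same] at h1
    apply le_antisymm h1
    by_contra hlt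
    push Not at hlt
    have : Q.1 x ≤ WithZero.exp ((m : ℤ) - 1) := by
      rw [← lt_exp_succ_iff]; simpa using hlt
    exact absurd this (not_le.2 hQ)
  · rintro ⟨x, hx, hxP⟩ hgap
    unfold IsGap at hgap
    rw [hgap] at hx
    have := hx P
    rw [Finsupp.single_eq_same, hxP, WithZero.exp_le_exp] at this
    omega

theorem not_isGap_add (P : Place k K) {m m' : ℕ} (h : ¬ IsGap P m) (h' : ¬ IsGap P m') :
    ¬ IsGap P (m + m') := by
  classical
  rw [not_isGap_iff] at h h' ⊢
  obtain ⟨x, hx, hxP⟩ := h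
  obtain ⟨y, hy, hyP⟩ := h'
  refine ⟨x * y, ?_, ?_⟩
  · intro Q
    rw [map_mul]
    have e : (Finsupp.single P ((m + m' : ℕ) : ℤ) : Divisor k K) Q =
        (Finsupp.single P (m : ℤ) : Divisor k K) Q + (Finsupp.single P (m' : ℤ) : Divisor k K) Q := by
      rw [← Finsupp.add_apply, ← Finsupp.single_add]; push_cast; rfl
    rw [e, WithZero.exp_add]
    exact mul_le_mul' (hx Q) (hy Q)
  · rw [map_mul, hxP, hyP, ← WithZero.exp_add]; push_cast; rfl

/-- If `n` is a gap then at least half of `1, …, n-1` are gaps. -/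
theorem gaps_half (P : Place k K) (n : ℕ) (hn : 1 ≤ n) (hgap : IsGap P n) :
    n - 1 ≤ 2 * Set.ncard {m : ℕ | 1 ≤ m ∧ m < n ∧ IsGap P m} := by
  classical
  set Gf : Finset ℕ := (Finset.Ico 1 n).filter (IsGap P) with hGf
  have hset : {m : ℕ | 1 ≤ m ∧ m < n ∧ IsGap P m} = ↑Gf := by
    ext m
    simp only [Set.mem_ofPred_eq, hGf, Finset.coe_filter, Finset.mem_Ico]
    tauto
  rw [hset, Set.ncard_coe_finset]
  have hsub : Finset.Ico 1 n ⊆ Gf ∪ Gf.image (fun m => n - m) := by
    intro m hm
    rw [Finset.mem_Ico] at hm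
    rw [Finset.mem_union]
    by_cases h1 : IsGap P m
    · left; exact Finset.mem_filter.2 ⟨Finset.mem_Ico.2 hm, h1⟩
    · right
      have h2 : IsGap P (n - m) := by
        by_contra h2
        have := not_isGap_add P h1 h2
        rw [show m + (n - m) = n by omega] at this
        exact this hgap
      rw [Finset.mem_image]
      exact ⟨n - m, Finset.mem_filter.2 ⟨Finset.mem_Ico.2 ⟨by omega, by omega⟩, h2⟩, by omega⟩
  have h1 := Finset.card_le_card hsub
  rw [Nat.card_Ico] at h1
  have h2 := Finset.card_union_le Gf (Gf.image (fun m => n - m))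
  have h3 := Finset.card_image_le (s := Gf) (f := fun m => n - m)
  omega

end Groth.Agent.Helper16.FF
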