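import Mathlib
import Groth.Agent.Lib.Helper16.FF.AutB
import Groth.Agent.Lib.Helper16.FF.Gap

set_option autoImplicit false

namespace Groth.Agent.Helper16.FF

open FunFld IntermediateField Polynomial
open scoped WithZero

variable {k K : Type*} [Field k] [Field K] [Algebra k K]

/-- if every place is fixed then the automorphism is trivial -/
theorem aut_eq_one_of_all_fixed [IsAlgClosed k] (hK : IsFunctionField k K) (σ : K ≃ₐ[k] K)
    (hall : ∀ P : Place k K, ∀ x : K, P.1 x < 1 → P.1 (σ x) < 1) : σ = 1 := by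
  apply AlgEquiv.ext
  intro f
  show σ f = f
  by_contra hne
  set h₀ := σ f - f with hh₀
  have h0 : h₀ ≠ 0 := sub_ne_zero.2 hne
  have hfix : ∀ P : Place k K, Place.comapAut σ P = P := fun P =>
    Place.comapAut_eq_of_fixed σ P (hall P)
  have hzero : ∀ Q : Place k K, Q.1 f ≤ 1 → Q.1 h₀ < 1 := by
    intro Q hQ
    obtain ⟨c, hc⟩ := exists_const_sub_lt_one hK (Place.deg_eq_one hK Q) hQ
    have h1 := hall Q _ hc
    rw [map_sub, σ.commutes] at h1
    have e : h₀ = (σ f - algebraMap k K c) - (f - algebraMap k K c) := by rw [hh₀]; ring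
    rw [e]
    exact lt_of_le_of_lt (Valuation.map_sub _ _ _) (max_lt h1 hc)
  have := infinite_places hK
  have hinf : {Q : Place k K | Q.1 f ≤ 1}.Infinite := by
    have h1 := (finite_poles hK f).infinite_compl
    convert h1 using 1
    ext Q; simp
  obtain ⟨Q, hQ⟩ := hinf.nonempty
  have htr := transcendental_of_zero hK h0 (hzero Q hQ)
  exact hinf ((finite_zeros hK htr).subset fun Q hQ => hzero Q hQ)

theorem aut_eq_one [IsAlgClosed k] (hK : IsFunctionField k K) (σ : K ≃ₐ[k] K)
    (h : ((2 * genus k K + 2 : ℕ) : ℕ∞) <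
      Set.encard {P : Place k K | ∀ x : K, P.1 x < 1 → P.1 (σ x) < 1}) : σ = 1 := by
  classical
  set F := {P : Place k K | ∀ x : K, P.1 x < 1 → P.1 (σ x) < 1} with hF
  by_cases hall : ∀ P : Place k K, P ∈ F
  · exact aut_eq_one_of_all_fixed hK σ hall
  exfalso
  push Not at hall
  obtain ⟨P₁, hP₁⟩ := hall
  set g := genus k K with hg
  -- a finite set of 2g+3 fixed places
  have hle : ((2 * g + 3 : ℕ) : ℕ∞) ≤ F.encard := by
    have h1 := Order.add_one_le_of_lt h
    have e : ((2 * g + 3 : ℕ) : ℕ∞) = ((2 * g + 2 : ℕ) : ℕ∞) + 1 := by push_cast; ring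
    rw [e]; exact h1
  obtain ⟨t, htF, htc⟩ := Set.exists_subset_encard_eq hle
  have htfin : t.Finite := Set.finite_of_encard_eq_coe htc
  set S := htfin.toFinset with hS
  have hScard : S.card = 2 * g + 3 := by
    have := htfin.encard_eq_coe_toFinset_card
    rw [htc] at this
    exact_mod_cast this.symm
  have hSF : ∀ Q ∈ S, Q ∈ F := fun Q hQ => htF (htfin.mem_toFinset.1 hQ)
  -- the other pole
  set P₁' := Place.comapAut σ.symm P₁ with hP₁'
  have hcomap : Place.comapAut σ P₁' = P₁ := Place.comapAut_symm σ P₁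
  have hP₁'F : P₁' ∉ F := by
    intro hmem
    have := Place.comapAut_eq_of_fixed σ P₁' hmem
    rw [hcomap] at this
    rw [← this] at hmem
    exact hP₁ hmem
  have hne1 : Place.comapAut σ P₁ ≠ P₁ := by
    intro he
    apply hP₁
    intro x hx
    rw [← Place.comapAut_apply, he]; exact hx
  -- the function f
  set D : Divisor k K := (g + 1) • (Finsupp.single P₁ 1 : Divisor k K) with hD
  set D' : Divisor k K := (g + 1) • (Finsupp.single P₁' 1 : Divisor k K) with hD'
  have hD0 : (0 : Divisor k K) ≤ D := nsmul_nonneg (single_nonneg P₁ (by norm_num)) _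
  have hD'0 : (0 : Divisor k K) ≤ D' := nsmul_nonneg (single_nonneg P₁' (by norm_num)) _
  have hdegD : D.deg = g + 1 := by
    rw [hD, Divisor.deg_nsmul, Divisor.deg_single, Place.deg_eq_one hK P₁]; push_cast; ring
  have hdegD' : D'.deg = g + 1 := by
    rw [hD', Divisor.deg_nsmul, Divisor.deg_single, Place.deg_eq_one hK P₁']; push_cast; ring
  have hDQ : ∀ Q : Place k K, Q ≠ P₁ → D Q = 0 := by
    intro Q hQ
    rw [hD, Finsupp.smul_apply, single_apply_ne hQ, smul_zero]
  have hD'Q : ∀ Q : Place k K, Q ≠ P₁' → D' Q = 0 := by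
    intro Q hQ
    rw [hD', Finsupp.smul_apply, single_apply_ne hQ, smul_zero]
  have hell : 2 ≤ ell D := by
    have := riemann_le hK D
    rw [hdegD] at this
    have h2 : (2 : ℤ) ≤ ell D := by omega
    exact_mod_cast h2
  obtain ⟨f, hfD, hfk⟩ := exists_nonconstant_mem_L hK hell
  have hftr := transcendental_of_not_mem_range hK hfk
  have hfreg : ∀ Q : Place k K, Q ≠ P₁ → Q.1 f ≤ 1 := by
    intro Q hQ
    have := hfD Q
    rwa [hDQ Q hQ, WithZero.exp_zero] at this
  have hfpole : 1 < P₁.1 f := by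
    obtain ⟨Q, hQ⟩ := exists_pole hK hftr
    by_cases hQP : Q = P₁
    · rw [← hQP]; exact hQ
    · exact absurd (hfreg Q hQP) (not_le.2 hQ)
  set h₀ := σ f - f with hh₀
  have h0 : h₀ ≠ 0 := by
    intro he
    have hσf : σ f = f := sub_eq_zero.1 he
    apply hne1
    by_contra hne
    have := hfreg _ hne
    rw [Place.comapAut_apply, hσf] at this
    exact absurd this (not_le.2 hfpole)
  -- σ f ∈ L(D')
  have hσfD' : σ f ∈ L D' := by
    intro Q
    rw [← Place.comapAut_apply]
    by_cases hQ : Q = P₁'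
    · rw [hQ, hcomap]
      have := hfD P₁
      have e : D P₁ = D' P₁' := by
        rw [hD, hD', Finsupp.smul_apply, Finsupp.smul_apply, Finsupp.single_eq_same,
          Finsupp.single_eq_same]
      rwa [e] at this
    · have hne : Place.comapAut σ Q ≠ P₁ := by
        intro he
        apply hQ
        have h1 := Place.comapAut_symm σ.symm Q
        rw [AlgEquiv.symm_symm, he] at h1
        exact h1.symm
      rw [hD'Q Q hQ, WithZero.exp_zero]
      exact hfreg _ hne
  have hh₀mem : h₀ ∈ L (D + D') := by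
    apply Submodule.sub_mem
    · exact L_mono (le_add_of_nonneg_left hD0) hσfD'
    · exact L_mono (le_add_of_nonneg_right hD'0) hfD
  -- zeros
  have hzero : ∀ Q ∈ S, Q.1 h₀ < 1 := by
    intro Q hQS
    have hQF := hSF Q hQS
    have hQ1 : Q ≠ P₁ := fun e => hP₁ (e ▸ hQF)
    have hQ2 : Q ≠ P₁' := fun e => hP₁'F (e ▸ hQF)
    obtain ⟨c, hc⟩ := exists_const_sub_lt_one hK (Place.deg_eq_one hK Q) (hfreg Q hQ1)
    have h1 := hQF _ hc
    rw [map_sub, σ.commutes] at h1
    have e : h₀ = (σ f - algebraMap k K c) - (f - algebraMap k K c) := by rw [hh₀]; ring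
    rw [e]
    exact lt_of_le_of_lt (Valuation.map_sub _ _ _) (max_lt h1 hc)
  have hSne : S.Nonempty := by
    rw [← Finset.card_pos, hScard]; omega
  obtain ⟨Q₀, hQ₀⟩ := hSne
  have htr := transcendental_of_zero hK h0 (hzero Q₀ hQ₀)
  have h1 := card_zeros_le hK htr S hzero
  have h2 := Divisor.deg_mono (poleDiv_le_of_mem_L hK (add_nonneg hD0 hD'0) h0 hh₀mem)
  rw [deg_poleDiv hK htr, Divisor.deg_add, hdegD, hdegD'] at h2
  have h3 : ((S.card : ℕ) : ℤ) ≤ (g : ℤ) + 1 + ((g : ℤ) + 1) := le_trans (by exact_mod_cast h1) h2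
  rw [hScard] at h3
  push_cast at h3
  omega

end Groth.Agent.Helper16.FF
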