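import Mathlib
import Groth.Agent.Lib.Helper16.FF.Approx

set_option autoImplicit false

namespace Groth.Agent.Helper16.FF

open FunFld
open scoped WithZero

variable {k K K' : Type*} [Field k] [Field K] [Field K'] [Algebra k K] [Algebra K K'] [Algebra k K']
  [IsScalarTower k K K']

/-- transport of a place of `K'` along a `K`-automorphism -/
def Place.comapAutK (σ : K' ≃ₐ[K] K') (Q : Place k K') : Place k K' :=
  ⟨Q.1.comap (σ : K' →+* K'), fun c => by
    show Q.1 (σ (algebraMap k K' c)) ≤ 1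
    rw [IsScalarTower.algebraMap_apply k K K', σ.commutes, ← IsScalarTower.algebraMap_apply]
    exact Q.2.1 c, fun γ => by
    obtain ⟨x, hx⟩ := Q.2.2 γ
    exact ⟨σ.symm x, by show Q.1 (σ (σ.symm x)) = γ; rw [σ.apply_symm_apply]; exact hx⟩⟩

theorem Place.comapAutK_apply (σ : K' ≃ₐ[K] K') (Q : Place k K') (x : K') :
    (Place.comapAutK σ Q).1 x = Q.1 (σ x) := rfl

theorem Place.comapAutK_mul (σ τ : K' ≃ₐ[K] K') (Q : Place k K') :
    Place.comapAutK τ (Place.comapAutK σ Q) = Place.comapAutK (σ * τ) Q := by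
  apply Place.ext'
  intro x
  rw [Place.comapAutK_apply, Place.comapAutK_apply, Place.comapAutK_apply, AlgEquiv.mul_apply]

theorem Place.comapAutK_one (Q : Place k K') :
    Place.comapAutK (1 : K' ≃ₐ[K] K') Q = Q := by
  apply Place.ext'
  intro x
  rw [Place.comapAutK_apply, AlgEquiv.one_apply]

theorem galois_transitive [FiniteDimensional K K'] [IsGalois K K'] (Q₁ Q₂ : Place k K')
    (h : (Q₁.1.comap (algebraMap K K')).IsEquiv (Q₂.1.comap (algebraMap K K'))) :
    ∃ σ : K' ≃ₐ[K] K', Q₁.1.comap (σ : K' →+* K') = Q₂.1 := by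
  classical
  by_contra hno
  push Not at hno
  have hno' : ∀ σ : K' ≃ₐ[K] K', Place.comapAutK σ Q₁ ≠ Q₂ := by
    intro σ he
    exact hno σ (congrArg Subtype.val he)
  set A : Finset (Place k K') := Finset.univ.image (fun σ : K' ≃ₐ[K] K' => Place.comapAutK σ Q₁)
    with hA
  set B : Finset (Place k K') := Finset.univ.image (fun σ : K' ≃ₐ[K] K' => Place.comapAutK σ Q₂)
    with hB
  have hdisj : ∀ v ∈ B, v ∉ A := by
    intro v hvB hvA
    obtain ⟨τ, -, rfl⟩ := Finset.mem_image.1 hvB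
    obtain ⟨σ, -, hσ⟩ := Finset.mem_image.1 hvA
    apply hno' (σ * τ⁻¹)
    rw [← Place.comapAutK_mul, hσ, Place.comapAutK_mul, mul_inv_cancel, Place.comapAutK_one]
  -- approximation
  obtain ⟨z, hz⟩ := weak_approx (fun i : ↥(A ∪ B) => (i : Place k K')) Subtype.val_injective
    (fun i => if (i : Place k K') ∈ A then 1 else 0) (fun _ => -1)
  have hlt : (WithZero.exp (-1 : ℤ) : ℤᵐ⁰) < 1 := by
    rw [← WithZero.exp_zero, WithZero.exp_lt_exp]; norm_num
  have hzA : ∀ σ : K' ≃ₐ[K] K', Q₁.1 (σ z) = 1 := by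
    intro σ
    have hmem : Place.comapAutK σ Q₁ ∈ A := Finset.mem_image.2 ⟨σ, Finset.mem_univ _, rfl⟩
    have := hz ⟨_, Finset.mem_union_left _ hmem⟩
    simp only [if_pos hmem] at this
    have h1 : (Place.comapAutK σ Q₁).1 (z - 1) < (Place.comapAutK σ Q₁).1 1 := by
      rw [map_one]; exact lt_of_le_of_lt this hlt
    have := Valuation.map_eq_of_sub_lt _ h1
    rwa [map_one, Place.comapAutK_apply] at this
  have hzB : ∀ σ : K' ≃ₐ[K] K', Q₂.1 (σ z) ≤ WithZero.exp (-1 : ℤ) := by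
    intro σ
    have hmem : Place.comapAutK σ Q₂ ∈ B := Finset.mem_image.2 ⟨σ, Finset.mem_univ _, rfl⟩
    have := hz ⟨_, Finset.mem_union_right _ hmem⟩
    simp only [if_neg (hdisj _ hmem), sub_zero] at this
    rwa [Place.comapAutK_apply] at this
  have hN := Algebra.norm_eq_prod_automorphisms K z
  have h1 : Q₁.1 (algebraMap K K' (Algebra.norm K z)) = 1 := by
    rw [hN, map_prod]
    exact Finset.prod_eq_one fun σ _ => hzA σ
  have h2 : Q₂.1 (algebraMap K K' (Algebra.norm K z)) < 1 := by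
    rw [hN, map_prod]
    calc ∏ σ : K' ≃ₐ[K] K', Q₂.1 (σ z) ≤ ∏ _σ : K' ≃ₐ[K] K', WithZero.exp (-1 : ℤ) :=
          Finset.prod_le_prod' fun σ _ => hzB σ
      _ = WithZero.exp (-1 : ℤ) ^ Fintype.card (K' ≃ₐ[K] K') := by simp
      _ < 1 := pow_lt_one₀ zero_le hlt Fintype.card_ne_zero
  have h3 := (h 1 (Algebra.norm K z)).1 (by
    show Q₁.1 (algebraMap K K' 1) ≤ Q₁.1 (algebraMap K K' (Algebra.norm K z))
    rw [h1, map_one, map_one])
  have h3' : Q₂.1 (algebraMap K K' 1) ≤ Q₂.1 (algebraMap K K' (Algebra.norm K z)) := h3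
  rw [map_one, map_one] at h3'
  exact absurd h3' (not_le.2 h2)

end Groth.Agent.Helper16.FF
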