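import Mathlib
import Groth.Agent.Lib.Helper16.FF.Gap

set_option autoImplicit false

namespace Groth.Agent.Helper16.FF

open FunFld IntermediateField Polynomial
open scoped WithZero Classical

variable {k K : Type*} [Field k] [Field K] [Algebra k K]

/-- number of gaps in `[1, N]` -/
noncomputable def gapCount (P : Place k K) (N : ℕ) : ℕ := ((Finset.Icc 1 N).filter (IsGap P)).card

theorem gapCount_mono (P : Place k K) {N N' : ℕ} (h : N ≤ N') : gapCount P N ≤ gapCount P N' := by
  classical
  unfold gapCount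
  apply Finset.card_le_card
  intro m hm
  rw [Finset.mem_filter, Finset.mem_Icc] at hm ⊢
  exact ⟨⟨hm.1.1, hm.1.2.trans h⟩, hm.2⟩

theorem gapCount_succ (P : Place k K) (N : ℕ) :
    gapCount P (N + 1) = gapCount P N + (if IsGap P (N + 1) then 1 else 0) := by
  classical
  unfold gapCount
  have : Finset.Icc 1 (N + 1) = insert (N + 1) (Finset.Icc 1 N) := by
    ext m; simp only [Finset.mem_Icc, Finset.mem_insert]; omega
  rw [this, Finset.filter_insert]
  split_ifs with h
  · rw [Finset.card_insert_of_notMem]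
    intro hmem
    rw [Finset.mem_filter, Finset.mem_Icc] at hmem
    omega
  · rfl

theorem ell_single_succ (hK : IsFunctionField k K) {P : Place k K} (hP : P.deg = 1) (m : ℕ) :
    ell (Finsupp.single P ((m + 1 : ℕ) : ℤ) : Divisor k K) + (if IsGap P (m + 1) then 1 else 0) =
      ell (Finsupp.single P (m : ℤ) : Divisor k K) + 1 := by
  classical
  set D₁ : Divisor k K := Finsupp.single P (m : ℤ) with hD₁
  set D₂ : Divisor k K := Finsupp.single P ((m + 1 : ℕ) : ℤ) with hD₂
  have hle : D₁ ≤ D₂ := by
    intro Q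
    rw [hD₁, hD₂, Finsupp.single_apply, Finsupp.single_apply]
    split_ifs <;> push_cast <;> omega
  have hd1 : D₁.deg = m := by rw [hD₁, Divisor.deg_single, hP]; simp
  have hd2 : D₂.deg = m + 1 := by rw [hD₂, Divisor.deg_single, hP]; push_cast; ring
  have h1 := ell_sub_le hK hle
  rw [hd1, hd2] at h1
  have h2 := ell_mono hK hle
  have hgap : IsGap P (m + 1) ↔ L D₂ = L D₁ := by
    unfold IsGap
    rw [hD₁, hD₂]
    have : ((m + 1 : ℕ) : ℤ) - 1 = (m : ℤ) := by push_cast; ring
    rw [this]
  split_ifs with h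
  · have : ell D₂ = ell D₁ := by unfold ell; rw [hgap.1 h]
    omega
  · have hlt : L D₁ < L D₂ := lt_of_le_of_ne (L_mono hle) fun e => h (hgap.2 e.symm)
    have := finiteDimensional_L hK D₂
    have h3 := Submodule.finrank_lt_finrank_of_lt hlt
    have h3' : ell D₁ < ell D₂ := h3
    omega

theorem gapCount_add_ell (hK : IsFunctionField k K) {P : Place k K} (hP : P.deg = 1) (N : ℕ) :
    gapCount P N + ell (Finsupp.single P (N : ℤ) : Divisor k K) = N + 1 := by
  induction N with
  | zero =>
    have : gapCount P 0 = 0 := by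
      classical
      unfold gapCount; simp
    rw [this]
    have e : (Finsupp.single P ((0 : ℕ) : ℤ) : Divisor k K) = 0 := by simp
    rw [e, ell_zero hK]
  | succ N ih =>
    have h1 := ell_single_succ hK hP N
    rw [gapCount_succ]
    split_ifs with h
    · rw [if_pos h] at h1; omega
    · rw [if_neg h] at h1; omega

theorem gapCount_large (hK : IsFunctionField k K) {P : Place k K} (hP : P.deg = 1)
    (hg : 1 ≤ genus k K) : gapCount P (2 * genus k K - 1) = genus k K := by
  have h1 := gapCount_add_ell hK hP (2 * genus k K - 1)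
  have hdeg : Divisor.deg (Finsupp.single P ((2 * genus k K - 1 : ℕ) : ℤ) : Divisor k K) =
      2 * (genus k K : ℤ) - 1 := by
    rw [Divisor.deg_single, hP]; push_cast
    rw [Nat.cast_sub (by omega)]; push_cast; ring
  have h2 := ell_eq_of_large hK (D := Finsupp.single P ((2 * genus k K - 1 : ℕ) : ℤ)) (by
    rw [hdeg])
  rw [hdeg] at h2
  have h3 : ((gapCount P (2 * genus k K - 1) : ℕ) : ℤ) +
      ell (Finsupp.single P ((2 * genus k K - 1 : ℕ) : ℤ) : Divisor k K) =
      ((2 * genus k K - 1 : ℕ) : ℤ) + 1 := by exact_mod_cast h1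
  rw [h2, Nat.cast_sub (by omega)] at h3
  push_cast at h3
  omega

theorem ncard_gaps_le (P : Place k K) (N : ℕ) :
    Set.ncard {m : ℕ | 1 ≤ m ∧ m ≤ N ∧ IsGap P m} = gapCount P N := by
  have hset : {m : ℕ | 1 ≤ m ∧ m ≤ N ∧ IsGap P m} = ↑((Finset.Icc 1 N).filter (IsGap P)) := by
    ext m
    simp only [Set.mem_ofPred_eq, Finset.coe_filter, Finset.mem_Icc]
    tauto
  rw [hset, Set.ncard_coe_finset]; rfl

/-- the `l`-th gap is at most `2l - 1` -/
theorem le_gapCount (hK : IsFunctionField k K) {P : Place k K} (hP : P.deg = 1) (l : ℕ)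
    (hl : 1 ≤ l) (hlg : l ≤ genus k K) : l ≤ gapCount P (2 * l - 1) := by
  classical
  by_contra hlt
  push Not at hlt
  -- there is a gap beyond 2l - 1
  have hex : ∃ n, 2 * l - 1 < n ∧ IsGap P n := by
    by_contra hno
    push Not at hno
    have h1 := gapCount_large hK hP (by omega)
    have h2 : gapCount P (2 * genus k K - 1) ≤ gapCount P (2 * l - 1) := by
      unfold gapCount
      apply Finset.card_le_card
      intro m hm
      rw [Finset.mem_filter, Finset.mem_Icc] at hm ⊢
      refine ⟨⟨hm.1.1, ?_⟩, hm.2⟩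
      by_contra hgt
      push Not at hgt
      exact hno m hgt hm.2
    omega
  set n := Nat.find hex with hn
  obtain ⟨hn1, hn2⟩ := Nat.find_spec hex
  have hmin := fun m => Nat.find_min hex (m := m)
  have h1 := gaps_half P n (by omega) hn2
  have h2 : Set.ncard {m : ℕ | 1 ≤ m ∧ m < n ∧ IsGap P m} ≤ gapCount P (2 * l - 1) := by
    rw [← ncard_gaps_le]
    apply Set.ncard_le_ncard
    · rintro m ⟨hm1, hm2, hm3⟩
      refine ⟨hm1, ?_, hm3⟩
      by_contra hgt
      push Not at hgt
      exact hmin m hm2 ⟨hgt, hm3⟩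
    · exact (Finset.finite_toSet ((Finset.Icc 1 (2 * l - 1)).filter (IsGap P))).subset (by
        rintro m ⟨hm1, hm2, hm3⟩
        simp only [Finset.coe_filter, Finset.mem_Icc, Set.mem_ofPred_eq]
        exact ⟨⟨hm1, hm2⟩, hm3⟩)
  omega

theorem two_mul_ell_le (hK : IsFunctionField k K) {P : Place k K} (hP : P.deg = 1) (n : ℕ)
    (hn : (n : ℤ) ≤ 2 * (genus k K : ℤ) - 2) :
    2 * ell (Finsupp.single P (n : ℤ) : Divisor k K) ≤ n + 2 := by
  have h1 := gapCount_add_ell hK hP n
  rcases Nat.eq_zero_or_pos n with h0 | hpos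
  · subst h0
    have : gapCount P 0 = 0 := by
      classical
      unfold gapCount; simp
    omega
  · have h2 := le_gapCount hK hP ((n + 1) / 2) (by omega) (by omega)
    have h3 := gapCount_mono P (show 2 * ((n + 1) / 2) - 1 ≤ n by omega)
    omega

end Groth.Agent.Helper16.FF
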