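import Mathlib
import Groth.Agent.Lib.Helper16.FF.Gap2

set_option autoImplicit false

namespace Groth.Agent.Helper16.FF

open FunFld IntermediateField Polynomial
open scoped WithZero

variable {k K : Type*} [Field k] [Field K] [Algebra k K]

/-- peeling off the leading term at a place of degree one -/
theorem exists_sub_smul_mem_L (hK : IsFunctionField k K) {P : Place k K} (hP : P.deg = 1) (n : ℤ)
    {e w : K} (he : e ∈ L (Finsupp.single P n : Divisor k K)) (hev : P.1 e = WithZero.exp n)
    (hw : w ∈ L (Finsupp.single P n : Divisor k K)) :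
    ∃ c : k, w - c • e ∈ L (Finsupp.single P (n - 1) : Divisor k K) := by
  classical
  set D₁ : Divisor k K := Finsupp.single P (n - 1) with hD₁
  set D₂ : Divisor k K := Finsupp.single P n with hD₂
  have hle : D₁ ≤ D₂ := by
    intro Q
    rw [hD₁, hD₂, Finsupp.single_apply, Finsupp.single_apply]
    split_ifs <;> omega
  have hd1 : D₁.deg = n - 1 := by rw [hD₁, Divisor.deg_single, hP]; simp
  have hd2 : D₂.deg = n := by rw [hD₂, Divisor.deg_single, hP]; simp
  have h1 := ell_sub_le hK hle
  rw [hd1, hd2] at h1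
  have heT : e ∉ L D₁ := by
    intro h
    have := h P
    rw [hD₁, Finsupp.single_eq_same, hev, WithZero.exp_le_exp] at this
    omega
  have hf2 := finiteDimensional_L hK D₂
  have hf1 := finiteDimensional_L hK D₁
  have hsup : L D₁ ⊔ Submodule.span k {e} = L D₂ := by
    have hle' : L D₁ ⊔ Submodule.span k {e} ≤ L D₂ :=
      sup_le (L_mono hle) ((Submodule.span_singleton_le_iff_mem _ _).2 he)
    apply Submodule.eq_of_le_of_finrank_le hle'
    have hlt : L D₁ < L D₁ ⊔ Submodule.span k {e} := by
      refine lt_of_le_of_ne le_sup_left fun h => heT ?_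
      rw [h]
      exact Submodule.mem_sup_right (Submodule.mem_span_singleton_self e)
    have : FiniteDimensional k ↥(L D₁ ⊔ Submodule.span k {e}) :=
      Submodule.finiteDimensional_of_le hle'
    have h3 := Submodule.finrank_lt_finrank_of_lt hlt
    have h4 : (ell D₂ : ℤ) ≤ ell D₁ + 1 := by omega
    have h5 : ell D₂ ≤ ell D₁ + 1 := by exact_mod_cast h4
    unfold ell at h5
    omega
  rw [← hsup] at hw
  obtain ⟨t, ht, u, hu, htu⟩ := Submodule.mem_sup.1 hw
  obtain ⟨c, rfl⟩ := Submodule.mem_span_singleton.1 hu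
  refine ⟨c, ?_⟩
  rw [← htu, add_sub_cancel_right]
  exact ht

theorem ell_single_of_genus_one (hK : IsFunctionField k K) (hg : genus k K = 1) {P : Place k K}
    (hP : P.deg = 1) {n : ℕ} (hn : 1 ≤ n) : ell (Finsupp.single P (n : ℤ) : Divisor k K) = n := by
  have hdeg : Divisor.deg (Finsupp.single P (n : ℤ) : Divisor k K) = n := by
    rw [Divisor.deg_single, hP]; simp
  have h1 := ell_eq_of_large hK (D := Finsupp.single P (n : ℤ)) (by rw [hdeg, hg]; push_cast; omega)
  rw [hdeg, hg] at h1
  have : (ell (Finsupp.single P (n : ℤ) : Divisor k K) : ℤ) = n := by rw [h1]; push_cast; ring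
  exact_mod_cast this

theorem exists_pole_order (hK : IsFunctionField k K) (hg : genus k K = 1) {P : Place k K}
    (hP : P.deg = 1) {n : ℕ} (hn : 2 ≤ n) :
    ∃ x : K, x ∈ L (Finsupp.single P (n : ℤ) : Divisor k K) ∧ P.1 x = WithZero.exp (n : ℤ) := by
  rw [← not_isGap_iff]
  intro hgap
  unfold IsGap at hgap
  have h1 := ell_single_of_genus_one hK hg hP (n := n) (by omega)
  have h2 := ell_single_of_genus_one hK hg hP (n := n - 1) (by omega)
  have e : ((n - 1 : ℕ) : ℤ) = (n : ℤ) - 1 := by rw [Nat.cast_sub (by omega)]; simp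
  rw [e] at h2
  unfold ell at h1 h2
  rw [hgap] at h1
  omega

theorem L_single_one_of_genus_pos (hK : IsFunctionField k K) (hg : 0 < genus k K) {P : Place k K}
    (hP : P.deg = 1) {w : K} (hw : w ∈ L (Finsupp.single P 1 : Divisor k K)) :
    ∃ c : k, w = algebraMap k K c := by
  have h1 := ell_single_one_of_genus_pos hK hg hP
  have hle : L (0 : Divisor k K) ≤ L (Finsupp.single P 1 : Divisor k K) :=
    L_mono (single_nonneg P (by norm_num))
  have hf := finiteDimensional_L hK (Finsupp.single P 1 : Divisor k K)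
  have heq : L (0 : Divisor k K) = L (Finsupp.single P 1 : Divisor k K) := by
    apply Submodule.eq_of_le_of_finrank_eq hle
    have := ell_zero hK
    unfold ell at this h1
    rw [this, h1]
  rw [← heq, L_zero_eq_one hK, Submodule.mem_one] at hw
  obtain ⟨c, hc⟩ := hw
  exact ⟨c, hc.symm⟩

theorem poleDiv_eq_single_of_mem_L (hK : IsFunctionField k K) {P : Place k K} {n : ℕ}
    {x : K} (hx : x ∈ L (Finsupp.single P (n : ℤ) : Divisor k K))
    (hxv : P.1 x = WithZero.exp (n : ℤ)) :
    (poleDiv x : Divisor k K) = Finsupp.single P (n : ℤ) := by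
  classical
  have hx0 : x ≠ 0 := by
    rintro rfl
    rw [map_zero] at hxv
    exact WithZero.exp_ne_zero hxv.symm
  ext Q
  rw [poleDiv_apply hK, Finsupp.single_apply]
  split_ifs with h
  · subst h
    have : P.ord x = -(n : ℤ) := by
      unfold FunFld.Place.ord
      rw [hxv, WithZero.log_exp]
    rw [this, neg_neg]
    exact max_eq_left (Int.natCast_nonneg n)
  · have h1 := hx Q
    rw [Finsupp.single_apply, if_neg h, Place.val_le_exp_iff Q hx0] at h1
    exact max_eq_right (by omega)

end Groth.Agent.Helper16.FF
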