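import Mathlib
import Groth.Agent.Lib.Helper16.FF.GenusOneA

set_option autoImplicit false

namespace Groth.Agent.Helper16.FF

open FunFld IntermediateField Polynomial
open scoped WithZero

variable {k K : Type*} [Field k] [Field K] [Algebra k K]

theorem genus_one_class (hK : IsFunctionField k K) (hg : genus k K = 1) {P₀ : Place k K}
    (hP : P₀.deg = 1) (D : Divisor k K) (hD : D.deg = 0) :
    ∃! P : Place k K, P.deg = 1 ∧
      ∃ x : K, x ≠ 0 ∧ D = Finsupp.single P 1 - Finsupp.single P₀ 1 + div k x := by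
  have hdeg : (D + Finsupp.single P₀ 1).deg = 1 := by
    rw [Divisor.deg_add, Divisor.deg_single, hP, hD]; simp
  have h1 := ell_eq_of_large hK (D := D + Finsupp.single P₀ 1) (by rw [hdeg, hg]; norm_num)
  rw [hdeg, hg] at h1
  have hpos : 0 < ell (D + Finsupp.single P₀ 1) := by
    have : (0 : ℤ) < ell (D + Finsupp.single P₀ 1) := by rw [h1]; norm_num
    exact_mod_cast this
  obtain ⟨z, hz0, hz⟩ := exists_ne_zero_mem_L hK hpos
  rw [mem_L_iff hK _ hz0] at hz
  have hnonneg : (0 : Divisor k K) ≤ D + Finsupp.single P₀ 1 + div k z := by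
    have := add_le_add_right hz (D + Finsupp.single P₀ 1)
    simpa using this
  have hdeg' : (D + Finsupp.single P₀ 1 + div k z).deg = 1 := by
    rw [deg_add_div hK, hdeg]
  obtain ⟨P, hPd, hPeq⟩ := exists_single_of_deg_eq_one hK hnonneg hdeg'
  refine ⟨P, ⟨hPd, z⁻¹, inv_ne_zero hz0, ?_⟩, ?_⟩
  · rw [div_inv hK, ← hPeq]; abel
  · rintro P' ⟨hP'd, x, hx0, hx⟩
    have hx' : D = Finsupp.single P 1 - Finsupp.single P₀ 1 + div k z⁻¹ := by
      rw [div_inv hK, ← hPeq]; abel
    have hdiv : (Finsupp.single P' 1 - Finsupp.single P 1 : Divisor k K) = div k (z⁻¹ * x⁻¹) := by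
      rw [div_mul hK (inv_ne_zero hz0) (inv_ne_zero hx0), div_inv hK x]
      have : (Finsupp.single P' 1 - Finsupp.single P₀ 1 + div k x : Divisor k K) =
          Finsupp.single P 1 - Finsupp.single P₀ 1 + div k z⁻¹ := by rw [← hx, ← hx']
      have e : (Finsupp.single P' 1 - Finsupp.single P 1 : Divisor k K) =
          (Finsupp.single P' 1 - Finsupp.single P₀ 1 + div k x) -
            (Finsupp.single P 1 - Finsupp.single P₀ 1) - div k x := by abel
      rw [e, this]; abel
    exact eq_of_single_sub_single_eq_div hK (by omega) hP'd hPd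
      (mul_ne_zero (inv_ne_zero hz0) (inv_ne_zero hx0)) hdiv

end Groth.Agent.Helper16.FF
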