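import Mathlib
import Groth.Agent.Lib.Helper16.FF.GenusOneB

set_option autoImplicit false

namespace Groth.Agent.Helper16.FF

open FunFld IntermediateField Polynomial
open scoped WithZero

variable {k K : Type*} [Field k] [Field K] [Algebra k K]

theorem mul_mem_L {D E : Divisor k K} {a b : K} (ha : a ∈ L D) (hb : b ∈ L E) :
    a * b ∈ L (D + E) := by
  intro P
  rw [map_mul, Finsupp.add_apply, WithZero.exp_add]
  exact mul_le_mul' (ha P) (hb P)

theorem mul_mem_L_single {P : Place k K} {m m' n : ℤ} {a b : K}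
    (ha : a ∈ L (Finsupp.single P m : Divisor k K)) (hb : b ∈ L (Finsupp.single P m' : Divisor k K))
    (h : m + m' = n) : a * b ∈ L (Finsupp.single P n : Divisor k K) := by
  have := mul_mem_L ha hb
  rwa [← Finsupp.single_add, h] at this

theorem finrank_adjoin_of_pole (hK : IsFunctionField k K) {P : Place k K} (hP : P.deg = 1) {n : ℕ}
    (hn : 1 ≤ n) {x : K} (hx : x ∈ L (Finsupp.single P (n : ℤ) : Divisor k K))
    (hxv : P.1 x = WithZero.exp (n : ℤ)) :
    Module.finrank (IntermediateField.adjoin k ({x} : Set K)) K = n := by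
  have hne : P.1 x ≠ 1 := by
    rw [hxv, ← WithZero.exp_zero]
    intro h
    have := WithZero.exp_injective h
    omega
  have hx0 : x ≠ 0 := by
    rintro rfl
    rw [map_zero] at hxv
    exact WithZero.exp_ne_zero hxv.symm
  have htr := Place.transcendental_of_val_ne_one hK P hx0 hne
  have h1 := deg_poleDiv hK htr
  rw [poleDiv_eq_single_of_mem_L hK hx hxv, Divisor.deg_single, hP] at h1
  have : ((Module.finrank (IntermediateField.adjoin k ({x} : Set K)) K : ℕ) : ℤ) = n := by
    rw [← h1]; simp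
  exact_mod_cast this

theorem weierstrass (hK : IsFunctionField k K) (hg : genus k K = 1) {P₀ : Place k K}
    (hP : P₀.deg = 1) :
    ∃ x y : K, x ∈ L (Finsupp.single P₀ 2 : Divisor k K) ∧ y ∈ L (Finsupp.single P₀ 3 : Divisor k K) ∧
      P₀.ord x = -2 ∧ P₀.ord y = -3 ∧
      IntermediateField.adjoin k ({x, y} : Set K) = ⊤ ∧
      ∃ f g : Polynomial k, f.natDegree ≤ 1 ∧ g.natDegree = 3 ∧
        y ^ 2 + Polynomial.aeval x f * y + Polynomial.aeval x g = 0 := by
  obtain ⟨x, hx, hxv⟩ := exists_pole_order hK hg hP (n := 2) le_rfl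
  obtain ⟨y, hy, hyv⟩ := exists_pole_order hK hg hP (n := 3) (by norm_num)
  have hx' : x ∈ L (Finsupp.single P₀ 2 : Divisor k K) := by exact_mod_cast hx
  have hy' : y ∈ L (Finsupp.single P₀ 3 : Divisor k K) := by exact_mod_cast hy
  have hxv' : P₀.1 x = WithZero.exp (2 : ℤ) := by exact_mod_cast hxv
  have hyv' : P₀.1 y = WithZero.exp (3 : ℤ) := by exact_mod_cast hyv
  refine ⟨x, y, hx', hy', ?_, ?_, ?_, ?_⟩
  · unfold FunFld.Place.ord; rw [hxv', WithZero.log_exp]
  · unfold FunFld.Place.ord; rw [hyv', WithZero.log_exp]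
  · -- generation
    have h2 := finrank_adjoin_of_pole hK hP (n := 2) (by norm_num) hx hxv
    have h3 := finrank_adjoin_of_pole hK hP (n := 3) (by norm_num) hy hyv
    have hle2 : IntermediateField.adjoin k ({x} : Set K) ≤ IntermediateField.adjoin k ({x, y} : Set K) :=
      IntermediateField.adjoin.mono k _ _ (by intro z hz; rw [Set.mem_singleton_iff] at hz; subst hz; simp)
    have hle3 : IntermediateField.adjoin k ({y} : Set K) ≤ IntermediateField.adjoin k ({x, y} : Set K) :=
      IntermediateField.adjoin.mono k _ _ (by intro z hz; rw [Set.mem_singleton_iff] at hz; subst hz; simp)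
    have d2 := IntermediateField.finrank_dvd_of_le_left (L := K) hle2
    have d3 := IntermediateField.finrank_dvd_of_le_left (L := K) hle3
    rw [h2] at d2
    rw [h3] at d3
    have d1 : Module.finrank (IntermediateField.adjoin k ({x, y} : Set K)) K ∣ 1 := by
      have := Nat.dvd_gcd d2 d3
      simpa using this
    exact IntermediateField.finrank_eq_one_iff_eq_top.1 (Nat.dvd_one.1 d1)
  · -- the relation
    have e6 : x ^ 3 ∈ L (Finsupp.single P₀ 6 : Divisor k K) := by
      have h4 : x * x ∈ L (Finsupp.single P₀ 4 : Divisor k K) :=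
        mul_mem_L_single hx' hx' (by norm_num)
      have := mul_mem_L_single h4 hx' (show (4 : ℤ) + 2 = 6 by norm_num)
      convert this using 1; ring
    have e6v : P₀.1 (x ^ 3) = WithZero.exp (6 : ℤ) := by
      rw [map_pow, hxv', ← WithZero.exp_nsmul]; norm_num
    have w6 : y ^ 2 ∈ L (Finsupp.single P₀ 6 : Divisor k K) := by
      have := mul_mem_L_single hy' hy' (show (3 : ℤ) + 3 = 6 by norm_num)
      convert this using 1; ring
    have w6v : P₀.1 (y ^ 2) = WithZero.exp (6 : ℤ) := by
      rw [map_pow, hyv', ← WithZero.exp_nsmul]; norm_num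
    obtain ⟨c₆, h5⟩ := exists_sub_smul_mem_L hK hP 6 e6 e6v w6
    rw [show (6 : ℤ) - 1 = 5 by norm_num] at h5
    have e5 : x * y ∈ L (Finsupp.single P₀ 5 : Divisor k K) :=
      mul_mem_L_single hx' hy' (by norm_num)
    have e5v : P₀.1 (x * y) = WithZero.exp (5 : ℤ) := by
      rw [map_mul, hxv', hyv', ← WithZero.exp_add]; norm_num
    obtain ⟨c₅, h4⟩ := exists_sub_smul_mem_L hK hP 5 e5 e5v h5
    rw [show (5 : ℤ) - 1 = 4 by norm_num] at h4
    have e4 : x ^ 2 ∈ L (Finsupp.single P₀ 4 : Divisor k K) := by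
      have := mul_mem_L_single hx' hx' (show (2 : ℤ) + 2 = 4 by norm_num)
      convert this using 1; ring
    have e4v : P₀.1 (x ^ 2) = WithZero.exp (4 : ℤ) := by
      rw [map_pow, hxv', ← WithZero.exp_nsmul]; norm_num
    obtain ⟨c₄, h3⟩ := exists_sub_smul_mem_L hK hP 4 e4 e4v h4
    rw [show (4 : ℤ) - 1 = 3 by norm_num] at h3
    obtain ⟨c₃, h2⟩ := exists_sub_smul_mem_L hK hP 3 hy' hyv' h3
    rw [show (3 : ℤ) - 1 = 2 by norm_num] at h2
    obtain ⟨c₂, h1⟩ := exists_sub_smul_mem_L hK hP 2 hx' hxv' h2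
    rw [show (2 : ℤ) - 1 = 1 by norm_num] at h1
    obtain ⟨c₁, hc₁⟩ := L_single_one_of_genus_pos hK (by omega) hP h1
    have hc₆ : c₆ ≠ 0 := by
      rintro rfl
      rw [zero_smul, sub_zero] at h5
      have := h5 P₀
      rw [Finsupp.single_eq_same, w6v, WithZero.exp_le_exp] at this
      omega
    refine ⟨-(C c₅ * X + C c₃), -(C c₆ * X ^ 3 + C c₄ * X ^ 2 + C c₂ * X + C c₁), ?_, ?_, ?_⟩
    · rw [natDegree_neg]; exact natDegree_linear_le
    · rw [natDegree_neg]; exact natDegree_cubic hc₆
    · simp only [map_neg, map_add, map_mul, map_pow, aeval_C, aeval_X]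
      simp only [Algebra.smul_def] at hc₁
      linear_combination hc₁

end Groth.Agent.Helper16.FF
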