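import Mathlib
import Groth.Prelude.Def_W4bk4goldsch23FF

set_option autoImplicit false

namespace Groth.Agent.Helper16.FF

open FunFld Polynomial TensorProduct

universe u v

/-- an irreducible polynomial over `k` stays irreducible over an extension in which `k` is
algebraically closed -/
theorem irreducible_map_of_algClosed_in {k : Type u} {K : Type v} [Field k] [Field K] [Algebra k K]
    (hcl : ∀ y : K, IsAlgebraic k y → y ∈ Set.range (algebraMap k K))
    {f : k[X]} (hf : Irreducible f) (hfm : f.Monic) : Irreducible (f.map (algebraMap k K)) := by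
  have hmonic : (f.map (algebraMap k K)).Monic := hfm.map _
  rw [hmonic.irreducible_iff_natDegree]
  constructor
  · intro h1
    have : f.natDegree = 0 := by
      have := congrArg natDegree h1
      rwa [natDegree_map, natDegree_one] at this
    exact hf.not_isUnit (by
      rw [hfm.natDegree_eq_zero] at this
      rw [this]; exact isUnit_one)
  · intro g h hg hh hgh
    -- g descends to k
    have hgd : g ∣ f.map (algebraMap k K) := ⟨h, hgh.symm⟩
    have hlift := integralClosure.mem_lifts_of_monic_of_dvd_map K hfm hg hgd
    have hbot : ∀ y : K, y ∈ integralClosure k K → y ∈ Set.range (algebraMap k K) := by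
      intro y hy
      exact hcl y ((isAlgebraic_iff_isIntegral).2 hy)
    have hg0 : g ∈ lifts (algebraMap k K) := by
      rw [lifts_iff_coeff_lifts] at hlift ⊢
      intro n
      obtain ⟨c, hc⟩ := hlift n
      have := hbot _ c.2
      obtain ⟨d, hd⟩ := this
      exact ⟨d, by rw [hd, ← hc]; rfl⟩
    obtain ⟨g₀, hg₀, -, hg₀m⟩ := lifts_and_natDegree_eq_and_monic hg0 hg
    have hdvd : g₀ ∣ f := by
      rw [← Polynomial.map_dvd_map' (algebraMap k K), hg₀]; exact hgd
    rcases (hf.dvd_iff.1 hdvd) with hu | hassoc
    · left
      rw [← hg₀, natDegree_map]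
      exact natDegree_eq_zero_of_isUnit hu
    · right
      have heq : g₀ = f := eq_of_monic_of_associated hg₀m hfm hassoc.symm
      have h1 : g.natDegree = (f.map (algebraMap k K)).natDegree := by
        rw [← hg₀, heq]
      have h2 := hg.natDegree_mul hh
      rw [hgh] at h2
      omega

end Groth.Agent.Helper16.FF
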