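import Mathlib
import Groth.Prelude.Def_W4bk4goldsch23FF
import Groth.Agent.Lib.Helper16.FF.GeoA

set_option autoImplicit false

namespace Groth.Agent.Helper16.FF

open FunFld Polynomial TensorProduct

universe u v

theorem isField_tensor_of_separable {k : Type u} {K : Type v} [Field k] [Field K] [Algebra k K]
    (hcl : ∀ y : K, IsAlgebraic k y → y ∈ Set.range (algebraMap k K))
    (k' : Type u) [Field k'] [Algebra k k'] [FiniteDimensional k k'] [Algebra.IsSeparable k k'] :
    IsField (k' ⊗[k] K) := by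
  let pb := Field.powerBasisOfFiniteOfSeparable k k'
  set f := minpoly k pb.gen with hf
  have hint : IsIntegral k pb.gen := Algebra.IsIntegral.isIntegral _
  have hfirr : Irreducible f := minpoly.irreducible hint
  have hfm : f.Monic := minpoly.monic hint
  have hfK := irreducible_map_of_algClosed_in hcl hfirr hfm
  have : Fact (Irreducible (f.map (algebraMap k K))) := ⟨hfK⟩
  -- k' ≃ AdjoinRoot f
  let e₁ : AdjoinRoot f ≃ₐ[k] k' := AdjoinRoot.equiv' f pb
    (by rw [← hf, AdjoinRoot.aeval_eq, AdjoinRoot.mk_self]) (minpoly.aeval k pb.gen)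
  let e₂ : k' ⊗[k] K ≃ₐ[k] AdjoinRoot f ⊗[k] K :=
    Algebra.TensorProduct.congr e₁.symm AlgEquiv.refl
  let e₃ : AdjoinRoot f ⊗[k] K ≃ₐ[k] K ⊗[k] AdjoinRoot f := Algebra.TensorProduct.comm k _ _
  let q : (K ⊗[k] k)[X] := f.map (Algebra.TensorProduct.includeRight : k →ₐ[k] K ⊗[k] k).toRingHom
  let e₄ : K ⊗[k] AdjoinRoot f ≃ₐ[K] AdjoinRoot q := AdjoinRoot.tensorAlgEquiv f q rfl
  let r : K ⊗[k] k ≃+* K := (Algebra.TensorProduct.rid k K K).toRingEquiv
  have hq : q.map (r : K ⊗[k] k →+* K) = f.map (algebraMap k K) := by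
    rw [Polynomial.map_map]
    congr 1
    ext c
    simp [r, Algebra.algebraMap_eq_smul_one]
  let e₅ : AdjoinRoot q ≃+* AdjoinRoot (f.map (algebraMap k K)) :=
    AdjoinRoot.mapRingEquiv r q _ (by rw [hq])
  let e : k' ⊗[k] K ≃+* AdjoinRoot (f.map (algebraMap k K)) :=
    e₂.toRingEquiv.trans (e₃.toRingEquiv.trans (e₄.toRingEquiv.trans e₅))
  exact e.toMulEquiv.isField (Field.toIsField _)

end Groth.Agent.Helper16.FF
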