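import Groth.Agent.Lib.Helper16.FF.SepVar

/-!
# Geometric function fields: `p`-th power independence and separating variables
-/

set_option autoImplicit false

namespace Groth.Agent.Helper16.FF

open IntermediateField FunFld TensorProduct

universe u v

variable {k : Type u} {K : Type v} [Field k] [Field K] [Algebra k K]

/-- Core computation: if `k' ⊗[k] K` is a field and the coefficients `g i` have `p`-th roots in `k'`,
then a relation `∑ g i • v i ^ p = 0` among `p`-th powers of independent elements is trivial. -/
theorem eq_zero_of_sum_smul_pow_eq_zero (p : ℕ) [hp : Fact p.Prime] [CharP K p]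
    (k' : Type*) [Field k'] [Algebra k k'] (hfield : IsField (k' ⊗[k] K))
    {ι : Type*} [Fintype ι] (v : ι → K) (hv : LinearIndependent k v) (g : ι → k) (r' : ι → k')
    (hr' : ∀ i, (r' i) ^ p = algebraMap k k' (g i)) (hsum : ∑ i, g i • (v i) ^ p = 0) :
    ∀ i, g i = 0 := by
  classical
  have hkp : CharP k p := (algebraMap k K).charP (algebraMap k K).injective p
  have hnt : Nontrivial (k' ⊗[k] K) := hfield.nontrivial
  have hchar : CharP (k' ⊗[k] K) p :=
    charP_of_injective_algebraMap (algebraMap k (k' ⊗[k] K)).injective p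
  set z : k' ⊗[k] K := ∑ i, (r' i) ⊗ₜ[k] (v i) with hz
  have hzp : z ^ p = 0 := by
    rw [hz, sum_pow_char]
    have : ∀ i : ι, ((r' i) ⊗ₜ[k] (v i)) ^ p = (1 : k') ⊗ₜ[k] (g i • (v i) ^ p) := by
      intro i
      rw [Algebra.TensorProduct.tmul_pow, hr', Algebra.algebraMap_eq_smul_one,
        TensorProduct.smul_tmul]
    rw [Finset.sum_congr rfl (fun i _ => this i), ← TensorProduct.tmul_sum, hsum,
      TensorProduct.tmul_zero]
  have hz0 : z = 0 := by
    by_contra hne
    obtain ⟨w, hw⟩ := hfield.mul_inv_cancel hne
    have : (z * w) ^ p = 0 := by rw [mul_pow, hzp, zero_mul]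
    rw [hw, one_pow] at this
    exact one_ne_zero this
  have hli : LinearIndependent k' (fun i : ι => (1 : k') ⊗ₜ[k] (v i)) :=
    Module.Flat.linearIndependent_one_tmul hv
  rw [Fintype.linearIndependent_iff] at hli
  have hz' : ∑ i, (r' i) • ((1 : k') ⊗ₜ[k] (v i)) = 0 := by
    rw [← hz0, hz]
    refine Finset.sum_congr rfl fun i _ => ?_
    rw [TensorProduct.smul_tmul', smul_eq_mul, mul_one]
  intro i
  have hri : r' i = 0 := hli r' hz' i
  have : algebraMap k k' (g i) = 0 := by rw [← hr', hri, zero_pow hp.out.ne_zero]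
  exact (map_eq_zero _).mp this

/-- In a geometric extension of characteristic `p`, `p`-th powers of linearly independent elements
stay linearly independent. -/
theorem linearIndepOn_pow_of_isGeometric (p : ℕ) [hp : Fact p.Prime] [CharP K p]
    (hg : IsGeometric k K) (s : Finset K) (hs : LinearIndepOn k _root_.id (s : Set K)) :
    LinearIndepOn k (· ^ p) (s : Set K) := by
  classical
  rw [LinearIndepOn, Fintype.linearIndependent_iff]
  intro g hsum
  -- p-th roots in the algebraic closure
  have hroot : ∀ i : ↥(s : Set K), ∃ r : AlgebraicClosure k,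
      r ^ p = algebraMap k (AlgebraicClosure k) (g i) := fun i =>
    IsAlgClosed.exists_pow_nat_eq _ hp.out.pos
  choose r hr using hroot
  let k' : IntermediateField k (AlgebraicClosure k) := adjoin k (Set.range r)
  have hfin : FiniteDimensional k k' :=
    finiteDimensional_adjoin (fun x _ => (Algebra.IsIntegral.isIntegral x))
  have hfield : IsField (k' ⊗[k] K) := hg k' hfin
  let r' : ↥(s : Set K) → k' := fun i => ⟨r i, subset_adjoin k _ ⟨i, rfl⟩⟩
  have hr' : ∀ i, (r' i) ^ p = algebraMap k k' (g i) := by
    intro i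
    apply Subtype.ext
    simpa [r'] using hr i
  exact eq_zero_of_sum_smul_pow_eq_zero p k' hfield (fun i : ↥(s : Set K) => (i : K)) hs g r' hr' hsum

/-- A geometric function field has a separating variable. -/
theorem exists_separating_of_isGeometric (hK : IsFunctionField k K) (hg : IsGeometric k K) :
    ∃ x : K, Algebra.IsSeparable (adjoin k ({x} : Set K)) K := by
  obtain ⟨⟨x₀, hx₀, hfin⟩, -⟩ := id hK
  obtain _ | ⟨p, hp, hpk⟩ := CharP.exists' k
  · have : Algebra.IsAlgebraic (adjoin k ({x₀} : Set K)) K := Algebra.IsAlgebraic.of_finite _ _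
    exact ⟨x₀, inferInstance⟩
  have : ExpChar k p := .prime hp.out
  have : CharP K p := .of_ringHom_of_ne_zero (algebraMap k K) p hp.out.ne_zero
  have h1 : Algebra.EssFiniteType k (IntermediateField.adjoin k ({x₀} : Set K)) := by
    rw [IntermediateField.essFiniteType_iff]
    exact ⟨{x₀}, by simp⟩
  have hess : Algebra.EssFiniteType k K :=
    Algebra.EssFiniteType.comp k (IntermediateField.adjoin k ({x₀} : Set K)) K
  obtain ⟨s, hs, hsep⟩ :=
    exists_isTranscendenceBasis_and_isSeparable_of_linearIndepOn_pow_of_essFiniteType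
      (k := k) (K := K) p hp.out (fun s hs => linearIndepOn_pow_of_isGeometric p hg s hs)
  obtain ⟨x, rfl⟩ := transcBasis_eq_singleton hK s hs
  rw [Finset.coe_singleton] at hsep
  exact ⟨x, hsep⟩

end Groth.Agent.Helper16.FF
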