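import Groth.Agent.Lib.Helper16.FF.GeomA

/-!
# Kähler differentials of a separably generated function field
-/

set_option autoImplicit false

namespace Groth.Agent.Helper16.FF

open IntermediateField FunFld TensorProduct KaehlerDifferential Polynomial

universe u v

theorem finrank_kaehler_ratFunc (k : Type*) [Field k] :
    Module.finrank (RatFunc k) (Ω[RatFunc k⁄k]) = 1 := by
  have hfree : Module.Free k[X] (Ω[k[X]⁄k]) :=
    Module.Free.of_equiv (KaehlerDifferential.polynomialEquiv k).symm
  rw [Module.finrank_of_isLocalizedModule_of_free (RatFunc k) (nonZeroDivisors k[X])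
    (KaehlerDifferential.map k k k[X] (RatFunc k))]
  rw [(KaehlerDifferential.polynomialEquiv k).finrank_eq, Module.finrank_self]

variable {k : Type u} {K : Type v} [Field k] [Field K] [Algebra k K]

/-- The intermediate field of elements with vanishing differential. -/
noncomputable def kerD (k : Type u) (K : Type v) [Field k] [Field K] [Algebra k K] :
    IntermediateField k K where
  carrier := {z | D k K z = 0}
  mul_mem' := by
    intro a b ha hb
    simp only [Set.mem_setOf_eq] at ha hb ⊢
    rw [Derivation.leibniz, ha, hb, smul_zero, smul_zero, add_zero]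
  one_mem' := by simp
  add_mem' := by
    intro a b ha hb
    simp only [Set.mem_setOf_eq] at ha hb ⊢
    rw [map_add, ha, hb, add_zero]
  zero_mem' := by simp
  algebraMap_mem' := by intro c; simp
  inv_mem' := by
    intro a ha
    simp only [Set.mem_setOf_eq] at ha ⊢
    rw [Derivation.leibniz_inv, ha, smul_zero]

theorem mem_kerD {z : K} : z ∈ kerD k K ↔ D k K z = 0 := Iff.rfl

theorem adjoin_pow_le_kerD (p : ℕ) [CharP K p] :
    adjoin k (Set.range fun y : K => y ^ p) ≤ kerD k K := by
  rw [adjoin_le_iff]
  rintro _ ⟨y, rfl⟩
  show D k K (y ^ p) = 0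
  rw [Derivation.leibniz_pow]
  have : (p : K) = 0 := CharP.cast_eq_zero K p
  rw [← Nat.cast_smul_eq_nsmul K, this, zero_smul]

section Separating

variable {x : K} (hx : Transcendental k x)
  (hsep : Algebra.IsSeparable (adjoin k ({x} : Set K)) K)

include hx hsep

/-- Statement packaging: with the `RatFunc k`-algebra structure on `K` given by `x`, the
Kähler differentials of `K/k` are the base change of those of `k(X)/k`. -/
theorem kaehler_of_separating_aux :
    Module.finrank K (Ω[K⁄k]) = 1 ∧ D k K x ≠ 0 := by
  let e := RatFunc.algEquivOfTranscendental x hx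
  let φ : RatFunc k →ₐ[k] K := (IntermediateField.val (adjoin k ({x} : Set K))).comp e.toAlgHom
  letI : Algebra (RatFunc k) K := φ.toRingHom.toAlgebra
  haveI : IsScalarTower k (RatFunc k) K :=
    IsScalarTower.of_algebraMap_eq (fun c => (φ.commutes c).symm)
  have hφ : ∀ f : RatFunc k, algebraMap (RatFunc k) K f = ((e f : adjoin k ({x} : Set K)) : K) :=
    fun f => rfl
  haveI : Algebra.IsSeparable (RatFunc k) K :=
    Algebra.IsSeparable.of_equiv_equiv e.symm.toRingEquiv (RingEquiv.refl K) (by
      ext y
      simp [hφ])
  haveI : Algebra.FormallyEtale (RatFunc k) K := Algebra.FormallyEtale.of_isSeparable _ _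
  have hrank : Module.finrank K (Ω[K⁄k]) = 1 := by
    rw [← (tensorKaehlerEquivOfFormallyEtale k (RatFunc k) K).finrank_eq,
      Module.finrank_baseChange, finrank_kaehler_ratFunc]
  refine ⟨hrank, ?_⟩
  intro hDx
  -- then `D` vanishes on `k(x)`
  have hle : adjoin k ({x} : Set K) ≤ kerD k K := by
    rw [adjoin_le_iff]
    rintro _ rfl
    exact hDx
  have hmap : KaehlerDifferential.map k k (RatFunc k) K = 0 := by
    apply LinearMap.ext_on (KaehlerDifferential.span_range_derivation k (RatFunc k))
    rintro _ ⟨f, rfl⟩
    rw [KaehlerDifferential.map_D, LinearMap.zero_apply, hφ]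
    exact hle (e f).2
  have hT : ∀ w, tensorKaehlerEquivOfFormallyEtale k (RatFunc k) K w = 0 := by
    intro w
    rw [tensorKaehlerEquivOfFormallyEtale_apply]
    induction w using TensorProduct.induction_on with
    | zero => simp
    | tmul a b => rw [mapBaseChange_tmul, hmap, LinearMap.zero_apply, smul_zero]
    | add a b ha hb => rw [map_add, ha, hb, add_zero]
  have hnt : Nontrivial (Ω[K⁄k]) := Module.nontrivial_of_finrank_pos (R := K) (by omega)
  obtain ⟨ω, hω⟩ := exists_ne (0 : Ω[K⁄k])
  apply hω
  rw [← (tensorKaehlerEquivOfFormallyEtale k (RatFunc k) K).apply_symm_apply ω]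
  exact hT _

theorem finrank_kaehler_of_separating : Module.finrank K (Ω[K⁄k]) = 1 :=
  (kaehler_of_separating_aux hx hsep).1

theorem D_ne_zero_of_separating : D k K x ≠ 0 :=
  (kaehler_of_separating_aux hx hsep).2

end Separating

end Groth.Agent.Helper16.FF

namespace Groth.Agent.Helper16.FF

open IntermediateField FunFld KaehlerDifferential

universe u v

variable {k : Type u} {K : Type v} [Field k] [Field K] [Algebra k K]

theorem transcendental_of_separating (hK : IsFunctionField k K) {x : K}
    (hsep : Algebra.IsSeparable (adjoin k ({x} : Set K)) K) : Transcendental k x := by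
  obtain ⟨⟨x₀, hx₀, -⟩, -⟩ := id hK
  intro h
  have h1 : Algebra.IsAlgebraic k (adjoin k ({x} : Set K)) :=
    IntermediateField.isAlgebraic_adjoin_simple h.isIntegral
  have h2 : Algebra.IsAlgebraic (adjoin k ({x} : Set K)) K := inferInstance
  have h3 : Algebra.IsAlgebraic k K := Algebra.IsAlgebraic.trans k (adjoin k ({x} : Set K)) K
  exact hx₀ (h3.isAlgebraic x₀)

theorem finrank_kaehler_of_isGeometric (hK : IsFunctionField k K) (hg : IsGeometric k K) :
    Module.finrank K (Ω[K⁄k]) = 1 := by
  obtain ⟨x, hsep⟩ := exists_separating_of_isGeometric hK hg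
  exact finrank_kaehler_of_separating (transcendental_of_separating hK hsep) hsep

end Groth.Agent.Helper16.FF
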