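import Groth.Agent.Lib.Helper16.FF.GeomB

/-!
# `[K : k K^p] = p` for geometric function fields
-/

set_option autoImplicit false

namespace Groth.Agent.Helper16.FF

open IntermediateField FunFld KaehlerDifferential Polynomial

universe u v

variable {k : Type u} {K : Type v} [Field k] [Field K] [Algebra k K]

/-- `k K^p`. -/
noncomputable abbrev kKp (k : Type u) (K : Type v) [Field k] [Field K] [Algebra k K] (p : ℕ) :
    IntermediateField k K := adjoin k (Set.range fun y : K => y ^ p)

theorem pow_mem_kKp (p : ℕ) (y : K) : y ^ p ∈ kKp k K p := subset_adjoin k _ ⟨y, rfl⟩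

/-- If `t` is a separating variable then `K = (k K^p)(t)`. -/
theorem kKp_adjoin_separating_eq_top (p : ℕ) [hp : Fact p.Prime] [CharP K p] {t : K}
    (hsep : Algebra.IsSeparable (adjoin k ({t} : Set K)) K) :
    adjoin (kKp k K p) ({t} : Set K) = ⊤ := by
  have hcp : CharP (adjoin k ({t} : Set K)) p :=
    (algebraMap (adjoin k ({t} : Set K)) K).charP (algebraMap (adjoin k ({t} : Set K)) K).injective p
  have hexp : ExpChar (adjoin k ({t} : Set K)) p := .prime hp.out
  have h0 := adjoin_eq_adjoin_pow_expChar_of_isSeparable' (adjoin k ({t} : Set K)) K Set.univ p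
  rw [adjoin_univ, Set.image_univ] at h0
  have h1 := adjoin_adjoin_left k ({t} : Set K) (Set.range fun y : K => y ^ p)
  rw [← h0, restrictScalars_top] at h1
  have h2 := adjoin_adjoin_left k (Set.range fun y : K => y ^ p) ({t} : Set K)
  rw [Set.union_comm, ← h1] at h2
  apply restrictScalars_injective k
  rw [h2, restrictScalars_top]

theorem not_mem_kKp_of_separating (p : ℕ) [CharP K p] {t : K} (ht : Transcendental k t)
    (hsep : Algebra.IsSeparable (adjoin k ({t} : Set K)) K) : t ∉ kKp k K p := fun h =>
  D_ne_zero_of_separating ht hsep (adjoin_pow_le_kerD p h)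

/-- If `t ∉ k K^p` then `[(k K^p)(t) : k K^p] = p`. -/
theorem finrank_kKp_adjoin (p : ℕ) [hp : Fact p.Prime] [CharP K p] {t : K}
    (ht : t ∉ kKp k K p) :
    Module.finrank (kKp k K p) (adjoin (kKp k K p) ({t} : Set K)) = p := by
  set E := kKp k K p with hE
  let a : E := ⟨t ^ p, pow_mem_kKp p t⟩
  have hirr : Irreducible (X ^ p - C a : E[X]) := by
    apply X_pow_sub_C_irreducible_of_prime hp.out
    intro b hb
    apply ht
    have hb' : (b : K) ^ p = t ^ p := by
      have := congrArg (fun z : E => (z : K)) hb
      simpa [a] using this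
    have : (b : K) = t := frobenius_inj K p hb'
    rw [← this]
    exact b.2
  have hroot : aeval t (X ^ p - C a : E[X]) = 0 := by
    simp [a]
  have hmonic : (X ^ p - C a : E[X]).Monic := monic_X_pow_sub_C a hp.out.ne_zero
  have hmin : (X ^ p - C a : E[X]) = minpoly E t :=
    minpoly.eq_of_irreducible_of_monic hirr hroot hmonic
  have hint : IsIntegral E t := ⟨_, hmonic, hroot⟩
  rw [IntermediateField.adjoin.finrank hint, ← hmin, natDegree_X_pow_sub_C]

theorem finrank_kKp (p : ℕ) [hp : Fact p.Prime] [CharP K p]
    (hK : IsFunctionField k K) (hg : IsGeometric k K) :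
    Module.finrank (kKp k K p) K = p := by
  obtain ⟨t, hsep⟩ := exists_separating_of_isGeometric hK hg
  have ht := transcendental_of_separating hK hsep
  have h1 := finrank_kKp_adjoin p (not_mem_kKp_of_separating p ht hsep)
  rw [kKp_adjoin_separating_eq_top p hsep, IntermediateField.finrank_top'] at h1
  exact h1

end Groth.Agent.Helper16.FF
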