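import Groth.Agent.Lib.Helper16.FF.GeomC

/-!
# Separating variables are exactly the elements outside `k K^p`
-/

set_option autoImplicit false

namespace Groth.Agent.Helper16.FF

open IntermediateField FunFld KaehlerDifferential Polynomial

universe u v

section Converse

variable {F K : Type*} [Field F] [Field K] [Algebra F K]

/-- The intermediate field of elements whose `p^n`-th power lies in `F`. -/
noncomputable def powMemField (F K : Type*) [Field F] [Field K] [Algebra F K] (p : ℕ) [ExpChar K p]
    (n : ℕ) : IntermediateField F K :=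
  ((algebraMap F K).fieldRange.comap (iterateFrobenius K p n)).toIntermediateField (fun c => by
    rw [Subfield.mem_comap, iterateFrobenius_def, ← map_pow]
    exact ⟨c ^ p ^ n, rfl⟩)

theorem mem_powMemField (p : ℕ) [ExpChar K p] (n : ℕ) (a : K) :
    a ∈ powMemField F K p n ↔ a ^ p ^ n ∈ (algebraMap F K).range := by
  show a ∈ ((algebraMap F K).fieldRange.comap (iterateFrobenius K p n)) ↔ _
  rw [Subfield.mem_comap, iterateFrobenius_def]
  rfl

/-- Converse of `adjoin_eq_adjoin_pow_expChar_of_isSeparable` in the purely inseparable case: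
if `K/F` is finite purely inseparable and `K = F(K^p)` then `K = F`. -/
theorem surjective_of_purelyInseparable_of_adjoin_pow_eq_top (p : ℕ) [ExpChar F p]
    [IsPurelyInseparable F K] [FiniteDimensional F K]
    (h : adjoin F (Set.range fun y : K => y ^ p) = ⊤) :
    Function.Surjective (algebraMap F K) := by
  have hK : ExpChar K p := expChar_of_injective_algebraMap (algebraMap F K).injective p
  have key : ∀ n, (∀ a : K, a ^ p ^ (n + 1) ∈ (algebraMap F K).range) →
      ∀ a : K, a ^ p ^ n ∈ (algebraMap F K).range := by
    intro n hn a
    rw [← mem_powMemField]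
    have hle : adjoin F (Set.range fun y : K => y ^ p) ≤ powMemField F K p n := by
      rw [adjoin_le_iff]
      rintro _ ⟨y, rfl⟩
      show y ^ p ∈ powMemField F K p n
      rw [mem_powMemField, ← pow_mul, ← pow_succ']
      exact hn y
    rw [h] at hle
    exact hle mem_top
  have hall : ∀ n, (∀ a : K, a ^ p ^ n ∈ (algebraMap F K).range) →
      ∀ a : K, a ∈ (algebraMap F K).range := by
    intro n
    induction n with
    | zero => intro h0 a; simpa using h0 a
    | succ n ih => intro hn; exact ih (key n hn)
  intro a
  exact hall _ (fun a => IsPurelyInseparable.exponent_def' F p a) a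

end Converse

variable {k : Type u} {K : Type v} [Field k] [Field K] [Algebra k K]

/-- If `x ∉ k K^p` then `K = (k K^p)(x)`. -/
theorem kKp_adjoin_eq_top_of_not_mem (p : ℕ) [hp : Fact p.Prime] [CharP K p]
    (hK : IsFunctionField k K) (hg : IsGeometric k K) {x : K} (hx : x ∉ kKp k K p) :
    adjoin (kKp k K p) ({x} : Set K) = ⊤ := by
  have h1 := finrank_kKp_adjoin p hx
  have h2 := finrank_kKp p hK hg
  have hfin : FiniteDimensional (kKp k K p) K :=
    Module.finite_of_finrank_pos (by rw [h2]; exact hp.out.pos)
  apply IntermediateField.eq_of_le_of_finrank_eq le_top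
  rw [h1, IntermediateField.finrank_top', h2]

/-- The hard direction: elements outside `k K^p` are separating variables. -/
theorem separating_of_not_mem_kKp (p : ℕ) [hp : Fact p.Prime] [CharP K p]
    (hK : IsFunctionField k K) (hg : IsGeometric k K) {x : K} (hx : x ∉ kKp k K p) :
    Algebra.IsSeparable (adjoin k ({x} : Set K)) K := by
  have hxt : Transcendental k x := by
    apply transcendental_of_not_mem_range hK
    rintro ⟨c, rfl⟩
    exact hx (IntermediateField.algebraMap_mem _ c)
  set F := adjoin k ({x} : Set K) with hF
  have hfin : FiniteDimensional F K := finite_of_transcendental hK hxt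
  have hcpF : CharP F p := (algebraMap F K).charP (algebraMap F K).injective p
  have hexpF : ExpChar F p := .prime hp.out
  set Fs := separableClosure F K with hFs
  have hexpFs : ExpChar Fs p := expChar_of_injective_algebraMap (algebraMap F Fs).injective p
  have hpi : IsPurelyInseparable Fs K := separableClosure.isPurelyInseparable F K
  have hfin2 : FiniteDimensional Fs K := IntermediateField.finiteDimensional_right Fs
  -- `Fs (K^p) = K`
  have htop : adjoin Fs (Set.range fun y : K => y ^ p) = ⊤ := by
    rw [eq_top_iff]
    intro z _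
    -- the big field viewed over `k`
    let M' : IntermediateField k K :=
      ((adjoin Fs (Set.range fun y : K => y ^ p)).restrictScalars F).restrictScalars k
    have hz : z ∈ (adjoin (kKp k K p) ({x} : Set K)).restrictScalars k := by
      rw [kKp_adjoin_eq_top_of_not_mem p hK hg hx]; exact mem_top
    rw [adjoin_adjoin_left] at hz
    have hle : adjoin k ((Set.range fun y : K => y ^ p) ∪ {x}) ≤ M' := by
      rw [adjoin_le_iff]
      rintro w (hw | hw)
      · exact subset_adjoin Fs _ hw
      · rw [Set.mem_singleton_iff] at hw
        subst hw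
        have hxF : w ∈ F := mem_adjoin_simple_self k w
        have : (algebraMap Fs K) (algebraMap F Fs ⟨w, hxF⟩) ∈
            adjoin Fs (Set.range fun y : K => y ^ p) := IntermediateField.algebraMap_mem _ _
        exact this
    exact hle hz
  have hsurj := surjective_of_purelyInseparable_of_adjoin_pow_eq_top (F := Fs) (K := K) p htop
  rw [← separableClosure.eq_top_iff, eq_top_iff]
  intro z _
  obtain ⟨w, rfl⟩ := hsurj z
  exact w.2

/-- `x ∈ k K^p ↔ dx = 0`, and `x ∈ k K^p ↔ x` is not separating. -/
theorem mem_kKp_iff (p : ℕ) [hp : Fact p.Prime] [CharP K p]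
    (hK : IsFunctionField k K) (hg : IsGeometric k K) (x : K) :
    (x ∈ kKp k K p ↔ D k K x = 0) ∧
    (x ∈ kKp k K p ↔ ¬ Algebra.IsSeparable (adjoin k ({x} : Set K)) K) := by
  have h1 : x ∈ kKp k K p → D k K x = 0 := fun h => adjoin_pow_le_kerD p h
  have h2 : x ∉ kKp k K p → Algebra.IsSeparable (adjoin k ({x} : Set K)) K :=
    separating_of_not_mem_kKp p hK hg
  have h3 : Algebra.IsSeparable (adjoin k ({x} : Set K)) K → D k K x ≠ 0 := fun hsep =>
    D_ne_zero_of_separating (transcendental_of_separating hK hsep) hsep
  refine ⟨⟨h1, fun h => ?_⟩, ⟨fun h hsep => h3 hsep (h1 h), fun h => ?_⟩⟩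
  · by_contra hx
    exact h3 (h2 hx) h
  · by_contra hx
    exact h (h2 hx)

/-- `k K^p` is the unique intermediate field over which `K` is purely inseparable of degree `p`. -/
theorem purelyInseparable_degree_iff (p : ℕ) [hp : Fact p.Prime] [CharP K p]
    (hK : IsFunctionField k K) (hg : IsGeometric k K) (K₀ : IntermediateField k K) :
    (IsPurelyInseparable K₀ K ∧ Module.finrank K₀ K = p) ↔ K₀ = kKp k K p := by
  constructor
  · rintro ⟨hpi, hdeg⟩
    have hcp : CharP K₀ p := (algebraMap K₀ K).charP (algebraMap K₀ K).injective p
    have hexp : ExpChar K₀ p := .prime hp.out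
    have hfin : FiniteDimensional K₀ K :=
      Module.finite_of_finrank_pos (by rw [hdeg]; exact hp.out.pos)
    have hle : kKp k K p ≤ K₀ := by
      rw [adjoin_le_iff]
      rintro _ ⟨y, rfl⟩
      show y ^ p ∈ K₀
      have hd := IsPurelyInseparable.minpoly_natDegree_eq' K₀ p y
      have hle := minpoly.natDegree_le (A := K₀) y
      rw [hd, hdeg] at hle
      have he : IsPurelyInseparable.elemExponent K₀ y ≤ 1 := by
        by_contra hcon
        push Not at hcon
        have : p ^ 2 ≤ p ^ IsPurelyInseparable.elemExponent K₀ y :=
          Nat.pow_le_pow_right hp.out.pos hcon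
        have hp2 : p < p ^ 2 := by
          have := hp.out.one_lt
          nlinarith
        omega
      have hmem := IsPurelyInseparable.elemExponent_def' K₀ p y
      obtain ⟨c, hc⟩ := hmem
      interval_cases h : IsPurelyInseparable.elemExponent K₀ y
      · rw [pow_zero, pow_one] at hc
        rw [← hc]
        exact pow_mem c.2 p
      · rw [pow_one] at hc
        rw [← hc]
        exact c.2
    have hfin' : FiniteDimensional (kKp k K p) K :=
      Module.finite_of_finrank_pos (by rw [finrank_kKp p hK hg]; exact hp.out.pos)
    exact (IntermediateField.eq_of_le_of_finrank_eq' hle (by rw [finrank_kKp p hK hg, hdeg])).symm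
  · rintro rfl
    refine ⟨?_, finrank_kKp p hK hg⟩
    have hcp : CharP (kKp k K p) p :=
      (algebraMap (kKp k K p) K).charP (algebraMap (kKp k K p) K).injective p
    have hexp : ExpChar (kKp k K p) p := .prime hp.out
    rw [isPurelyInseparable_iff_pow_mem (kKp k K p) p]
    intro y
    exact ⟨1, ⟨⟨y ^ p, pow_mem_kKp p y⟩, by simp⟩⟩

end Groth.Agent.Helper16.FF
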