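import Groth.Agent.Lib.Helper16.FF.GeomD
import Groth.Agent.Lib.Helper16.FFW.Ext1

/-!
# Constant field extensions of geometric function fields
-/

set_option autoImplicit false

namespace Groth.Agent.Helper16.FF

open IntermediateField FunFld TensorProduct

universe u v

section ScalarExt

variable {k k' : Type u} {K K' : Type v} [Field k] [Field k'] [Field K] [Field K']
  [Algebra k k'] [Algebra k K] [Algebra K K'] [Algebra k' K'] [Algebra k K']
  [IsScalarTower k k' K'] [IsScalarTower k K K']

/-- the `k'`-algebra isomorphism `k' ⊗ K ≃ K'` -/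
noncomputable def scalarExtEquiv
    (h : Function.Bijective (Algebra.TensorProduct.productMap
      (IsScalarTower.toAlgHom k k' K') (IsScalarTower.toAlgHom k K K'))) :
    k' ⊗[k] K ≃ₐ[k'] K' :=
  AlgEquiv.ofBijective
    (Algebra.TensorProduct.productLeftAlgHom (Algebra.ofId k' K') (IsScalarTower.toAlgHom k K K'))
    h

theorem scalarExtEquiv_tmul
    (h : Function.Bijective (Algebra.TensorProduct.productMap
      (IsScalarTower.toAlgHom k k' K') (IsScalarTower.toAlgHom k K K'))) (a : k') (b : K) :
    scalarExtEquiv h (a ⊗ₜ b) = algebraMap k' K' a * algebraMap K K' b := rfl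

theorem isGeometric_scalarExt
    (h : Function.Bijective (Algebra.TensorProduct.productMap
      (IsScalarTower.toAlgHom k k' K') (IsScalarTower.toAlgHom k K K')))
    [FiniteDimensional k k'] (hg : IsGeometric k K) : IsGeometric k' K' := by
  intro k'' _ _ hfin
  letI : Algebra k k'' := ((algebraMap k' k'').comp (algebraMap k k')).toAlgebra
  haveI : IsScalarTower k k' k'' := IsScalarTower.of_algebraMap_eq (fun _ => rfl)
  haveI : FiniteDimensional k k'' := Module.Finite.trans k' k''
  have hf : IsField (k'' ⊗[k] K) := hg k'' inferInstance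
  let e1 : k'' ⊗[k'] K' ≃ₐ[k'] k'' ⊗[k'] (k' ⊗[k] K) :=
    Algebra.TensorProduct.congr (AlgEquiv.refl : k'' ≃ₐ[k'] k'') (scalarExtEquiv h).symm
  let e2 : k'' ⊗[k'] (k' ⊗[k] K) ≃ₐ[k'] k'' ⊗[k] K :=
    Algebra.TensorProduct.cancelBaseChange k k' k' k'' K
  exact MulEquiv.isField hf (e1.trans e2).toMulEquiv

theorem transcendental_scalarExt [FiniteDimensional k k'] {x : K} (hx : Transcendental k x) :
    Transcendental k' (algebraMap K K' x) := by
  intro halg
  have h1 : IsAlgebraic k (algebraMap K K' x) := halg.restrictScalars k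
  exact hx ((isAlgebraic_algebraMap_iff (algebraMap K K').injective).1 h1)

theorem finite_scalarExt
    (h : Function.Bijective (Algebra.TensorProduct.productMap
      (IsScalarTower.toAlgHom k k' K') (IsScalarTower.toAlgHom k K K')))
    [FiniteDimensional k k'] : FiniteDimensional K K' := by
  let f : K ⊗[k] k' →ₐ[K] K' :=
    Algebra.TensorProduct.productLeftAlgHom (Algebra.ofId K K') (IsScalarTower.toAlgHom k k' K')
  have hsurj : Function.Surjective f := by
    intro z
    obtain ⟨t, rfl⟩ := h.2 z
    induction t using TensorProduct.induction_on with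
    | zero => exact ⟨0, by simp⟩
    | tmul a b =>
      refine ⟨b ⊗ₜ a, ?_⟩
      show algebraMap K K' b * algebraMap k' K' a = algebraMap k' K' a * algebraMap K K' b
      exact mul_comm _ _
    | add t₁ t₂ h₁ h₂ =>
      obtain ⟨s₁, hs₁⟩ := h₁
      obtain ⟨s₂, hs₂⟩ := h₂
      exact ⟨s₁ + s₂, by rw [map_add, hs₁, hs₂, map_add]⟩
  exact Module.Finite.of_surjective f.toLinearMap hsurj

theorem finite_adjoin_scalarExt
    (h : Function.Bijective (Algebra.TensorProduct.productMap
      (IsScalarTower.toAlgHom k k' K') (IsScalarTower.toAlgHom k K K')))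
    [FiniteDimensional k k'] (hK : IsFunctionField k K) {x : K} (hx : Transcendental k x) :
    FiniteDimensional (adjoin k' ({algebraMap K K' x} : Set K')) K' := by
  haveI := finite_scalarExt (k := k) (k' := k') (K := K) (K' := K') h
  have hKw' : FFW.IsWeakFF k K' := FFW.isWeakFF_of_finite (K := K) hK.1
  set x' := algebraMap K K' x with hx'
  have hx'k : Transcendental k x' :=
    (transcendental_algebraMap_iff (algebraMap K K').injective).2 hx
  have hfin0 : FiniteDimensional (adjoin k ({x'} : Set K')) K' :=
    FFW.finite_of_transcendental hKw' hx'k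
  have hle : adjoin k ({x'} : Set K') ≤ (adjoin k' ({x'} : Set K')).restrictScalars k := by
    rw [adjoin_le_iff]
    rintro _ rfl
    exact mem_adjoin_simple_self k' x'
  letI : Algebra (adjoin k ({x'} : Set K')) ((adjoin k' ({x'} : Set K')).restrictScalars k) :=
    (IntermediateField.inclusion hle).toRingHom.toAlgebra
  haveI : IsScalarTower (adjoin k ({x'} : Set K')) ((adjoin k' ({x'} : Set K')).restrictScalars k) K' :=
    IsScalarTower.of_algebraMap_eq (fun _ => rfl)
  have : Module.Finite ((adjoin k' ({x'} : Set K')).restrictScalars k) K' :=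
    Module.Finite.of_restrictScalars_finite (adjoin k ({x'} : Set K')) _ K'
  exact this

/-- In a geometric extension the base field is algebraically closed. -/
theorem mem_range_of_isAlgebraic_of_isGeometric {k₁ : Type u} {K₁ : Type v} [Field k₁] [Field K₁]
    [Algebra k₁ K₁] (hg : IsGeometric k₁ K₁) {z : K₁} (halg : IsAlgebraic k₁ z) :
    z ∈ Set.range (algebraMap k₁ K₁) := by
  classical
  by_contra hz
  have hint : IsIntegral k₁ z := halg.isIntegral
  set f := minpoly k₁ z with hf
  haveI : Fact (Irreducible f) := ⟨minpoly.irreducible hint⟩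
  have hfin : FiniteDimensional k₁ (AdjoinRoot f) :=
    (AdjoinRoot.powerBasis (minpoly.ne_zero hint)).finite
  have hfield : IsField (AdjoinRoot f ⊗[k₁] K₁) := hg (AdjoinRoot f) hfin
  let ι : AdjoinRoot f →ₐ[k₁] K₁ :=
    AdjoinRoot.liftAlgHom f (Algebra.ofId k₁ K₁) z (by
      rw [hf]
      have := minpoly.aeval k₁ z
      rwa [Polynomial.aeval_def] at this)
  have hιroot : ι (AdjoinRoot.root f) = z := by simp [ι]
  let μ : AdjoinRoot f ⊗[k₁] K₁ →ₐ[k₁] K₁ := Algebra.TensorProduct.productMap ι (AlgHom.id k₁ K₁)
  have hμ : Function.Injective μ := by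
    rw [injective_iff_map_eq_zero]
    intro t ht
    by_contra hne
    obtain ⟨t', ht'⟩ := hfield.mul_inv_cancel hne
    have := congrArg μ ht'
    rw [map_mul, ht, zero_mul, map_one] at this
    exact zero_ne_one this
  have hw : (AdjoinRoot.root f) ⊗ₜ[k₁] (1 : K₁) = (1 : AdjoinRoot f) ⊗ₜ[k₁] z := by
    apply hμ
    simp [μ, hιroot]
  have hdeg : 2 ≤ f.natDegree := (minpoly.two_le_natDegree_iff hint).2 hz
  have hli2 : LinearIndependent k₁ ![(1 : K₁), z] := by
    have h0 := (linearIndependent_pow (K := k₁) z).comp (Fin.castLE hdeg) (Fin.castLE_injective _)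
    convert h0 using 1
    ext i
    fin_cases i <;> simp
  have hli1 : LinearIndependent k₁ ![(1 : AdjoinRoot f), AdjoinRoot.root f] := by
    apply LinearIndependent.of_comp ι.toLinearMap
    have hcomp : (ι.toLinearMap ∘ ![(1 : AdjoinRoot f), AdjoinRoot.root f]) = ![(1 : K₁), z] := by
      ext i
      fin_cases i <;> simp [hιroot]
    rw [hcomp]
    exact hli2
  have hli := hli1.tmul_of_isDomain hli2
  have hne := hli.injective.ne (show ((1 : Fin 2), (0 : Fin 2)) ≠ (0, 1) by decide)
  apply hne
  simpa using hw

theorem isFunctionField_and_isGeometric_scalarExt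
    (h : Function.Bijective (Algebra.TensorProduct.productMap
      (IsScalarTower.toAlgHom k k' K') (IsScalarTower.toAlgHom k K K')))
    [FiniteDimensional k k'] (hK : IsFunctionField k K) (hg : IsGeometric k K) :
    IsFunctionField k' K' ∧ IsGeometric k' K' := by
  have hg' := isGeometric_scalarExt h hg
  obtain ⟨⟨x, hx, -⟩, -⟩ := id hK
  refine ⟨⟨⟨algebraMap K K' x, transcendental_scalarExt hx, finite_adjoin_scalarExt h hK hx⟩, ?_⟩, hg'⟩
  intro z hz
  exact mem_range_of_isAlgebraic_of_isGeometric hg' hz

end ScalarExt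

end Groth.Agent.Helper16.FF
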