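import Groth.Agent.Lib.Helper16.FF.GeomE

/-!
# Intermediate fields of geometric function fields
-/

set_option autoImplicit false

namespace Groth.Agent.Helper16.FF

open IntermediateField FunFld TensorProduct

universe u v

variable {k : Type u} {K : Type v} [Field k] [Field K] [Algebra k K]

theorem isGeometric_intermediateField (hg : IsGeometric k K) (K₀ : IntermediateField k K) :
    IsGeometric k K₀ := by
  intro k' _ _ hfin
  have hT : IsField (k' ⊗[k] K) := hg k' hfin
  haveI : IsDomain (k' ⊗[k] K) := hT.isDomain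
  let j₁ : k' ⊗[k] K₀ →ₐ[k] k' ⊗[k] K := Algebra.TensorProduct.map (AlgHom.id k k') K₀.val
  have hj₁ : Function.Injective j₁ := by
    have := Module.Flat.lTensor_preserves_injective_linearMap (M := k') K₀.val.toLinearMap
      K₀.val.injective
    exact this
  let j : K₀ ⊗[k] k' →ₐ[k] k' ⊗[k] K := j₁.comp (Algebra.TensorProduct.comm k K₀ k').toAlgHom
  have hj : Function.Injective j := hj₁.comp (Algebra.TensorProduct.comm k K₀ k').injective
  haveI : IsDomain (K₀ ⊗[k] k') := hj.isDomain j.toRingHom
  haveI : Algebra.IsIntegral K₀ (K₀ ⊗[k] k') := Algebra.IsIntegral.of_finite _ _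
  have hS : IsField (K₀ ⊗[k] k') := by
    have h := isField_of_isIntegral_of_isField' (R := K₀) (S := K₀ ⊗[k] k') (Field.toIsField K₀)
    exact ⟨h.exists_pair_ne, h.mul_comm, h.mul_inv_cancel⟩
  exact MulEquiv.isField hS (Algebra.TensorProduct.comm k k' K₀).toMulEquiv

theorem isFunctionField_intermediateField (hK : IsFunctionField k K) (K₀ : IntermediateField k K)
    (h₀ : ∃ x ∈ K₀, Transcendental k x) : IsFunctionField k K₀ := by
  obtain ⟨x, hxK₀, hx⟩ := h₀
  set x₀ : K₀ := ⟨x, hxK₀⟩ with hx₀
  have hx₀t : Transcendental k x₀ := by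
    have : algebraMap K₀ K x₀ = x := rfl
    rw [← this] at hx
    exact (transcendental_algebraMap_iff (algebraMap K₀ K).injective).1 hx
  refine ⟨⟨x₀, hx₀t, ?_⟩, ?_⟩
  · haveI h1 : Module.Finite (adjoin k ({x} : Set K)) K := finite_of_transcendental hK hx
    have hxx : algebraMap K₀ K x₀ = x := rfl
    haveI h2 : Module.Finite (adjoin k ({x₀} : Set K₀)) K := by
      have e := FFW.adjoinEquiv (k := k) (K := K₀) (K' := K) x₀
      rw [hxx] at e
      refine Module.Finite.of_equiv_equiv (A₁ := adjoin k ({x} : Set K)) (B₁ := K)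
        (FFW.adjoinEquiv (k := k) (K := K₀) (K' := K) x₀).symm.toRingEquiv (RingEquiv.refl K) ?_
      ext a
      have := FFW.adjoinEquiv_apply (k := k) (K := K₀) (K' := K) x₀
        ((FFW.adjoinEquiv (k := k) (K := K₀) (K' := K) x₀).symm a)
      rw [AlgEquiv.apply_symm_apply] at this
      exact this.symm
    exact Module.Finite.of_injective
      (IsScalarTower.toAlgHom (adjoin k ({x₀} : Set K₀)) K₀ K).toLinearMap
      (algebraMap K₀ K).injective
  · intro z hz
    have hz' : IsAlgebraic k (algebraMap K₀ K z) :=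
      (isAlgebraic_algebraMap_iff (algebraMap K₀ K).injective).2 hz
    obtain ⟨c, hc⟩ := hK.2 _ hz'
    refine ⟨c, ?_⟩
    apply (algebraMap K₀ K).injective
    rw [← hc, ← IsScalarTower.algebraMap_apply]

end Groth.Agent.Helper16.FF
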