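import Mathlib
import Groth.Agent.Lib.Helper16.FF.GeomF

/-!
# Separably generated + algebraically closed constants ⇒ geometric (part 1: separable extensions)
-/

set_option autoImplicit false

namespace Groth.Agent.Helper16.FF

open Polynomial TensorProduct Module

variable {k K : Type*} [Field k] [Field K] [Algebra k K]

/-- an irreducible monic polynomial over `k` stays irreducible over `K` if `k` is algebraically
closed in `K` -/
theorem irreducible_map_of_algClosedIn
    (hk : ∀ y : K, IsAlgebraic k y → y ∈ Set.range (algebraMap k K))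
    {m : k[X]} (hm : Irreducible m) (hmon : m.Monic) : Irreducible (m.map (algebraMap k K)) := by
  have hmon' := hmon.map (algebraMap k K)
  rw [hmon'.irreducible_iff_natDegree]
  refine ⟨?_, ?_⟩
  · intro h1
    have h2 : (m.map (algebraMap k K)).natDegree = 0 := by rw [h1]; simp
    rw [natDegree_map] at h2
    exact hm.natDegree_pos.ne' h2
  · intro f g hf hg hfg
    have lift : ∀ {g : K[X]}, g.Monic → g ∣ m.map (algebraMap k K) →
        ∃ g₀ : k[X], g₀.map (algebraMap k K) = g ∧ g₀.natDegree = g.natDegree ∧ g₀.Monic := by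
      intro g hg hd
      have h1 := integralClosure.mem_lifts_of_monic_of_dvd_map K hmon hg hd
      have h2 : g ∈ lifts (algebraMap k K) := by
        rw [lifts_iff_coeff_lifts] at h1 ⊢
        intro n
        obtain ⟨c, hc⟩ := h1 n
        have hc' : IsAlgebraic k (c : K) := c.2.isAlgebraic
        obtain ⟨c₀, hc₀⟩ := hk _ hc'
        exact ⟨c₀, by rw [hc₀, ← hc]; rfl⟩
      exact lifts_and_natDegree_eq_and_monic h2 hg
    obtain ⟨f₀, hf₀, hf₀d, hf₀m⟩ := lift hf ⟨g, hfg.symm⟩
    obtain ⟨g₀, hg₀, hg₀d, hg₀m⟩ := lift hg ⟨f, by rw [mul_comm]; exact hfg.symm⟩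
    have hprod : f₀ * g₀ = m := by
      apply Polynomial.map_injective _ (algebraMap k K).injective
      rw [Polynomial.map_mul, hf₀, hg₀, hfg]
    rcases hm.isUnit_or_isUnit hprod.symm with h | h
    · left; rw [← hf₀d]; exact natDegree_eq_zero_of_isUnit h
    · right; rw [← hg₀d]; exact natDegree_eq_zero_of_isUnit h

/-- tensoring with a finite separable extension of the constants keeps a field, if the constants
are algebraically closed -/
theorem isField_tensor_of_separable
    (hk : ∀ y : K, IsAlgebraic k y → y ∈ Set.range (algebraMap k K))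
    (L : Type*) [Field L] [Algebra k L] [FiniteDimensional k L] [Algebra.IsSeparable k L] :
    IsField (K ⊗[k] L) := by
  let pb := Field.powerBasisOfFiniteOfSeparable k L
  set m := minpoly k pb.gen with hmdef
  have hm : Irreducible m := minpoly.irreducible (pb.isIntegral_gen)
  have hmon : m.Monic := minpoly.monic pb.isIntegral_gen
  have hirr := irreducible_map_of_algClosedIn hk hm hmon
  haveI : Fact (Irreducible (m.map (algebraMap k K))) := ⟨hirr⟩
  let E := AdjoinRoot (m.map (algebraMap k K))
  let fL : L →ₐ[k] E := pb.lift (AdjoinRoot.root _) (by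
    rw [← hmdef, ← Polynomial.aeval_map_algebraMap K, AdjoinRoot.aeval_eq, AdjoinRoot.mk_self])
  let φ : K ⊗[k] L →ₐ[K] E := Algebra.TensorProduct.lift (Algebra.ofId K E) fL
    (fun _ _ => Commute.all _ _)
  have hsurj : Function.Surjective φ := by
    rw [← AlgHom.range_eq_top, eq_top_iff, ← AdjoinRoot.adjoinRoot_eq_top, Algebra.adjoin_le_iff]
    intro z hz
    rw [Set.mem_singleton_iff] at hz
    subst hz
    exact ⟨1 ⊗ₜ pb.gen, by simp [φ, fL]⟩
  have hne : m.map (algebraMap k K) ≠ 0 := hirr.ne_zero
  have hfr : finrank K (K ⊗[k] L) = finrank K E := by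
    rw [Module.finrank_baseChange, pb.finrank, (AdjoinRoot.powerBasis hne).finrank,
      AdjoinRoot.powerBasis_dim, natDegree_map, hmdef, pb.natDegree_minpoly]
  haveI : FiniteDimensional K E := (AdjoinRoot.powerBasis hne).finite
  have hinj : Function.Injective φ :=
    (LinearMap.injective_iff_surjective_of_finrank_eq_finrank hfr).2 hsurj
  exact (AlgEquiv.ofBijective φ ⟨hinj, hsurj⟩).toMulEquiv.isField (Field.toIsField E)

end Groth.Agent.Helper16.FF
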