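import Mathlib
import Groth.Agent.Lib.Helper16.FF.GeomG

/-!
# Separably generated + algebraically closed constants ⇒ geometric
-/

set_option autoImplicit false

namespace Groth.Agent.Helper16.FF

open Polynomial TensorProduct Module

section
variable {k : Type*} [Field k]

theorem isDomain_ratFunc_tensor (L : Type*) [Field L] [Algebra k L] :
    IsDomain (RatFunc k ⊗[k] L) := by
  have e : k[X] ⊗[k] L ≃ₐ[k] L[X] :=
    (Algebra.TensorProduct.comm k k[X] L).trans ((polyEquivTensor k L).symm)
  have hdom : IsDomain (k[X] ⊗[k] L) := e.toMulEquiv.isDomain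
  let alg : Algebra (k[X] ⊗[k] L) (RatFunc k ⊗[k] L) :=
    (Algebra.TensorProduct.map (IsScalarTower.toAlgHom k k[X] (RatFunc k))
      (AlgHom.id k L)).toRingHom.toAlgebra
  have : IsScalarTower k[X] (k[X] ⊗[k] L) (RatFunc k ⊗[k] L) :=
    IsScalarTower.of_algebraMap_eq (R := k[X]) (S := k[X] ⊗[k] L) (A := RatFunc k ⊗[k] L)
      (fun p => by
        rw [RingHom.algebraMap_toAlgebra]
        simp [Algebra.TensorProduct.algebraMap_apply])
  have hloc := IsLocalization.tensorProduct_tensorProduct k L (nonZeroDivisors k[X]) (RatFunc k)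
    (by ext; simp [RingHom.algebraMap_toAlgebra])
  refine IsLocalization.isDomain_of_le_nonZeroDivisors (RatFunc k ⊗[k] L)
    (M := Algebra.algebraMapSubmonoid (k[X] ⊗[k] L) (nonZeroDivisors k[X])) ?_
  rintro _ ⟨p, hp, rfl⟩
  apply mem_nonZeroDivisors_of_ne_zero
  have hp0 : p ≠ 0 := nonZeroDivisors.ne_zero hp
  rw [Algebra.TensorProduct.algebraMap_apply]
  intro h0
  apply hp0
  have hinj := Algebra.TensorProduct.includeLeft_injective (R := k) (S := k) (A := k[X]) (B := L)
    (algebraMap k L).injective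
  apply hinj
  simpa using h0

end

variable {k K : Type*} [Field k] [Field K] [Algebra k K]

theorem isReduced_tensor_of_separable (E : Type*) [Field E] [Algebra k E] [Algebra E K]
    [IsScalarTower k E K] [FiniteDimensional E K] [Algebra.IsSeparable E K]
    (L : Type*) [Field L] [Algebra k L] (hdom : IsDomain (E ⊗[k] L)) :
    IsReduced (K ⊗[k] L) := by
  have hunr : Algebra.FormallyUnramified E K := Algebra.FormallyUnramified.of_isSeparable E K
  have hred : IsReduced (FractionRing (E ⊗[k] L) ⊗[E] K) :=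
    Algebra.FormallyUnramified.isReduced_of_field (FractionRing (E ⊗[k] L)) _
  let g : K ⊗[E] (E ⊗[k] L) →ₐ[E] K ⊗[E] FractionRing (E ⊗[k] L) :=
    Algebra.TensorProduct.map (AlgHom.id E K)
      (IsScalarTower.toAlgHom E (E ⊗[k] L) (FractionRing (E ⊗[k] L)))
  have hg : Function.Injective g :=
    Module.Flat.lTensor_preserves_injective_linearMap (M := K)
      (IsScalarTower.toAlgHom E (E ⊗[k] L) (FractionRing (E ⊗[k] L))).toLinearMap
      (IsFractionRing.injective (E ⊗[k] L) (FractionRing (E ⊗[k] L)))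
  let e2 : K ⊗[E] (E ⊗[k] L) ≃ₐ[E] K ⊗[k] L := Algebra.TensorProduct.cancelBaseChange k E E K L
  let e1 : K ⊗[E] FractionRing (E ⊗[k] L) ≃ₐ[E] FractionRing (E ⊗[k] L) ⊗[E] K :=
    Algebra.TensorProduct.comm E K _
  refine isReduced_of_injective ((e1.toAlgHom.comp g).comp e2.symm.toAlgHom) ?_
  exact (e1.injective.comp hg).comp e2.symm.injective

theorem isField_tensor_of_purelyInseparable (k₁ L B : Type*) [Field k₁] [Field L] [Algebra k₁ L]
    [IsPurelyInseparable k₁ L] [CommRing B] [Algebra k₁ B] (hB : IsField B)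
    (hred : IsReduced (L ⊗[k₁] B)) : IsField (L ⊗[k₁] B) := by
  have : Nontrivial B := ⟨hB.exists_pair_ne⟩
  have hinjB : Function.Injective (Algebra.TensorProduct.includeRight : B →ₐ[k₁] L ⊗[k₁] B) :=
    Algebra.TensorProduct.includeRight_injective (algebraMap k₁ L).injective
  have : Nontrivial (L ⊗[k₁] B) := hinjB.nontrivial
  set q := ringExpChar k₁ with hq
  have : ExpChar (L ⊗[k₁] B) q :=
    expChar_of_injective_algebraMap (algebraMap k₁ (L ⊗[k₁] B)).injective q
  have key : ∀ t : L ⊗[k₁] B, ∃ (n : ℕ) (u : B), t ^ q ^ n = (1 : L) ⊗ₜ[k₁] u := by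
    intro t
    induction t using TensorProduct.induction_on with
    | zero => exact ⟨0, 0, by simp⟩
    | tmul l b =>
      obtain ⟨n, c, hc⟩ := IsPurelyInseparable.pow_mem k₁ q l
      refine ⟨n, c • b ^ q ^ n, ?_⟩
      rw [Algebra.TensorProduct.tmul_pow, ← hc, Algebra.algebraMap_eq_smul_one, smul_tmul]
    | add t₁ t₂ h₁ h₂ =>
      obtain ⟨n₁, u₁, hu₁⟩ := h₁
      obtain ⟨n₂, u₂, hu₂⟩ := h₂
      refine ⟨n₁ + n₂, u₁ ^ q ^ n₂ + u₂ ^ q ^ n₁, ?_⟩
      rw [add_pow_expChar_pow, tmul_add]
      congr 1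
      · rw [pow_add, pow_mul, hu₁, Algebra.TensorProduct.tmul_pow, one_pow]
      · rw [pow_add, mul_comm, pow_mul, hu₂, Algebra.TensorProduct.tmul_pow, one_pow]
  refine ⟨exists_pair_ne _, mul_comm, ?_⟩
  intro t ht
  obtain ⟨n, u, hu⟩ := key t
  have hu0 : u ≠ 0 := by
    rintro rfl
    rw [tmul_zero] at hu
    exact ht (IsNilpotent.eq_zero ⟨_, hu⟩)
  obtain ⟨v, hv⟩ := hB.mul_inv_cancel hu0
  have hpos : 0 < q ^ n := pow_pos (expChar_pos k₁ q) n
  refine ⟨t ^ (q ^ n - 1) * ((1 : L) ⊗ₜ[k₁] v), ?_⟩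
  rw [← mul_assoc, ← pow_succ', Nat.sub_add_cancel hpos, hu, Algebra.TensorProduct.tmul_mul_tmul,
    hv, mul_one, Algebra.TensorProduct.one_def]

theorem isField_tensor_aux
    (hk : ∀ y : K, IsAlgebraic k y → y ∈ Set.range (algebraMap k K))
    (E : Type*) [Field E] [Algebra k E] [Algebra E K]
    [IsScalarTower k E K] [FiniteDimensional E K] [Algebra.IsSeparable E K]
    (L : Type*) [Field L] [Algebra k L]
    (k₁ : Type*) [Field k₁] [Algebra k k₁] [Algebra k₁ L] [IsScalarTower k k₁ L]
    [FiniteDimensional k k₁] [Algebra.IsSeparable k k₁] [IsPurelyInseparable k₁ L]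
    (hE : IsDomain (E ⊗[k] L)) : IsField (L ⊗[k] K) := by
  have hB : IsField (k₁ ⊗[k] K) :=
    (Algebra.TensorProduct.comm k k₁ K).toMulEquiv.isField (isField_tensor_of_separable hk k₁)
  have hredKL : IsReduced (K ⊗[k] L) := isReduced_tensor_of_separable E L hE
  let e1 : L ⊗[k₁] (k₁ ⊗[k] K) ≃ₐ[k₁] L ⊗[k] K :=
    Algebra.TensorProduct.cancelBaseChange k k₁ k₁ L K
  let e2 : L ⊗[k] K ≃ₐ[k] K ⊗[k] L := Algebra.TensorProduct.comm k L K
  have hred : IsReduced (L ⊗[k₁] (k₁ ⊗[k] K)) :=
    isReduced_of_injective (e2.toAlgHom.toRingHom.comp e1.toAlgHom.toRingHom)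
      (e2.injective.comp e1.injective)
  have hF := isField_tensor_of_purelyInseparable k₁ L (k₁ ⊗[k] K) hB hred
  exact e1.symm.toMulEquiv.isField hF

/-- the abstract form of the theorem -/
theorem isField_tensor_of_separating
    (hk : ∀ y : K, IsAlgebraic k y → y ∈ Set.range (algebraMap k K))
    (E : Type*) [Field E] [Algebra k E] [Algebra E K]
    [IsScalarTower k E K] [FiniteDimensional E K] [Algebra.IsSeparable E K]
    (L : Type*) [Field L] [Algebra k L] [FiniteDimensional k L]
    (hE : IsDomain (E ⊗[k] L)) : IsField (L ⊗[k] K) :=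
  isField_tensor_aux hk E L (separableClosure k L) hE

end Groth.Agent.Helper16.FF

namespace Groth.Agent.Helper16.FF

open FunFld IntermediateField TensorProduct

universe u v

variable {k : Type u} {K : Type v} [Field k] [Field K] [Algebra k K]

/-- a function field of one variable with a separating variable is geometric -/
theorem isGeometric_of_separating (hK : IsFunctionField k K) (x : K)
    (hsep : Algebra.IsSeparable (adjoin k ({x} : Set K)) K) : IsGeometric k K := by
  intro k' _ _ hfin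
  have hxtr := transcendental_of_separating hK hsep
  have := finite_of_transcendental hK hxtr
  have hdom : IsDomain (adjoin k ({x} : Set K) ⊗[k] k') := by
    let e := RatFunc.algEquivOfTranscendental x hxtr
    have := isDomain_ratFunc_tensor (k := k) k'
    exact (Algebra.TensorProduct.congr e.symm (AlgEquiv.refl (R := k) (A₁ := k'))).toMulEquiv.isDomain
  exact isField_tensor_of_separating hK.2 (adjoin k ({x} : Set K)) k' hdom

end Groth.Agent.Helper16.FF
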