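import Mathlib
import Groth.Agent.Lib.Helper16.FF.GeomH

/-!
# Finite separable extensions of geometric function fields are geometric
-/

set_option autoImplicit false

namespace Groth.Agent.Helper16.FF

open FunFld IntermediateField TensorProduct

section
variable {k k' K K' : Type*} [Field k] [Field k'] [Field K] [Field K']
    [Algebra k k'] [Algebra k K] [Algebra K K'] [Algebra k' K'] [Algebra k K']
    [IsScalarTower k k' K'] [IsScalarTower k K K']

theorem isSeparable_adjoin_of_tower [Algebra.IsSeparable K K'] (x : K)
    (hsep : Algebra.IsSeparable (adjoin k ({x} : Set K)) K) :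
    Algebra.IsSeparable (adjoin k' ({algebraMap K K' x} : Set K')) K' := by
  set x' := algebraMap K K' x with hx'
  have hsepF : Algebra.IsSeparable (adjoin k ({x} : Set K)) K' :=
    Algebra.IsSeparable.trans (adjoin k ({x} : Set K)) K K'
  have hmem : ∀ a : adjoin k ({x} : Set K),
      ((algebraMap K K').comp (algebraMap (adjoin k ({x} : Set K)) K)) a ∈
        adjoin k' ({x'} : Set K') := by
    intro a
    have h1 : (adjoin k ({x} : Set K)).map (IsScalarTower.toAlgHom k K K') ≤
        (adjoin k' ({x'} : Set K')).restrictScalars k := by
      rw [IntermediateField.adjoin_map, Set.image_singleton, IntermediateField.adjoin_le_iff]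
      intro y hy
      rw [Set.mem_singleton_iff] at hy
      subst hy
      exact mem_adjoin_simple_self k' x'
    exact h1 ⟨a, a.2, rfl⟩
  let j : adjoin k ({x} : Set K) →+* adjoin k' ({x'} : Set K') :=
    ((algebraMap K K').comp (algebraMap (adjoin k ({x} : Set K)) K)).codRestrict _ hmem
  refine ⟨fun z => ?_⟩
  have hz : IsSeparable (adjoin k ({x} : Set K)) z := Algebra.IsSeparable.isSeparable _ z
  have hdvd : minpoly (adjoin k' ({x'} : Set K')) z ∣
      (minpoly (adjoin k ({x} : Set K)) z).map j := by
    apply minpoly.dvd
    rw [Polynomial.aeval_def, Polynomial.eval₂_map]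
    have : (algebraMap (adjoin k' ({x'} : Set K')) K').comp j =
        algebraMap (adjoin k ({x} : Set K)) K' := by
      ext a; rfl
    rw [this, ← Polynomial.aeval_def, minpoly.aeval]
  exact (Polynomial.Separable.map hz (f := j)).of_dvd hdvd

end

universe u v

theorem isGeometric_of_finite_separable (k k' : Type u) (K K' : Type v) [Field k] [Field k'] [Field K]
    [Field K'] [Algebra k k'] [Algebra k K] [Algebra K K'] [Algebra k' K'] [Algebra k K']
    [IsScalarTower k k' K'] [IsScalarTower k K K'] [Algebra.IsSeparable K K']
    (hK : IsFunctionField k K) (hg : IsGeometric k K)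
    (hK' : IsFunctionField k' K') : IsGeometric k' K' := by
  obtain ⟨x, hsep⟩ := exists_separating_of_isGeometric hK hg
  exact isGeometric_of_separating hK' (algebraMap K K' x)
    (isSeparable_adjoin_of_tower (k := k) (k' := k') x hsep)

end Groth.Agent.Helper16.FF
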