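import Mathlib
import Groth.Agent.Lib.Helper16.FF.Aut
import Groth.Prelude.Def_W4bk4goldsch45

set_option autoImplicit false

namespace Groth.Agent.Helper16.FF

open FunFld
open scoped WithZero

variable {k K : Type*} [Field k] [Field K] [Algebra k K]

theorem exists_val_eq_one_of_one_mem_span {ι : Type*} [Finite ι] (φ : ι → K) (P : Place k K)
    (heff : (1 : K) ∈ Submodule.span k (Set.range φ)) (hnorm : ∀ i, P.1 (φ i) ≤ 1) :
    ∃ j, P.1 (φ j) = 1 := by
  by_contra hno
  push Not at hno
  have hlt : ∀ i, P.1 (φ i) ≤ WithZero.exp (-1 : ℤ) := fun i =>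
    lt_one_iff_le_exp_neg_one.1 (lt_of_le_of_ne (hnorm i) (hno i))
  have hsub : Submodule.span k (Set.range φ) ≤ Vloc P (-1) := by
    rw [Submodule.span_le]
    rintro _ ⟨i, rfl⟩
    exact hlt i
  have := hsub heff
  rw [mem_Vloc, map_one, ← WithZero.exp_zero, WithZero.exp_le_exp] at this
  omega

theorem div_mem_adjoin_of_mem_span {ι : Type*} (φ : ι → K) (j : ι) {s : K}
    (hs : s ∈ Submodule.span k (Set.range φ)) :
    s / φ j ∈ Algebra.adjoin k (Set.range fun i => φ i / φ j) := by
  have : Submodule.span k (Set.range φ) ≤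
      (Subalgebra.toSubmodule (Algebra.adjoin k (Set.range fun i => φ i / φ j))).comap
        (LinearMap.mulRight k (φ j)⁻¹) := by
    rw [Submodule.span_le]
    rintro _ ⟨i, rfl⟩
    show φ i * (φ j)⁻¹ ∈ Algebra.adjoin k (Set.range fun i => φ i / φ j)
    rw [← div_eq_mul_inv]
    exact Algebra.subset_adjoin ⟨i, rfl⟩
  have h := this hs
  rw [div_eq_mul_inv]
  exact h

theorem inLocRing_of_mem_span {ι : Type*} [Finite ι] (φ : ι → K) (P : Place k K)
    (heff : (1 : K) ∈ Submodule.span k (Set.range φ)) (hnorm : ∀ i, P.1 (φ i) ≤ 1)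
    {t : K} (ht : t ∈ Submodule.span k (Set.range φ)) : InLocRing φ P t := by
  obtain ⟨j, hj⟩ := exists_val_eq_one_of_one_mem_span φ P heff hnorm
  have hj0 : φ j ≠ 0 := by
    rintro h0; rw [h0, map_zero] at hj; exact zero_ne_one hj
  refine ⟨j, hj0, fun i => by rw [hj]; exact hnorm i, t / φ j,
    div_mem_adjoin_of_mem_span φ j ht, 1 / φ j, div_mem_adjoin_of_mem_span φ j heff, ?_, ?_⟩
  · rw [map_div₀, map_one, hj, div_one]
  · rw [mul_one_div]

end Groth.Agent.Helper16.FF

namespace Groth.Agent.Helper16.FF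

open FunFld
open scoped WithZero

variable {k K : Type*} [Field k] [Field K] [Algebra k K]

theorem exists_mem_span_of_inLocRing [IsAlgClosed k] (hK : IsFunctionField k K) {ι : Type*}
    [Finite ι] (φ : ι → K) (P : Place k K)
    (heff : (1 : K) ∈ Submodule.span k (Set.range φ)) (hnorm : ∀ i, P.1 (φ i) ≤ 1)
    {t : K} (ht : InLocRing φ P t) (htv : P.1 t = WithZero.exp (-1 : ℤ)) :
    ∃ t' ∈ Submodule.span k (Set.range φ), P.1 t' = WithZero.exp (-1 : ℤ) := by
  obtain ⟨j, hj0, hjmax, u, hu, w, hw, hw1, htw⟩ := ht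
  have hj1 : P.1 (φ j) = 1 := by
    obtain ⟨j', hj'⟩ := exists_val_eq_one_of_one_mem_span φ P heff hnorm
    have := hjmax j'
    rw [hj'] at this
    exact le_antisymm (hnorm j) this
  set r : ι → K := fun i => φ i / φ j with hr
  have hr1 : ∀ i, P.1 (r i) ≤ 1 := by
    intro i
    rw [hr, map_div₀, hj1, div_one]; exact hnorm i
  have hc : ∀ i, ∃ c : k, P.1 (r i - algebraMap k K c) < 1 := fun i =>
    exists_const_sub_lt_one hK (Place.deg_eq_one hK P) (hr1 i)
  choose c hc using hc
  set M : Submodule k K := Submodule.span k (Set.range fun i => r i - algebraMap k K (c i)) with hM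
  have hMV : M ≤ Vloc P (-1) := by
    rw [hM, Submodule.span_le]
    rintro _ ⟨i, rfl⟩
    exact lt_one_iff_le_exp_neg_one.1 (hc i)
  have h21 : (WithZero.exp (-2 : ℤ) : ℤᵐ⁰) ≤ WithZero.exp (-1 : ℤ) := by
    rw [WithZero.exp_le_exp]; norm_num
  have h10 : (WithZero.exp (-1 : ℤ) : ℤᵐ⁰) ≤ 1 := by
    rw [← WithZero.exp_zero, WithZero.exp_le_exp]; norm_num
  have key : ∀ a ∈ Algebra.adjoin k (Set.range r), ∃ d : k, ∃ s ∈ M,
      P.1 (a - algebraMap k K d - s) ≤ WithZero.exp (-2 : ℤ) := by
    intro a ha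
    induction ha using Algebra.adjoin_induction with
    | mem x hx =>
      obtain ⟨i, rfl⟩ := hx
      refine ⟨c i, r i - algebraMap k K (c i), Submodule.subset_span ⟨i, rfl⟩, ?_⟩
      rw [sub_self, map_zero]; exact zero_le
    | algebraMap d =>
      refine ⟨d, 0, Submodule.zero_mem _, ?_⟩
      rw [sub_self, sub_zero, map_zero]; exact zero_le
    | add x y _ _ hx hy =>
      obtain ⟨d, s, hs, h1⟩ := hx
      obtain ⟨d', s', hs', h2⟩ := hy
      refine ⟨d + d', s + s', Submodule.add_mem _ hs hs', ?_⟩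
      have e : x + y - algebraMap k K (d + d') - (s + s') =
          (x - algebraMap k K d - s) + (y - algebraMap k K d' - s') := by rw [map_add]; ring
      rw [e]
      exact (Valuation.map_add _ _ _).trans (max_le h1 h2)
    | mul x y _ _ hx hy =>
      obtain ⟨d, s, hs, h1⟩ := hx
      obtain ⟨d', s', hs', h2⟩ := hy
      refine ⟨d * d', d • s' + d' • s, Submodule.add_mem _ (Submodule.smul_mem _ _ hs')
        (Submodule.smul_mem _ _ hs), ?_⟩
      have hs1 : P.1 s ≤ WithZero.exp (-1 : ℤ) := hMV hs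
      have hs'1 : P.1 s' ≤ WithZero.exp (-1 : ℤ) := hMV hs'
      have hD : P.1 (algebraMap k K d) ≤ 1 := P.2.1 d
      have hD' : P.1 (algebraMap k K d') ≤ 1 := P.2.1 d'
      have hDs : P.1 (algebraMap k K d + s) ≤ 1 :=
        (Valuation.map_add _ _ _).trans (max_le hD (hs1.trans h10))
      have hy1 : P.1 y ≤ 1 := by
        have e : y = (y - algebraMap k K d' - s') + (algebraMap k K d' + s') := by ring
        rw [e]
        exact (Valuation.map_add _ _ _).trans (max_le (h2.trans (h21.trans h10))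
          ((Valuation.map_add _ _ _).trans (max_le hD' (hs'1.trans h10))))
      have e : x * y - algebraMap k K (d * d') - (d • s' + d' • s) =
          (algebraMap k K d + s) * (y - algebraMap k K d' - s') + s * s' +
            (x - algebraMap k K d - s) * y := by
        rw [map_mul, Algebra.smul_def, Algebra.smul_def]; ring
      rw [e]
      refine (Valuation.map_add _ _ _).trans (max_le ((Valuation.map_add _ _ _).trans
        (max_le ?_ ?_)) ?_)
      · rw [map_mul]
        calc P.1 (algebraMap k K d + s) * P.1 (y - algebraMap k K d' - s')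
            ≤ 1 * WithZero.exp (-2 : ℤ) := mul_le_mul' hDs h2
          _ = WithZero.exp (-2 : ℤ) := one_mul _
      · rw [map_mul]
        calc P.1 s * P.1 s' ≤ WithZero.exp (-1 : ℤ) * WithZero.exp (-1 : ℤ) := mul_le_mul' hs1 hs'1
          _ = WithZero.exp (-2 : ℤ) := by rw [← WithZero.exp_add]; norm_num
      · rw [map_mul]
        calc P.1 (x - algebraMap k K d - s) * P.1 y ≤ WithZero.exp (-2 : ℤ) * 1 := mul_le_mul' h1 hy1
          _ = WithZero.exp (-2 : ℤ) := mul_one _
  obtain ⟨d, s, hs, hm⟩ := key u hu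
  have huv : P.1 u = WithZero.exp (-1 : ℤ) := by rw [← htw, map_mul, htv, hw1, mul_one]
  have hs1 : P.1 s ≤ WithZero.exp (-1 : ℤ) := hMV hs
  have hlt1 : (WithZero.exp (-1 : ℤ) : ℤᵐ⁰) < 1 := by
    rw [← WithZero.exp_zero, WithZero.exp_lt_exp]; norm_num
  have hd0 : d = 0 := by
    by_contra hne
    have h1 : P.1 (algebraMap k K d) = 1 := Place.val_algebraMap P hne
    have e : algebraMap k K d = (u - s) - (u - algebraMap k K d - s) := by ring
    have h2 : P.1 (algebraMap k K d) ≤ WithZero.exp (-1 : ℤ) := by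
      rw [e]
      refine (Valuation.map_sub _ _ _).trans (max_le ((Valuation.map_sub _ _ _).trans
        (max_le huv.le hs1)) (hm.trans h21))
    rw [h1] at h2
    exact absurd h2 (not_le.2 hlt1)
  rw [hd0, map_zero, sub_zero] at hm
  have hsv : P.1 s = WithZero.exp (-1 : ℤ) := by
    have e : s = u - (u - s) := by ring
    rw [e, Valuation.map_sub_eq_of_lt_left, huv]
    rw [huv]
    exact lt_of_le_of_lt hm (by rw [WithZero.exp_lt_exp]; norm_num)
  refine ⟨s * φ j, ?_, by rw [map_mul, hsv, hj1, mul_one]⟩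
  have hmap : M ≤ (Submodule.span k (Set.range φ)).comap (LinearMap.mulRight k (φ j)) := by
    rw [hM, Submodule.span_le]
    rintro _ ⟨i, rfl⟩
    show (r i - algebraMap k K (c i)) * φ j ∈ Submodule.span k (Set.range φ)
    have e : (r i - algebraMap k K (c i)) * φ j = φ i - c i • φ j := by
      rw [hr, Algebra.smul_def]; field_simp
    rw [e]
    exact Submodule.sub_mem _ (Submodule.subset_span ⟨i, rfl⟩)
      (Submodule.smul_mem _ _ (Submodule.subset_span ⟨j, rfl⟩))
  exact hmap hs

end Groth.Agent.Helper16.FF
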