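import Mathlib
import Groth.Agent.Lib.Helper16.FF.RR

set_option autoImplicit false

namespace Groth.Agent.Helper16.FF

open FunFld IntermediateField
open scoped WithZero

variable {k K : Type*} [Field k] [Field K] [Algebra k K]

theorem L_inf (D₁ D₂ : Divisor k K) : L D₁ ⊓ L D₂ = L (D₁ ⊓ D₂) := by
  ext x
  rw [Submodule.mem_inf, mem_L, mem_L, mem_L]
  constructor
  · rintro ⟨h1, h2⟩ P
    rw [Finsupp.inf_apply]
    rcases le_total (D₁ P) (D₂ P) with h | h
    · rw [min_eq_left h]; exact h1 P
    · rw [min_eq_right h]; exact h2 P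
  · intro h
    refine ⟨fun P => (h P).trans ?_, fun P => (h P).trans ?_⟩
    · rw [WithZero.exp_le_exp, Finsupp.inf_apply]; exact min_le_left _ _
    · rw [WithZero.exp_le_exp, Finsupp.inf_apply]; exact min_le_right _ _

theorem finrank_adjoin_pos (hK : IsFunctionField k K) {y : K} (hy : Transcendental k y) :
    0 < Module.finrank (IntermediateField.adjoin k ({y} : Set K)) K := by
  have := finite_of_transcendental hK hy
  exact Module.finrank_pos

/-- For `y` transcendental with pole divisor `N` and `m` large, `L((m+1)N) = y L(mN) + L(mN)`. -/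
theorem L_succ_eq (hK : IsFunctionField k K) {y : K} (hy : Transcendental k y) :
    ∃ m₁ : ℕ, ∀ m : ℕ, m₁ ≤ m → ∀ z ∈ L ((m + 1) • (poleDiv y : Divisor k K)),
      ∃ a ∈ L (m • (poleDiv y : Divisor k K)), ∃ b ∈ L (m • (poleDiv y : Divisor k K)),
        z = y * a + b := by
  classical
  set N : Divisor k K := poleDiv y with hN
  set Z : Divisor k K := zeroDiv y with hZ
  have hN0 : (0 : Divisor k K) ≤ N := poleDiv_nonneg y
  have hZ0 : (0 : Divisor k K) ≤ Z := zeroDiv_nonneg y
  have hdiv : div k y = Z - N := (zeroDiv_sub_poleDiv hK y).symm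
  have hy0 : y ≠ 0 := by
    rintro rfl
    exact hy (isAlgebraic_zero)
  set d : ℤ := N.deg with hd
  have hdpos : 1 ≤ d := by
    rw [hd, hN, deg_poleDiv hK hy]
    exact_mod_cast finrank_adjoin_pos hK hy
  refine ⟨2 * genus k K + 1, fun m hm z hz => ?_⟩
  obtain ⟨m', rfl⟩ : ∃ m', m = m' + 1 := ⟨m - 1, by omega⟩
  have hm' : 2 * genus k K ≤ m' := by omega
  have hdeg : ∀ j : ℕ, m' ≤ j → 2 * (genus k K : ℤ) - 1 ≤ (j • N).deg := by
    intro j hj
    rw [Divisor.deg_nsmul]
    have h1 : (2 * genus k K : ℤ) ≤ j := by exact_mod_cast hm'.trans hj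
    nlinarith
  have e0 := ell_eq_of_large hK (hdeg m' le_rfl)
  have e1 := ell_eq_of_large hK (hdeg (m' + 1) (by omega))
  have e2 := ell_eq_of_large hK (hdeg (m' + 1 + 1) (by omega))
  rw [Divisor.deg_nsmul] at e0 e1 e2
  set U : Submodule k K := L ((m' + 1) • N) with hU
  set V : Submodule k K := L ((m' + 1 + 1) • N) with hV
  set yU : Submodule k K := L ((m' + 1) • N - div k y) with hyU
  have hyU' : U.map (LinearMap.mulLeft k y) = yU := by
    have := map_mulLeft_L hK ((m' + 1) • N - div k y) hy0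
    rwa [sub_add_cancel] at this
  have hfU : FiniteDimensional k U := finiteDimensional_L hK _
  have hfV : FiniteDimensional k V := finiteDimensional_L hK _
  have hfyU : FiniteDimensional k yU := finiteDimensional_L hK _
  have hinf : yU ⊓ U = L (m' • N - div k y) := by
    rw [hyU, hU, L_inf]
    congr 1
    ext Q
    rw [Finsupp.inf_apply, Finsupp.sub_apply, Finsupp.sub_apply, Finsupp.smul_apply,
      Finsupp.smul_apply, hdiv, Finsupp.sub_apply, hN, hZ, poleDiv_apply hK, zeroDiv_apply hK]
    simp only [nsmul_eq_mul]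
    push_cast
    rcases le_total (Q.ord y) 0 with h | h
    · rw [max_eq_right h, max_eq_left (by omega : (0 : ℤ) ≤ -Q.ord y)]
      rw [min_eq_right (by nlinarith)]
      ring
    · rw [max_eq_left h, max_eq_right (by omega : -Q.ord y ≤ (0 : ℤ))]
      rw [min_eq_left (by nlinarith)]
      ring
  have hr1 : (Module.finrank k yU : ℤ) = ell ((m' + 1) • N) := by
    have := ell_add_div hK ((m' + 1) • N - div k y) hy0
    rw [sub_add_cancel] at this
    rw [this]; rfl
  have hr2 : (Module.finrank k ↥(yU ⊓ U) : ℤ) = ell (m' • N) := by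
    rw [hinf]
    have := ell_add_div hK (m' • N - div k y) hy0
    rw [sub_add_cancel] at this
    rw [this]; rfl
  have hsum := Submodule.finrank_sup_add_finrank_inf_eq yU U
  have hle : yU ⊔ U ≤ V := by
    refine sup_le (L_mono ?_) (L_mono ?_)
    · intro Q
      rw [Finsupp.sub_apply, Finsupp.smul_apply, Finsupp.smul_apply, hdiv, Finsupp.sub_apply]
      have h1 := hZ0 Q
      have h2 := hN0 Q
      simp only [Finsupp.coe_zero, Pi.zero_apply, nsmul_eq_mul] at h1 h2 ⊢
      push_cast
      nlinarith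
    · intro Q
      rw [Finsupp.smul_apply, Finsupp.smul_apply]
      have h2 := hN0 Q
      simp only [Finsupp.coe_zero, Pi.zero_apply, nsmul_eq_mul] at h2 ⊢
      push_cast
      nlinarith
  have hrank : Module.finrank k ↥(yU ⊔ U) = Module.finrank k V := by
    have hU' : (Module.finrank k U : ℤ) = ell ((m' + 1) • N) := rfl
    have hV' : (Module.finrank k V : ℤ) = ell ((m' + 1 + 1) • N) := rfl
    have : (Module.finrank k ↥(yU ⊔ U) : ℤ) = Module.finrank k V := by
      have hs : (Module.finrank k ↥(yU ⊔ U) : ℤ) + Module.finrank k ↥(yU ⊓ U) =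
          Module.finrank k yU + Module.finrank k U := by exact_mod_cast hsum
      rw [hr1, hr2, hU'] at hs
      rw [hV']
      push_cast at e0 e1 e2 ⊢
      linarith
    exact_mod_cast this
  have heq : yU ⊔ U = V := Submodule.eq_of_le_of_finrank_eq hle hrank
  have hz' : z ∈ yU ⊔ U := by rw [heq]; exact hz
  obtain ⟨a', ha', b, hb, hab⟩ := Submodule.mem_sup.1 hz'
  rw [← hyU'] at ha'
  obtain ⟨a, ha, rfl⟩ := ha'
  exact ⟨a, ha, b, hb, hab.symm⟩

end Groth.Agent.Helper16.FF
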