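import Mathlib
import Groth.Agent.Lib.Helper16.FF.NSA
import Groth.Agent.Lib.Helper16.FF.Aut

set_option autoImplicit false

namespace Groth.Agent.Helper16.FF

open FunFld IntermediateField
open scoped WithZero

variable {k K : Type*} [Field k] [Field K] [Algebra k K]

/-- the localization of the subalgebra `A` at the place `P`: quotients `u / w` of elements of `A`
with `w` a unit at `P` -/
def locRing (A : Subalgebra k K) (P : Place k K) : Subalgebra k K where
  carrier := {z | ∃ u ∈ A, ∃ w ∈ A, P.1 w = 1 ∧ z * w = u}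
  mul_mem' := by
    rintro a b ⟨u, hu, w, hw, hw1, h⟩ ⟨u', hu', w', hw', hw1', h'⟩
    refine ⟨u * u', A.mul_mem hu hu', w * w', A.mul_mem hw hw', by rw [map_mul, hw1, hw1', one_mul], ?_⟩
    rw [← h, ← h']; ring
  add_mem' := by
    rintro a b ⟨u, hu, w, hw, hw1, h⟩ ⟨u', hu', w', hw', hw1', h'⟩
    refine ⟨u * w' + u' * w, A.add_mem (A.mul_mem hu hw') (A.mul_mem hu' hw), w * w',
      A.mul_mem hw hw', by rw [map_mul, hw1, hw1', one_mul], ?_⟩
    rw [← h, ← h']; ring
  algebraMap_mem' := fun c =>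
    ⟨algebraMap k K c, A.algebraMap_mem c, 1, A.one_mem, map_one _, mul_one _⟩

theorem mem_locRing {A : Subalgebra k K} {P : Place k K} {z : K} :
    z ∈ locRing A P ↔ ∃ u ∈ A, ∃ w ∈ A, P.1 w = 1 ∧ z * w = u := Iff.rfl

theorem le_locRing (A : Subalgebra k K) (P : Place k K) : A ≤ locRing A P := fun a ha =>
  ⟨a, ha, 1, A.one_mem, map_one _, mul_one _⟩

theorem val_le_one_of_mem_locRing {A : Subalgebra k K} {P : Place k K}
    (hA : ∀ a ∈ A, P.1 a ≤ 1) {z : K} (hz : z ∈ locRing A P) : P.1 z ≤ 1 := by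
  obtain ⟨u, hu, w, hw, hw1, h⟩ := hz
  have := hA u hu
  rwa [← h, map_mul, hw1, mul_one] at this

theorem inv_mem_locRing {A : Subalgebra k K} {P : Place k K} {z : K}
    (hz : z ∈ locRing A P) (h1 : P.1 z = 1) : z⁻¹ ∈ locRing A P := by
  obtain ⟨u, hu, w, hw, hw1, h⟩ := hz
  have hz0 : z ≠ 0 := by
    rintro rfl; rw [map_zero] at h1; exact zero_ne_one h1
  refine ⟨w, hw, u, hu, by rw [← h, map_mul, h1, hw1, one_mul], ?_⟩
  rw [← h]; field_simp

theorem locRing_le_locRing {A A' : Subalgebra k K} {P : Place k K} (h : A ≤ locRing A' P) :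
    locRing A P ≤ locRing A' P := by
  rintro z ⟨u, hu, w, hw, hw1, hzw⟩
  have hw0 : w ≠ 0 := by
    rintro rfl; rw [map_zero] at hw1; exact zero_ne_one hw1
  have : z = u * w⁻¹ := by rw [← hzw]; field_simp
  rw [this]
  exact (locRing A' P).mul_mem (h hu) (inv_mem_locRing (h hw) hw1)

theorem val_le_one_of_mem_adjoin {ι : Type*} (x : ι → K) (Q : Place k K)
    (hx : ∀ i, Q.1 (x i) ≤ 1) {a : K} (ha : a ∈ Algebra.adjoin k (Set.range x)) : Q.1 a ≤ 1 := by
  induction ha using Algebra.adjoin_induction with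
  | mem x hx' => obtain ⟨i, rfl⟩ := hx'; exact hx i
  | algebraMap c => exact Q.2.1 c
  | add a b _ _ ha hb => exact (Valuation.map_add _ _ _).trans (max_le ha hb)
  | mul a b _ _ ha hb => rw [map_mul]; exact mul_le_one' ha hb

/-- an element of `A` with a pole at each place of a finite set of places at each of which some
element of `A` has a pole -/
theorem exists_pole_all (A : Subalgebra k K) (T : Finset (Place k K))
    (hT : ∀ Q ∈ T, ∃ a ∈ A, 1 < Q.1 a) : ∃ y ∈ A, ∀ Q ∈ T, 1 < Q.1 y := by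
  classical
  induction T using Finset.induction_on with
  | empty => exact ⟨0, A.zero_mem, by simp⟩
  | insert Q₀ T hQ₀ ih =>
    obtain ⟨y, hyA, hy⟩ := ih fun Q hQ => hT Q (Finset.mem_insert_of_mem hQ)
    obtain ⟨x, hxA, hx⟩ := hT Q₀ (Finset.mem_insert_self _ _)
    -- choose `m` with `Q.1 y < Q.1 x ^ m` whenever `1 < Q.1 x`, for `Q` in `insert Q₀ T`
    have hm : ∀ Q : Place k K, ∃ r₀ : ℕ, ∀ r : ℕ, r₀ ≤ r → 1 < Q.1 x → Q.1 y < Q.1 x ^ r := by
      intro Q
      by_cases h : 1 < Q.1 x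
      · obtain ⟨r₀, hr₀⟩ := exists_pow_gt (Q.1 y) h
        exact ⟨r₀, fun r hr _ => hr₀ r hr⟩
      · exact ⟨0, fun r _ h' => absurd h' h⟩
    choose r₀ hr₀ using hm
    set m := (insert Q₀ T).sup r₀ + 1 with hm
    refine ⟨y + x ^ m, A.add_mem hyA (A.pow_mem hxA m), fun Q hQ => ?_⟩
    have hmQ : r₀ Q ≤ m := (Finset.le_sup hQ).trans (Nat.le_succ _)
    by_cases h : 1 < Q.1 x
    · have h1 := hr₀ Q m hmQ h
      rw [← map_pow] at h1
      rw [Valuation.map_add_eq_of_lt_right _ h1, map_pow]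
      exact one_lt_pow₀ h (Nat.succ_ne_zero _)
    · push Not at h
      rcases Finset.mem_insert.1 hQ with rfl | hQT
      · exact absurd hx (not_lt.2 h)
      · have h1 : Q.1 (x ^ m) < Q.1 y := by
          rw [map_pow]
          exact lt_of_le_of_lt (pow_le_one' h m) (hy Q hQT)
        rw [Valuation.map_add_eq_of_lt_left _ h1]
        exact hy Q hQT

end Groth.Agent.Helper16.FF
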