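import Mathlib
import Groth.Agent.Lib.Helper16.FF.NSB

set_option autoImplicit false

namespace Groth.Agent.Helper16.FF

open FunFld IntermediateField
open scoped WithZero

variable {k K : Type*} [Field k] [Field K] [Algebra k K]

theorem mul_lt_one_of_le_of_lt' {a b : ℤᵐ⁰} (ha : a ≤ 1) (hb : b < 1) : a * b < 1 :=
  lt_of_le_of_lt (by calc a * b ≤ 1 * b := mul_le_mul_left ha b
    _ = b := one_mul b) hb

theorem mul_lt_one_of_lt_of_le' {a b : ℤᵐ⁰} (ha : a < 1) (hb : b ≤ 1) : a * b < 1 := by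
  rw [mul_comm]; exact mul_lt_one_of_le_of_lt' hb ha

theorem one_lt_val_iff (Q : Place k K) {z : K} (hz : z ≠ 0) : 1 < Q.1 z ↔ Q.ord z < 0 := by
  rw [← not_le, Place.val_le_one_iff Q hz, not_le]

/-- an element whose poles are among the poles of `y` lies in `L(m (y)_∞)` for some large `m` -/
theorem exists_mem_L_nsmul (hK : IsFunctionField k K) {y z : K}
    (hz : ∀ Q : Place k K, 1 < Q.1 z → 1 < Q.1 y) (m₁ : ℕ) :
    ∃ m : ℕ, m₁ ≤ m ∧ z ∈ L (m • (poleDiv y : Divisor k K)) := by
  classical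
  by_cases hz0 : z = 0
  · exact ⟨m₁, le_rfl, by rw [hz0]; exact Submodule.zero_mem _⟩
  set D : Divisor k K := poleDiv z with hD
  set m := max m₁ (D.support.sup fun Q => (D Q).toNat) with hm
  refine ⟨m, le_max_left _ _, L_mono ?_ (mem_L_poleDiv hK z)⟩
  intro Q
  rw [Finsupp.smul_apply, nsmul_eq_mul]
  by_cases hQ : Q ∈ D.support
  · have h1 : (D Q).toNat ≤ m := (Finset.le_sup (f := fun Q => (D Q).toNat) hQ).trans (le_max_right _ _)
    have h2 : D Q ≤ (D Q).toNat := Int.self_le_toNat _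
    have h3 : D Q ≠ 0 := Finsupp.mem_support_iff.1 hQ
    have h4 : 0 ≤ D Q := poleDiv_nonneg z Q
    have h5 : 1 < Q.1 z := by
      rw [one_lt_val_iff Q hz0]
      rw [hD, poleDiv_apply hK] at h3 h4
      by_contra h
      push Not at h
      rw [max_eq_right (by omega)] at h3
      exact h3 rfl
    have h6 := hz Q h5
    have hy0 : y ≠ 0 := by
      rintro rfl; rw [map_zero] at h6; exact absurd h6 (by simp)
    rw [one_lt_val_iff Q hy0] at h6
    have h7 : 1 ≤ (poleDiv y : Divisor k K) Q := by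
      rw [poleDiv_apply hK]
      exact le_max_of_le_left (by omega)
    have h8 : (D Q : ℤ) ≤ m := h2.trans (by exact_mod_cast h1)
    nlinarith
  · rw [Finsupp.notMem_support_iff.1 hQ]
    have := poleDiv_nonneg y Q
    simp only [Finsupp.coe_zero, Pi.zero_apply] at this
    positivity


/-- **Nonsingularity criterion.**  Let `A = k[x₁, …, xₙ]` be integral at the place `P`.  If `A`
contains a local parameter at `P`, and every other place at which `A` is integral is separated
from `P` by an element of `A`, then the localization of `A` at `P` is the whole valuation ring. -/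
theorem locRing_eq_of_sep [IsAlgClosed k] (hK : IsFunctionField k K) {ι : Type*} [Finite ι]
    (x : ι → K) (P : Place k K) (hxP : ∀ i, P.1 (x i) ≤ 1)
    (hsep : ∀ Q : Place k K, Q ≠ P → (∀ i, Q.1 (x i) ≤ 1) →
      ∃ w ∈ Algebra.adjoin k (Set.range x), P.1 w = 1 ∧ Q.1 w < 1)
    (ht : ∃ t ∈ Algebra.adjoin k (Set.range x), P.1 t = WithZero.exp (-1 : ℤ))
    {z : K} (hz : P.1 z ≤ 1) : z ∈ locRing (Algebra.adjoin k (Set.range x)) P := by
  classical
  set A := Algebra.adjoin k (Set.range x) with hA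
  have hAP : ∀ a ∈ A, P.1 a ≤ 1 := fun a ha => val_le_one_of_mem_adjoin x P hxP ha
  -- the places at infinity
  have hTfin : {Q : Place k K | ∃ i, ¬ Q.1 (x i) ≤ 1}.Finite := by
    have : {Q : Place k K | ∃ i, ¬ Q.1 (x i) ≤ 1} = ⋃ i, {Q : Place k K | ¬ Q.1 (x i) ≤ 1} := by
      ext Q; simp
    rw [this]
    exact Set.finite_iUnion fun i => finite_poles hK (x i)
  set T := hTfin.toFinset with hT
  have hTmem : ∀ Q, Q ∈ T ↔ ∃ i, ¬ Q.1 (x i) ≤ 1 := fun Q => by
    rw [hT, Set.Finite.mem_toFinset]; rfl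
  have hnT : ∀ Q, Q ∉ T → ∀ a ∈ A, Q.1 a ≤ 1 := by
    intro Q hQ a ha
    refine val_le_one_of_mem_adjoin x Q (fun i => ?_) ha
    by_contra h
    exact hQ ((hTmem Q).2 ⟨i, h⟩)
  obtain ⟨y, hyA, hy⟩ := exists_pole_all A T (fun Q hQ => by
    obtain ⟨i, hi⟩ := (hTmem Q).1 hQ
    exact ⟨x i, Algebra.subset_adjoin ⟨i, rfl⟩, not_le.1 hi⟩)
  obtain ⟨t, htA, ht1⟩ := ht
  have ht0 : t ≠ 0 := by
    rintro rfl; rw [map_zero] at ht1; exact WithZero.exp_ne_zero.symm ht1
  have hlt1 : (WithZero.exp (-1 : ℤ) : ℤᵐ⁰) < 1 := by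
    rw [← WithZero.exp_zero, WithZero.exp_lt_exp]; norm_num
  have httr : Transcendental k t :=
    Place.transcendental_of_val_ne_one hK P ht0 (by rw [ht1]; exact hlt1.ne)
  obtain ⟨Q₁, hQ₁⟩ := exists_pole hK httr
  have hQ₁T : Q₁ ∈ T := by
    by_contra h; exact absurd (hnT Q₁ h t htA) (not_le.2 hQ₁)
  have hy0 : y ≠ 0 := by
    rintro rfl
    have := hy Q₁ hQ₁T
    rw [map_zero] at this
    exact absurd this (by simp)
  have hytr : Transcendental k y :=
    Place.transcendental_of_val_ne_one hK Q₁ hy0 (ne_of_gt (hy Q₁ hQ₁T))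
  obtain ⟨m₁, hm₁⟩ := L_succ_eq hK hytr
  set N : Divisor k K := poleDiv y with hN
  set R := locRing A P with hR
  -- the `R`-submodule generated by `L(m₁ N)`
  set M : Submodule R K := Submodule.span R (L (m₁ • N) : Set K) with hM
  have hLM : ∀ m, m₁ ≤ m → ∀ z ∈ L (m • N), z ∈ M := by
    intro m hm
    induction m, hm using Nat.le_induction with
    | base => intro z hz; exact Submodule.subset_span hz
    | succ m hm ih =>
      intro z hz
      obtain ⟨a, ha, b, hb, rfl⟩ := hm₁ m hm z hz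
      have : y * a = (⟨y, le_locRing A P hyA⟩ : R) • a := rfl
      rw [this]
      exact M.add_mem (M.smul_mem _ (ih a ha)) (ih b hb)
  have hMfg : M.FG := by
    have hfd := finiteDimensional_L hK (m₁ • N)
    obtain ⟨S, hS⟩ : (L (m₁ • N)).FG := (Submodule.fg_iff_finiteDimensional _).2 hfd
    refine ⟨S, ?_⟩
    apply le_antisymm
    · apply Submodule.span_mono
      rw [← hS]
      exact Submodule.subset_span
    · rw [hM, Submodule.span_le, ← hS]
      intro z hz
      have : Submodule.span k (S : Set K) ≤ (Submodule.span R (S : Set K)).restrictScalars k :=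
        Submodule.span_le.2 Submodule.subset_span
      exact this hz
  -- every element integral at `P` lies in `M`
  have hOM : ∀ z, P.1 z ≤ 1 → z ∈ M := by
    intro z hz
    have hFfin : {Q : Place k K | ¬ Q.1 z ≤ 1 ∧ Q ∉ T}.Finite :=
      (finite_poles hK z).subset (fun Q h => h.1)
    set F := hFfin.toFinset with hF
    have hFmem : ∀ Q, Q ∈ F ↔ ¬ Q.1 z ≤ 1 ∧ Q ∉ T := fun Q => by
      rw [hF, Set.Finite.mem_toFinset]; rfl
    have hw : ∀ Q : Place k K, ∃ w ∈ A, P.1 w = 1 ∧ (Q ∈ F → Q.1 w < 1) := by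
      intro Q
      by_cases hQ : Q ∈ F
      · obtain ⟨h1, h2⟩ := (hFmem Q).1 hQ
        have hQP : Q ≠ P := by rintro rfl; exact h1 hz
        obtain ⟨w, hw, hw1, hw2⟩ := hsep Q hQP (fun i => by
          by_contra h; exact h2 ((hTmem Q).2 ⟨i, h⟩))
        exact ⟨w, hw, hw1, fun _ => hw2⟩
      · exact ⟨1, A.one_mem, map_one _, fun h => absurd h hQ⟩
    choose w hwA hwP hwQ using hw
    set w₀ := ∏ Q ∈ F, w Q with hw₀
    have hw₀A : w₀ ∈ A := Subalgebra.prod_mem _ (fun Q _ => hwA Q)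
    have hw₀P : P.1 w₀ = 1 := by
      rw [hw₀, map_prod]; exact Finset.prod_eq_one (fun Q _ => hwP Q)
    have hw₀0 : w₀ ≠ 0 := by
      intro h; rw [h, map_zero] at hw₀P; exact zero_ne_one hw₀P
    have hw₀Q : ∀ Q ∈ F, Q.1 w₀ < 1 := by
      intro Q hQ
      rw [hw₀, map_prod, ← Finset.mul_prod_erase F _ hQ]
      have h1 := hwQ Q hQ
      have h2 : ∏ Q' ∈ F.erase Q, Q.1 (w Q') ≤ 1 :=
        Finset.prod_le_one' (fun Q' _ => hnT Q ((hFmem Q).1 hQ).2 _ (hwA Q'))
      calc Q.1 (w Q) * ∏ Q' ∈ F.erase Q, Q.1 (w Q') ≤ Q.1 (w Q) * 1 := by gcongr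
        _ < 1 := by rwa [mul_one]
    have hexp : ∀ Q : Place k K, ∃ a₀ : ℕ, ∀ a, a₀ ≤ a → Q ∈ F → Q.1 z * Q.1 w₀ ^ a ≤ 1 := by
      intro Q
      by_cases hQ : Q ∈ F
      · have hc := hw₀Q Q hQ
        have hc0 : Q.1 w₀ ≠ 0 := by rw [Ne, map_eq_zero]; exact hw₀0
        have hcpos : 0 < Q.1 w₀ := zero_lt_iff.2 hc0
        have hinv : 1 < (Q.1 w₀)⁻¹ := (one_lt_inv₀ hcpos).2 hc
        obtain ⟨r₀, hr₀⟩ := exists_pow_gt (Q.1 z) hinv
        refine ⟨r₀, fun a ha _ => ?_⟩
        have h1 := hr₀ a ha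
        rw [inv_pow] at h1
        have hpos : 0 < Q.1 w₀ ^ a := pow_pos hcpos a
        calc Q.1 z * Q.1 w₀ ^ a ≤ (Q.1 w₀ ^ a)⁻¹ * Q.1 w₀ ^ a := by gcongr
          _ = 1 := inv_mul_cancel₀ hpos.ne'
      · exact ⟨0, fun a _ h => absurd h hQ⟩
    choose a₀ ha₀ using hexp
    set a := F.sup a₀ with ha
    set w' := w₀ ^ a with hw'
    have hw'A : w' ∈ A := A.pow_mem hw₀A a
    have hw'P : P.1 w' = 1 := by rw [hw', map_pow, hw₀P, one_pow]
    have hw'0 : w' ≠ 0 := pow_ne_zero _ hw₀0
    have hpoles : ∀ Q : Place k K, 1 < Q.1 (z * w') → 1 < Q.1 y := by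
      intro Q hQ
      by_contra hy'
      have hQT : Q ∉ T := fun h => hy' (hy Q h)
      have hw'Q : Q.1 w' ≤ 1 := hnT Q hQT w' hw'A
      by_cases hQF : Q ∈ F
      · have := ha₀ Q a (Finset.le_sup hQF) hQF
        rw [map_mul, hw', map_pow] at hQ
        exact absurd hQ (not_lt.2 this)
      · have hz1 : Q.1 z ≤ 1 := by
          by_contra h
          exact hQF ((hFmem Q).2 ⟨h, hQT⟩)
        rw [map_mul] at hQ
        exact absurd hQ (not_lt.2 (mul_le_one' hz1 hw'Q))
    obtain ⟨m, hm, hzm⟩ := exists_mem_L_nsmul hK hpoles m₁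
    have h1 := hLM m hm _ hzm
    have hinv : w'⁻¹ ∈ R := inv_mem_locRing (le_locRing A P hw'A) hw'P
    have : z = (⟨w'⁻¹, hinv⟩ : R) • (z * w') := by
      show z = w'⁻¹ * (z * w')
      field_simp
    rw [this]
    exact M.smul_mem _ h1
  -- `O_P` as an `R`-submodule of `K`
  let OP : Submodule R K :=
    { carrier := {z | P.1 z ≤ 1}
      add_mem' := fun {a b} ha hb => by
        show P.1 (a + b) ≤ 1
        exact (Valuation.map_add _ _ _).trans (max_le ha hb)
      zero_mem' := by simp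
      smul_mem' := fun r z hz => by
        show P.1 ((r : K) * z) ≤ 1
        rw [map_mul]
        exact mul_le_one' (val_le_one_of_mem_locRing hAP r.2) hz }
  have hNP : N P = 0 := by
    rw [hN, poleDiv_apply hK]
    have := (Place.val_le_one_iff P hy0).1 (hAP y hyA)
    exact max_eq_right (by omega)
  have hMO : M = OP := by
    apply le_antisymm
    · rw [hM, Submodule.span_le]
      intro z hz
      have := hz P
      rw [Finsupp.smul_apply, hNP, smul_zero, WithZero.exp_zero] at this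
      exact this
    · intro z hz; exact hOM z hz
  have hOfg : OP.FG := hMO ▸ hMfg
  let I : Ideal R :=
    { carrier := {r | P.1 (r : K) < 1}
      add_mem' := fun {a b} ha hb => by
        show P.1 ((a : K) + (b : K)) < 1
        exact lt_of_le_of_lt (Valuation.map_add _ _ _) (max_lt ha hb)
      zero_mem' := by simp
      smul_mem' := fun r s hs => by
        show P.1 ((r : K) * (s : K)) < 1
        rw [map_mul]
        exact mul_lt_one_of_le_of_lt' (val_le_one_of_mem_locRing hAP r.2) hs }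
  have hIJ : I ≤ Ideal.jacobson ⊥ := by
    intro r hr
    rw [Ideal.mem_jacobson_bot]
    intro s
    have hrs : P.1 ((r : K) * (s : K)) < 1 := by
      rw [map_mul]
      exact mul_lt_one_of_lt_of_le' hr (val_le_one_of_mem_locRing hAP s.2)
    have h1 : P.1 (((r * s + 1 : R) : R) : K) = 1 := by
      show P.1 ((r : K) * (s : K) + 1) = 1
      have : P.1 ((r : K) * (s : K)) < P.1 (1 : K) := by rw [map_one]; exact hrs
      rw [Valuation.map_add_eq_of_lt_right _ this, map_one]
    have h0 : (((r * s + 1 : R) : R) : K) ≠ 0 := by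
      intro h; rw [h, map_zero] at h1; exact zero_ne_one h1
    have hinv := inv_mem_locRing (r * s + 1).2 h1
    exact isUnit_iff_exists_inv.2 ⟨⟨_, hinv⟩, Subtype.ext (mul_inv_cancel₀ h0)⟩
  have hNak : OP ≤ Submodule.span R {(1 : K)} := by
    refine Submodule.le_of_le_smul_of_le_jacobson_bot hOfg hIJ ?_
    intro z hz
    obtain ⟨c, hc⟩ := exists_const_sub_lt_one hK (Place.deg_eq_one hK P) hz
    have hdiv : P.1 ((z - algebraMap k K c) / t) ≤ 1 := by
      rw [map_div₀, ht1]
      have := lt_one_iff_le_exp_neg_one.1 hc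
      exact div_le_one_of_le₀ this zero_le
    have htI : (⟨t, le_locRing A P htA⟩ : R) ∈ I := by
      show P.1 t < 1
      rw [ht1]; exact hlt1
    have e : z = (⟨algebraMap k K c, R.algebraMap_mem c⟩ : R) • (1 : K) +
        (⟨t, le_locRing A P htA⟩ : R) • ((z - algebraMap k K c) / t) := by
      show z = algebraMap k K c * 1 + t * ((z - algebraMap k K c) / t)
      field_simp
      ring
    rw [e]
    exact Submodule.add_mem _
      (Submodule.mem_sup_left (Submodule.smul_mem _ _ (Submodule.mem_span_singleton_self _)))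
      (Submodule.mem_sup_right (Submodule.smul_mem_smul htI hdiv))
  have hzR := hNak hz
  obtain ⟨r, hr⟩ := Submodule.mem_span_singleton.1 hzR
  have : (r : K) = z := by
    rw [← hr]
    show (r : K) = (r : K) * 1
    ring
  rw [← this]
  exact r.2

end Groth.Agent.Helper16.FF
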