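import Mathlib
import Groth.Agent.Lib.Helper16.FF.NSC
import Groth.Agent.Lib.Helper16.FF.LocRing

set_option autoImplicit false

namespace Groth.Agent.Helper16.FF

open FunFld IntermediateField
open scoped WithZero

variable {k K : Type*} [Field k] [Field K] [Algebra k K]

/-- the affine coordinate ring `k[φᵢ/φⱼ]` -/
noncomputable abbrev affRing {ι : Type*} (φ : ι → K) (j : ι) : Subalgebra k K :=
  Algebra.adjoin k (Set.range fun i => φ i / φ j)

theorem affRing_le_locRing {ι : Type*} (φ : ι → K) (P : Place k K) {j j' : ι}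
    (hj0 : φ j ≠ 0) (hj : ∀ i, P.1 (φ i) ≤ P.1 (φ j))
    (hj0' : φ j' ≠ 0) (hj' : ∀ i, P.1 (φ i) ≤ P.1 (φ j')) :
    (affRing φ j' : Subalgebra k K) ≤ locRing (affRing φ j) P := by
  apply Algebra.adjoin_le
  rintro _ ⟨i, rfl⟩
  have h1 : P.1 (φ j' / φ j) = 1 := by
    rw [map_div₀, le_antisymm (hj j') (hj' j)]
    exact div_self (by rw [Ne, map_eq_zero]; exact hj0)
  have h2 : φ j' / φ j ∈ locRing (affRing φ j) P :=
    le_locRing _ _ (Algebra.subset_adjoin ⟨j', rfl⟩)
  have h3 : φ i / φ j ∈ locRing (affRing φ j) P :=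
    le_locRing _ _ (Algebra.subset_adjoin ⟨i, rfl⟩)
  have e : φ i / φ j' = φ i / φ j * (φ j' / φ j)⁻¹ := by
    field_simp
  show φ i / φ j' ∈ locRing (affRing φ j) P
  rw [e]
  exact (locRing _ P).mul_mem h3 (inv_mem_locRing h2 h1)

theorem inLocRing_iff {ι : Type*} (φ : ι → K) (P : Place k K) {j : ι}
    (hj0 : φ j ≠ 0) (hj : ∀ i, P.1 (φ i) ≤ P.1 (φ j)) (z : K) :
    InLocRing φ P z ↔ z ∈ locRing (affRing φ j) P := by
  constructor
  · rintro ⟨j', hj0', hj', h⟩
    have hz : z ∈ locRing (affRing φ j') P := h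
    exact locRing_le_locRing (affRing_le_locRing φ P hj0 hj hj0' hj') hz
  · intro h
    exact ⟨j, hj0, hj, h⟩

theorem exists_max_index {ι : Type*} [Finite ι] (φ : ι → K) (P : Place k K)
    (h : ∃ i, φ i ≠ 0) : ∃ j, φ j ≠ 0 ∧ ∀ i, P.1 (φ i) ≤ P.1 (φ j) := by
  obtain ⟨i₀, hi₀⟩ := h
  have : Nonempty ι := ⟨i₀⟩
  obtain ⟨j, hj⟩ := Finite.exists_max (fun i => P.1 (φ i))
  refine ⟨j, ?_, hj⟩
  intro h0
  have := hj i₀
  rw [h0, map_zero] at this
  exact hi₀ ((map_eq_zero _).1 (le_antisymm this zero_le))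

/-- **Criterion for nonsingularity** in terms of the span `W` of the entries of `φ`: there is an
element of `W` vanishing to order exactly one more than the minimum at `P`, and for every other
place `Q` there is an element of `W` vanishing at the image of `P` but not at the image of `Q`. -/
theorem isNonsingularAt_of_sep [IsAlgClosed k] (hK : IsFunctionField k K) {ι : Type*} [Finite ι]
    (φ : ι → K) (P : Place k K) {j : ι} (hj0 : φ j ≠ 0) (hj : ∀ i, P.1 (φ i) ≤ P.1 (φ j))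
    (hpar : ∃ f ∈ Submodule.span k (Set.range φ), P.1 f = WithZero.exp (-1 : ℤ) * P.1 (φ j))
    (hsep : ∀ Q : Place k K, Q ≠ P → ∃ f ∈ Submodule.span k (Set.range φ),
      P.1 f < P.1 (φ j) ∧ ∀ i, Q.1 (φ i) ≤ Q.1 f) :
    IsNonsingularAt φ P := by
  intro z hz
  rw [inLocRing_iff φ P hj0 hj]
  have hj00 : P.1 (φ j) ≠ 0 := by rw [Ne, map_eq_zero]; exact hj0
  refine locRing_eq_of_sep hK (fun i => φ i / φ j) P (fun i => ?_) ?_ ?_ hz
  · rw [map_div₀]
    exact div_le_one_of_le₀ (hj i) zero_le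
  · intro Q hQP hQ
    obtain ⟨f, hfW, hfP, hfQ⟩ := hsep Q hQP
    set u := f / φ j with hu
    have huA : u ∈ affRing (k := k) φ j := div_mem_adjoin_of_mem_span φ j hfW
    have huP : P.1 u < 1 := by
      rw [hu, map_div₀]
      exact (div_lt_one₀ (zero_lt_iff.2 hj00)).2 hfP
    have hQj0 : Q.1 (φ j) ≠ 0 := by rw [Ne, map_eq_zero]; exact hj0
    have huQ1 : Q.1 u ≤ 1 := val_le_one_of_mem_adjoin _ Q hQ huA
    have huQ2 : 1 ≤ Q.1 u := by
      rw [hu, map_div₀]
      exact (one_le_div₀ (zero_lt_iff.2 hQj0)).2 (hfQ j)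
    have huQ : Q.1 u = 1 := le_antisymm huQ1 huQ2
    obtain ⟨c, hc⟩ := exists_const_sub_lt_one hK (Place.deg_eq_one hK Q) huQ1
    have hc0 : c ≠ 0 := by
      rintro rfl
      rw [map_zero, sub_zero, huQ] at hc
      exact lt_irrefl _ hc
    refine ⟨1 - algebraMap k K c⁻¹ * u, ?_, ?_, ?_⟩
    · exact Subalgebra.sub_mem _ (Subalgebra.one_mem _)
        (Subalgebra.mul_mem _ (Subalgebra.algebraMap_mem _ _) huA)
    · have h1 : P.1 (algebraMap k K c⁻¹ * u) < P.1 (1 : K) := by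
        rw [map_one, map_mul, Place.val_algebraMap P (inv_ne_zero hc0), one_mul]
        exact huP
      rw [Valuation.map_sub_eq_of_lt_left _ h1, map_one]
    · have e : 1 - algebraMap k K c⁻¹ * u = -(algebraMap k K c⁻¹ * (u - algebraMap k K c)) := by
        rw [mul_sub, ← map_mul, inv_mul_cancel₀ hc0, map_one]; ring
      rw [e, Valuation.map_neg, map_mul, Place.val_algebraMap Q (inv_ne_zero hc0), one_mul]
      exact hc
  · obtain ⟨f, hfW, hfP⟩ := hpar
    refine ⟨f / φ j, div_mem_adjoin_of_mem_span φ j hfW, ?_⟩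
    rw [map_div₀, hfP, mul_div_assoc, div_self hj00, mul_one]

end Groth.Agent.Helper16.FF
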