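import Mathlib
import Groth.Agent.Lib.Helper16.FF.NSD

set_option autoImplicit false

namespace Groth.Agent.Helper16.FF

open FunFld IntermediateField
open scoped WithZero

variable {k K : Type*} [Field k] [Field K] [Algebra k K]

theorem exists_mem_L_not_mem_sub_single (hK : IsFunctionField k K) {D : Divisor k K}
    {Q : Place k K} (h : ell (D - Finsupp.single Q 1) < ell D) :
    ∃ f ∈ L D, f ∉ L (D - Finsupp.single Q 1) := by
  by_contra hcon
  push Not at hcon
  have hle : L D ≤ L (D - Finsupp.single Q 1) := fun f hf => hcon f hf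
  have := finiteDimensional_L hK (D - Finsupp.single Q 1)
  have h2 := Submodule.finrank_mono hle
  unfold ell at h
  omega

theorem lt_exp_iff_le_exp_pred {a : ℤᵐ⁰} {n : ℤ} : a < WithZero.exp n ↔ a ≤ WithZero.exp (n - 1) := by
  by_cases ha : a = 0
  · simp [ha]
  · rw [← WithZero.exp_log ha, WithZero.exp_lt_exp, WithZero.exp_le_exp]
    omega

theorem val_eq_exp_of_not_mem_sub_single {D : Divisor k K} {Q : Place k K} {f : K}
    (hf : f ∈ L D) (hf' : f ∉ L (D - Finsupp.single Q 1)) : Q.1 f = WithZero.exp (D Q) := by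
  classical
  by_contra hne
  have hlt : Q.1 f < WithZero.exp (D Q) := lt_of_le_of_ne (hf Q) hne
  apply hf'
  intro Q'
  rw [Finsupp.sub_apply, Finsupp.single_apply]
  split_ifs with h
  · subst h
    exact lt_exp_iff_le_exp_pred.1 hlt
  · rw [sub_zero]; exact hf Q'

/-- **Embedding criterion**: if `ℓ(D - P) < ℓ(D)` and `ℓ(D - P - Q) < ℓ(D - P)` for every
place `Q`, then the map given by a spanning family of `L(D)` is nonsingular at `P`. -/
theorem isNonsingularAt_of_ell [IsAlgClosed k] (hK : IsFunctionField k K) {ι : Type*} [Finite ι]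
    (φ : ι → K) (D : Divisor k K) (hspan : Submodule.span k (Set.range φ) = L D) (P : Place k K)
    (hP : ell (D - Finsupp.single P 1) < ell D)
    (hQ : ∀ Q : Place k K, ell (D - Finsupp.single P 1 - Finsupp.single Q 1) <
      ell (D - Finsupp.single P 1)) : IsNonsingularAt φ P := by
  classical
  obtain ⟨f₀, hf₀, hf₀'⟩ := exists_mem_L_not_mem_sub_single hK hP
  have hφD : ∀ i, φ i ∈ L D := fun i => hspan ▸ Submodule.subset_span ⟨i, rfl⟩
  have hDP : (D - Finsupp.single P 1 : Divisor k K) ≤ D := by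
    rw [sub_le_self_iff]; exact single_nonneg P (by norm_num)
  obtain ⟨j, hj⟩ : ∃ j, φ j ∉ L (D - Finsupp.single P 1) := by
    by_contra hcon
    push Not at hcon
    apply hf₀'
    have : Submodule.span k (Set.range φ) ≤ L (D - Finsupp.single P 1) := by
      rw [Submodule.span_le]; rintro _ ⟨i, rfl⟩; exact hcon i
    exact this (hspan ▸ hf₀)
  have hjv : P.1 (φ j) = WithZero.exp (D P) := val_eq_exp_of_not_mem_sub_single (hφD j) hj
  have hj0 : φ j ≠ 0 := by
    rintro h; rw [h, map_zero] at hjv; exact WithZero.exp_ne_zero.symm hjv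
  have hjmax : ∀ i, P.1 (φ i) ≤ P.1 (φ j) := fun i => by rw [hjv]; exact hφD i P
  refine isNonsingularAt_of_sep hK φ P hj0 hjmax ?_ ?_
  · obtain ⟨f, hf, hf'⟩ := exists_mem_L_not_mem_sub_single hK (hQ P)
    refine ⟨f, hspan ▸ L_mono hDP hf, ?_⟩
    rw [val_eq_exp_of_not_mem_sub_single hf hf', hjv, ← WithZero.exp_add, Finsupp.sub_apply,
      Finsupp.single_eq_same]
    congr 1; ring
  · intro Q hQP
    obtain ⟨f, hf, hf'⟩ := exists_mem_L_not_mem_sub_single hK (hQ Q)
    refine ⟨f, hspan ▸ L_mono hDP hf, ?_, fun i => ?_⟩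
    · rw [hjv]
      have := hf P
      rw [Finsupp.sub_apply, Finsupp.single_eq_same] at this
      exact lt_exp_iff_le_exp_pred.2 this
    · rw [val_eq_exp_of_not_mem_sub_single hf hf', Finsupp.sub_apply,
        Finsupp.single_eq_of_ne hQP, sub_zero]
      exact hφD i Q

end Groth.Agent.Helper16.FF
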