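import Mathlib
import Groth.Agent.Lib.Helper16.FF.NSE

set_option autoImplicit false

namespace Groth.Agent.Helper16.FF

open FunFld IntermediateField
open scoped WithZero

variable {k K : Type*} [Field k] [Field K] [Algebra k K]

theorem mapDiv_apply (hK : IsFunctionField k K) {ι : Type*} [Fintype ι] [Nonempty ι]
    (φ : ι → K) (P : Place k K) :
    mapDiv k φ P = -Finset.univ.inf' Finset.univ_nonempty (fun i => P.ord (φ i)) := by
  classical
  unfold mapDiv
  have hfin : (Function.support fun P : Place k K =>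
      -Finset.univ.inf' Finset.univ_nonempty (fun i => P.ord (φ i))).Finite := by
    have hsub : (Function.support fun P : Place k K =>
        -Finset.univ.inf' Finset.univ_nonempty (fun i => P.ord (φ i))) ⊆
        ⋃ i, Function.support fun P : Place k K => P.ord (φ i) := by
      intro Q hQ
      rw [Function.mem_support] at hQ
      by_contra hcon
      apply hQ
      have h0 : ∀ i, Q.ord (φ i) = 0 := by
        intro i
        by_contra h
        exact hcon (Set.mem_iUnion.2 ⟨i, h⟩)
      have : (fun i => Q.ord (φ i)) = fun _ => (0 : ℤ) := funext h0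
      rw [this, Finset.inf'_const, neg_zero]
    exact (Set.finite_iUnion fun i => finite_support_ord hK (φ i)).subset hsub
  rw [dif_pos hfin]
  rfl

theorem val_le_exp_mapDiv (hK : IsFunctionField k K) {ι : Type*} [Fintype ι] [Nonempty ι]
    (φ : ι → K) (hφ : ∀ i, φ i ≠ 0) (P : Place k K) (i : ι) :
    P.1 (φ i) ≤ WithZero.exp (mapDiv k φ P) := by
  rw [mapDiv_apply hK, Place.val_eq_exp_neg_ord P (hφ i), WithZero.exp_le_exp, neg_le_neg_iff]
  exact Finset.inf'_le _ (Finset.mem_univ i)

theorem exists_val_eq_exp_mapDiv (hK : IsFunctionField k K) {ι : Type*} [Fintype ι] [Nonempty ι]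
    (φ : ι → K) (hφ : ∀ i, φ i ≠ 0) (P : Place k K) :
    ∃ j, P.1 (φ j) = WithZero.exp (mapDiv k φ P) := by
  obtain ⟨j, -, hj⟩ := Finset.exists_mem_eq_inf' Finset.univ_nonempty (fun i => P.ord (φ i))
  refine ⟨j, ?_⟩
  rw [mapDiv_apply hK, Place.val_eq_exp_neg_ord P (hφ j), hj]

theorem span_le_L_mapDiv (hK : IsFunctionField k K) {ι : Type*} [Fintype ι] [Nonempty ι]
    (φ : ι → K) (hφ : ∀ i, φ i ≠ 0) : Submodule.span k (Set.range φ) ≤ L (mapDiv k φ) := by
  rw [Submodule.span_le]
  rintro _ ⟨i, rfl⟩ P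
  exact val_le_exp_mapDiv hK φ hφ P i

theorem val_eq_exp_mapDiv_of_max (hK : IsFunctionField k K) {ι : Type*} [Fintype ι] [Nonempty ι]
    (φ : ι → K) (hφ : ∀ i, φ i ≠ 0) (P : Place k K) {j : ι} (hj : ∀ i, P.1 (φ i) ≤ P.1 (φ j)) :
    P.1 (φ j) = WithZero.exp (mapDiv k φ P) := by
  obtain ⟨j', hj'⟩ := exists_val_eq_exp_mapDiv hK φ hφ P
  exact le_antisymm (val_le_exp_mapDiv hK φ hφ P j) (hj' ▸ hj j')

end Groth.Agent.Helper16.FF
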