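import Mathlib
import Groth.Agent.Lib.Helper16.FF.MapDiv

set_option autoImplicit false

namespace Groth.Agent.Helper16.FF

open FunFld IntermediateField
open scoped WithZero

variable {k K : Type*} [Field k] [Field K] [Algebra k K]

/-- vanishing to one more order at a place of degree one cuts the dimension by at most one -/
theorem codim_le_one (hK : IsFunctionField k K) {P : Place k K} (hP : P.deg = 1)
    (W : Submodule k K) [FiniteDimensional k W] (m : ℤ) (hW : ∀ w ∈ W, P.1 w ≤ WithZero.exp m) :
    Module.finrank k W ≤ Module.finrank k ↥(W ⊓ Vloc P (m - 1)) + 1 := by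
  by_cases h : W ≤ Vloc P (m - 1)
  · rw [inf_eq_left.2 h]; omega
  · obtain ⟨w₀, hw₀W, hw₀⟩ := SetLike.not_le_iff_exists.1 h
    have hw₀v : P.1 w₀ = WithZero.exp m := by
      by_contra hne
      exact hw₀ (lt_exp_iff_le_exp_pred.1 (lt_of_le_of_ne (hW w₀ hw₀W) hne))
    have hw₀0 : P.1 w₀ ≠ 0 := by rw [hw₀v]; exact WithZero.exp_ne_zero
    have hw₀00 : w₀ ≠ 0 := by
      rintro rfl; exact hw₀0 (map_zero _)
    have hle : W ≤ (W ⊓ Vloc P (m - 1)) ⊔ Submodule.span k {w₀} := by
      intro w hw
      have h1 : P.1 (w / w₀) ≤ 1 := by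
        rw [map_div₀, hw₀v]
        exact div_le_one_of_le₀ (hW w hw) zero_le
      obtain ⟨c, hc⟩ := exists_const_sub_lt_one hK hP h1
      have h2 : w - c • w₀ ∈ W ⊓ Vloc P (m - 1) := by
        refine ⟨W.sub_mem hw (W.smul_mem c hw₀W), ?_⟩
        show P.1 (w - c • w₀) ≤ WithZero.exp (m - 1)
        apply lt_exp_iff_le_exp_pred.1
        have e : w - c • w₀ = (w / w₀ - algebraMap k K c) * w₀ := by
          rw [Algebra.smul_def]; field_simp
        rw [e, map_mul, hw₀v]
        calc P.1 (w / w₀ - algebraMap k K c) * WithZero.exp m < 1 * WithZero.exp m := by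
              apply mul_lt_mul_of_pos_right hc
              exact zero_lt_iff.2 WithZero.exp_ne_zero
          _ = WithZero.exp m := one_mul _
      have e : w = (w - c • w₀) + c • w₀ := by abel
      rw [e]
      exact Submodule.add_mem _ (Submodule.mem_sup_left h2)
        (Submodule.mem_sup_right (Submodule.smul_mem _ c (Submodule.mem_span_singleton_self _)))
    have h1 := Submodule.finrank_mono hle
    have h2 := Submodule.finrank_add_le_finrank_add_finrank (W ⊓ Vloc P (m - 1))
      (Submodule.span k {w₀})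
    have h3 : Module.finrank k ↥(Submodule.span k {w₀}) = 1 := finrank_span_singleton hw₀00
    omega

theorem inf_L_sub_single_same {D : Divisor k K} {W : Submodule k K} (hW : W ≤ L D)
    (P : Place k K) :
    W ⊓ L (D - Finsupp.single P 1 - Finsupp.single P 1) = W ⊓ Vloc P (D P - 2) := by
  classical
  ext w
  simp only [Submodule.mem_inf]
  refine and_congr_right fun hw => ?_
  constructor
  · intro h
    have := h P
    rw [Finsupp.sub_apply, Finsupp.sub_apply, Finsupp.single_eq_same] at this
    rw [mem_Vloc]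
    convert this using 2
    ring
  · intro h Q
    rw [Finsupp.sub_apply, Finsupp.sub_apply, Finsupp.single_apply]
    split_ifs with hPQ
    · subst hPQ
      rw [mem_Vloc] at h
      convert h using 2
      ring
    · rw [sub_zero, sub_zero]; exact hW hw Q

theorem inf_L_sub_single_ne {D : Divisor k K} {W : Submodule k K} (hW : W ≤ L D)
    {P Q : Place k K} (hQP : Q ≠ P) :
    W ⊓ L (D - Finsupp.single P 1 - Finsupp.single Q 1) =
      W ⊓ Vloc P (D P - 1) ⊓ Vloc Q (D Q - 1) := by
  classical
  ext w
  simp only [Submodule.mem_inf]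
  rw [and_assoc]
  refine and_congr_right fun hw => ?_
  constructor
  · intro h
    have h1 := h P
    have h2 := h Q
    rw [Finsupp.sub_apply, Finsupp.sub_apply, Finsupp.single_eq_same,
      Finsupp.single_eq_of_ne (Ne.symm hQP), sub_zero] at h1
    rw [Finsupp.sub_apply, Finsupp.sub_apply, Finsupp.single_eq_same,
      Finsupp.single_eq_of_ne hQP, sub_zero] at h2
    exact ⟨h1, h2⟩
  · rintro ⟨h1, h2⟩ Q'
    rw [Finsupp.sub_apply, Finsupp.sub_apply, Finsupp.single_apply, Finsupp.single_apply]
    by_cases hP' : P = Q'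
    · subst hP'
      rw [if_pos rfl, if_neg hQP, sub_zero]; exact h1
    · by_cases hQ' : Q = Q'
      · subst hQ'
        rw [if_neg hP', if_pos rfl, sub_zero]; exact h2
      · rw [if_neg hP', if_neg hQ', sub_zero, sub_zero]; exact hW hw Q'

/-- if the generators of `A` are congruent to constants modulo both `P` and `Q`, so is every
element of `A` -/
theorem exists_const_both {ι : Type*} (x : ι → K) (P Q : Place k K) (c : ι → k)
    (hP : ∀ i, P.1 (x i - algebraMap k K (c i)) < 1)
    (hQ : ∀ i, Q.1 (x i - algebraMap k K (c i)) < 1) {a : K}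
    (ha : a ∈ Algebra.adjoin k (Set.range x)) :
    ∃ d : k, P.1 (a - algebraMap k K d) < 1 ∧ Q.1 (a - algebraMap k K d) < 1 := by
  induction ha using Algebra.adjoin_induction with
  | mem a ha => obtain ⟨i, rfl⟩ := ha; exact ⟨c i, hP i, hQ i⟩
  | algebraMap d => exact ⟨d, by simp, by simp⟩
  | add a b _ _ ha hb =>
    obtain ⟨d, h1, h2⟩ := ha
    obtain ⟨d', h1', h2'⟩ := hb
    refine ⟨d + d', ?_, ?_⟩
    · have e : a + b - algebraMap k K (d + d') =
          (a - algebraMap k K d) + (b - algebraMap k K d') := by rw [map_add]; ring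
      rw [e]; exact lt_of_le_of_lt (Valuation.map_add _ _ _) (max_lt h1 h1')
    · have e : a + b - algebraMap k K (d + d') =
          (a - algebraMap k K d) + (b - algebraMap k K d') := by rw [map_add]; ring
      rw [e]; exact lt_of_le_of_lt (Valuation.map_add _ _ _) (max_lt h2 h2')
  | mul a b _ _ ha hb =>
    obtain ⟨d, h1, h2⟩ := ha
    obtain ⟨d', h1', h2'⟩ := hb
    have e : a * b - algebraMap k K (d * d') =
        (a - algebraMap k K d) * (b - algebraMap k K d') +
          (algebraMap k K d * (b - algebraMap k K d') +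
            algebraMap k K d' * (a - algebraMap k K d)) := by rw [map_mul]; ring
    have key : ∀ R : Place k K, R.1 (a - algebraMap k K d) < 1 →
        R.1 (b - algebraMap k K d') < 1 → R.1 (a * b - algebraMap k K (d * d')) < 1 := by
      intro R h h'
      rw [e]
      refine lt_of_le_of_lt (Valuation.map_add _ _ _) (max_lt ?_
        (lt_of_le_of_lt (Valuation.map_add _ _ _) (max_lt ?_ ?_)))
      · rw [map_mul]; exact mul_lt_one_of_lt_of_le' h h'.le
      · rw [map_mul]; exact mul_lt_one_of_le_of_lt' (R.2.1 d) h'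
      · rw [map_mul]; exact mul_lt_one_of_le_of_lt' (R.2.1 d') h
    exact ⟨d * d', key P h1 h1', key Q h2 h2'⟩

/-- if `P` and `Q` have the same centre on `A = k[x]`, the local ring of `A` at `P` is integral
at `Q` -/
theorem val_le_one_of_same_center {ι : Type*} (x : ι → K) (P Q : Place k K) (c : ι → k)
    (hP : ∀ i, P.1 (x i - algebraMap k K (c i)) < 1)
    (hQ : ∀ i, Q.1 (x i - algebraMap k K (c i)) < 1) {z : K}
    (hz : z ∈ locRing (Algebra.adjoin k (Set.range x)) P) : Q.1 z ≤ 1 := by
  obtain ⟨u, hu, w, hw, hw1, hzw⟩ := hz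
  obtain ⟨d, hd1, hd2⟩ := exists_const_both x P Q c hP hQ hw
  obtain ⟨d', hd1', hd2'⟩ := exists_const_both x P Q c hP hQ hu
  have hd0 : d ≠ 0 := by
    rintro rfl
    rw [map_zero, sub_zero, hw1] at hd1
    exact lt_irrefl _ hd1
  have hwQ : Q.1 w = 1 := by
    have e : w = algebraMap k K d + (w - algebraMap k K d) := by ring
    rw [e]
    have : Q.1 (w - algebraMap k K d) < Q.1 (algebraMap k K d) := by
      rw [Place.val_algebraMap Q hd0]; exact hd2
    rw [Valuation.map_add_eq_of_lt_left _ this, Place.val_algebraMap Q hd0]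
  have huQ : Q.1 u ≤ 1 := by
    have e : u = algebraMap k K d' + (u - algebraMap k K d') := by ring
    rw [e]
    exact (Valuation.map_add _ _ _).trans (max_le (Q.2.1 d') hd2'.le)
  rwa [← hzw, map_mul, hwQ, mul_one] at huQ

end Groth.Agent.Helper16.FF
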