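import Mathlib
import Groth.Agent.Lib.Helper16.FF.NSF

set_option autoImplicit false

namespace Groth.Agent.Helper16.FF

open FunFld IntermediateField
open scoped WithZero

variable {k K : Type*} [Field k] [Field K] [Algebra k K]

theorem mul_mem_span_of_mem_span_div {ι : Type*} (φ : ι → K) (j : ι) (hj0 : φ j ≠ 0) {s : K}
    (hs : s ∈ Submodule.span k (Set.range fun i => φ i / φ j)) :
    s * φ j ∈ Submodule.span k (Set.range φ) := by
  have hmap : Submodule.span k (Set.range fun i => φ i / φ j) ≤
      (Submodule.span k (Set.range φ)).comap (LinearMap.mulRight k (φ j)) := by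
    rw [Submodule.span_le]
    rintro _ ⟨i, rfl⟩
    show φ i / φ j * φ j ∈ Submodule.span k (Set.range φ)
    rw [div_mul_cancel₀ _ hj0]
    exact Submodule.subset_span ⟨i, rfl⟩
  exact hmap hs

/-- the hyperplane of `W` of sections vanishing at the image of `Q` -/
theorem finrank_hyperplane (hK : IsFunctionField k K) {ι : Type*} [Finite ι] (φ : ι → K)
    {Q : Place k K} (hQ : Q.deg = 1) {m : ℤ} {j : ι} (hjv : Q.1 (φ j) = WithZero.exp m)
    (hmax : ∀ i, Q.1 (φ i) ≤ WithZero.exp m) :
    Module.finrank k ↥(Submodule.span k (Set.range φ) ⊓ Vloc Q (m - 1)) + 1 =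
      Module.finrank k ↥(Submodule.span k (Set.range φ)) := by
  have hfd : FiniteDimensional k ↥(Submodule.span k (Set.range φ)) :=
    FiniteDimensional.span_of_finite k (Set.finite_range φ)
  have hW : ∀ w ∈ Submodule.span k (Set.range φ), Q.1 w ≤ WithZero.exp m := by
    have : Submodule.span k (Set.range φ) ≤ Vloc Q m := by
      rw [Submodule.span_le]; rintro _ ⟨i, rfl⟩; exact hmax i
    exact fun w hw => this hw
  have c1 := codim_le_one hK hQ (Submodule.span k (Set.range φ)) m hW
  have hlt : Submodule.span k (Set.range φ) ⊓ Vloc Q (m - 1) < Submodule.span k (Set.range φ) := by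
    refine lt_of_le_of_ne inf_le_left fun h => ?_
    have : φ j ∈ Submodule.span k (Set.range φ) ⊓ Vloc Q (m - 1) := by
      rw [h]; exact Submodule.subset_span ⟨j, rfl⟩
    have h2 : Q.1 (φ j) ≤ WithZero.exp (m - 1) := this.2
    rw [hjv, WithZero.exp_le_exp] at h2
    omega
  have c2 := Submodule.finrank_lt_finrank_of_lt hlt
  omega

/-- `S11055` -/
theorem nonsingular_iff_codim [IsAlgClosed k] (hK : IsFunctionField k K) {n : ℕ}
    (φ : Fin (n + 1) → K) (hφ : LinearIndependent k φ) (P : Place k K) :
    IsNonsingularAt φ P ↔ ∀ Q : Place k K,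
      Module.finrank k ↥(Submodule.span k (Set.range φ) ⊓
          L (mapDiv k φ - Finsupp.single P 1 - Finsupp.single Q 1)) + 2 =
        Module.finrank k ↥(Submodule.span k (Set.range φ)) := by
  classical
  set W := Submodule.span k (Set.range φ) with hWdef
  set D := mapDiv k φ with hD
  have hφ0 : ∀ i, φ i ≠ 0 := fun i => hφ.ne_zero i
  have hWD : W ≤ L D := span_le_L_mapDiv hK φ hφ0
  have hfd : FiniteDimensional k ↥W := FiniteDimensional.span_of_finite k (Set.finite_range φ)
  obtain ⟨j, hj0, hj⟩ := exists_max_index φ P ⟨0, hφ0 0⟩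
  have hjv : P.1 (φ j) = WithZero.exp (D P) := val_eq_exp_mapDiv_of_max hK φ hφ0 P hj
  have hmaxP : ∀ i, P.1 (φ i) ≤ WithZero.exp (D P) := fun i => val_le_exp_mapDiv hK φ hφ0 P i
  set HP := W ⊓ Vloc P (D P - 1) with hHPdef
  have hHP : Module.finrank k ↥HP + 1 = Module.finrank k ↥W :=
    finrank_hyperplane hK φ (Place.deg_eq_one hK P) hjv hmaxP
  have hH2 : W ⊓ Vloc P (D P - 2) = HP ⊓ Vloc P (D P - 1 - 1) := by
    rw [hHPdef, inf_assoc]
    congr 1
    rw [show D P - 1 - 1 = D P - 2 by ring]
    exact (inf_eq_right.2 (Vloc_mono P (by omega))).symm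
  constructor
  · intro hns Q
    by_cases hQP : Q = P
    · subst hQP
      rw [inf_L_sub_single_same hWD, hH2]
      have hHPW : ∀ w ∈ HP, Q.1 w ≤ WithZero.exp (D Q - 1) := fun w hw => hw.2
      have c1 := codim_le_one hK (Place.deg_eq_one hK Q) HP (D Q - 1) hHPW
      -- an element of `W` of order exactly one more than the minimum
      obtain ⟨t, ht⟩ := Place.exists_uniformizer Q
      have htI : InLocRing φ Q t := hns t (by
        rw [ht, ← WithZero.exp_zero, WithZero.exp_le_exp]; norm_num)
      rw [inLocRing_iff φ Q hj0 hj] at htI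
      obtain ⟨u, hu, w, hw, hw1, htw⟩ := htI
      have hψ : (fun i => (φ i / φ j) / (φ j / φ j)) = fun i => φ i / φ j := by
        funext i; rw [div_self hj0, div_one]
      have htI' : InLocRing (fun i => φ i / φ j) Q t := by
        refine ⟨j, by show φ j / φ j ≠ 0; rw [div_self hj0]; exact one_ne_zero, fun i => ?_,
          u, ?_, w, ?_, hw1, htw⟩
        · show Q.1 (φ i / φ j) ≤ Q.1 (φ j / φ j)
          rw [div_self hj0, map_one, map_div₀]
          exact div_le_one_of_le₀ (hj i) zero_le
        · rw [hψ]; exact hu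
        · rw [hψ]; exact hw
      obtain ⟨t', ht'W, ht'v⟩ := exists_mem_span_of_inLocRing hK (fun i => φ i / φ j) Q
        (Submodule.subset_span ⟨j, div_self hj0⟩)
        (fun i => by rw [map_div₀]; exact div_le_one_of_le₀ (hj i) zero_le) htI' ht
      have hfW : t' * φ j ∈ W := mul_mem_span_of_mem_span_div φ j hj0 ht'W
      have hfv : Q.1 (t' * φ j) = WithZero.exp (D Q - 1) := by
        rw [map_mul, ht'v, hjv, ← WithZero.exp_add]; congr 1; ring
      have hlt : HP ⊓ Vloc Q (D Q - 1 - 1) < HP := by
        refine lt_of_le_of_ne inf_le_left fun h => ?_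
        have : t' * φ j ∈ HP ⊓ Vloc Q (D Q - 1 - 1) := by
          rw [h]; exact ⟨hfW, hfv.le⟩
        have h2 : Q.1 (t' * φ j) ≤ WithZero.exp (D Q - 1 - 1) := this.2
        rw [hfv, WithZero.exp_le_exp] at h2
        omega
      have c2 := Submodule.finrank_lt_finrank_of_lt hlt
      omega
    · rw [inf_L_sub_single_ne hWD hQP, ← hHPdef]
      have hHPW : ∀ w ∈ HP, Q.1 w ≤ WithZero.exp (D Q) := fun w hw => hWD hw.1 Q
      have c1 := codim_le_one hK (Place.deg_eq_one hK Q) HP (D Q) hHPW
      have hlt : HP ⊓ Vloc Q (D Q - 1) < HP := by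
        refine lt_of_le_of_ne inf_le_left fun h => ?_
        have hle : HP ≤ W ⊓ Vloc Q (D Q - 1) := by
          rw [← h]; exact inf_le_inf_right _ inf_le_left
        -- the hyperplanes coincide
        obtain ⟨jQ, hjQ0, hjQ⟩ := exists_max_index φ Q ⟨0, hφ0 0⟩
        have hjQv : Q.1 (φ jQ) = WithZero.exp (D Q) := val_eq_exp_mapDiv_of_max hK φ hφ0 Q hjQ
        have hHQ : Module.finrank k ↥(W ⊓ Vloc Q (D Q - 1)) + 1 = Module.finrank k ↥W :=
          finrank_hyperplane hK φ (Place.deg_eq_one hK Q) hjQv
            (fun i => val_le_exp_mapDiv hK φ hφ0 Q i)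
        have heq : HP = W ⊓ Vloc Q (D Q - 1) :=
          Submodule.eq_of_le_of_finrank_eq hle (by omega)
        have hjQ' : Q.1 (φ j) = WithZero.exp (D Q) := by
          by_contra hne
          have hlt' : Q.1 (φ j) < WithZero.exp (D Q) :=
            lt_of_le_of_ne (val_le_exp_mapDiv hK φ hφ0 Q j) hne
          have : φ j ∈ HP := by
            rw [heq]
            exact ⟨Submodule.subset_span ⟨j, rfl⟩, lt_exp_iff_le_exp_pred.1 hlt'⟩
          have h2 : P.1 (φ j) ≤ WithZero.exp (D P - 1) := this.2
          rw [hjv, WithZero.exp_le_exp] at h2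
          omega
        have hxP : ∀ i, P.1 (φ i / φ j) ≤ 1 := fun i => by
          rw [map_div₀]; exact div_le_one_of_le₀ (hj i) zero_le
        have hc : ∀ i, ∃ c : k, P.1 (φ i / φ j - algebraMap k K c) < 1 := fun i =>
          exists_const_sub_lt_one hK (Place.deg_eq_one hK P) (hxP i)
        choose c hc using hc
        have hcQ : ∀ i, Q.1 (φ i / φ j - algebraMap k K (c i)) < 1 := by
          intro i
          have e : φ i - c i • φ j = (φ i / φ j - algebraMap k K (c i)) * φ j := by
            rw [Algebra.smul_def]; field_simp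
          have hmem : φ i - c i • φ j ∈ HP := by
            refine ⟨W.sub_mem (Submodule.subset_span ⟨i, rfl⟩)
              (W.smul_mem _ (Submodule.subset_span ⟨j, rfl⟩)), ?_⟩
            show P.1 (φ i - c i • φ j) ≤ WithZero.exp (D P - 1)
            apply lt_exp_iff_le_exp_pred.1
            rw [e, map_mul, hjv]
            calc P.1 (φ i / φ j - algebraMap k K (c i)) * WithZero.exp (D P)
                < 1 * WithZero.exp (D P) := by
                  apply mul_lt_mul_of_pos_right (hc i)
                  exact zero_lt_iff.2 WithZero.exp_ne_zero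
              _ = WithZero.exp (D P) := one_mul _
          rw [heq] at hmem
          have h2 : Q.1 (φ i - c i • φ j) ≤ WithZero.exp (D Q - 1) := hmem.2
          have h3 : Q.1 (φ i - c i • φ j) < WithZero.exp (D Q) := lt_exp_iff_le_exp_pred.2 h2
          rw [e, map_mul, hjQ'] at h3
          by_contra hge
          push Not at hge
          have : WithZero.exp (D Q) ≤ Q.1 (φ i / φ j - algebraMap k K (c i)) * WithZero.exp (D Q) := by
            calc WithZero.exp (D Q) = 1 * WithZero.exp (D Q) := (one_mul _).symm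
              _ ≤ _ := by gcongr
          exact absurd h3 (not_lt.2 this)
        obtain ⟨y, hy1, hy2⟩ := Place.exists_le_one_lt P Q (Ne.symm hQP)
        have hyI := hns y hy1
        rw [inLocRing_iff φ P hj0 hj] at hyI
        exact absurd (val_le_one_of_same_center _ P Q c hc hcQ hyI) (not_le.2 hy2)
      have c2 := Submodule.finrank_lt_finrank_of_lt hlt
      omega
  · intro h
    refine isNonsingularAt_of_sep hK φ P hj0 hj ?_ ?_
    · have h1 : Module.finrank k ↥(W ⊓ L (D - Finsupp.single P 1 - Finsupp.single P 1)) + 2 =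
          Module.finrank k ↥W := h P
      rw [inf_L_sub_single_same hWD, hH2] at h1
      have : ¬ HP ≤ HP ⊓ Vloc P (D P - 1 - 1) := by
        intro hle
        have := Submodule.finrank_mono hle
        omega
      obtain ⟨f, hfH, hf⟩ := SetLike.not_le_iff_exists.1 this
      refine ⟨f, hfH.1, ?_⟩
      have h2 : P.1 f ≤ WithZero.exp (D P - 1) := hfH.2
      have h3 : ¬ P.1 f ≤ WithZero.exp (D P - 1 - 1) := fun h' => hf ⟨hfH, h'⟩
      rw [← lt_exp_iff_le_exp_pred] at h3
      rw [hjv, ← WithZero.exp_add, show (-1 : ℤ) + D P = D P - 1 by ring]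
      exact le_antisymm h2 (not_lt.1 h3)
    · intro Q hQP
      have h1 : Module.finrank k ↥(W ⊓ L (D - Finsupp.single P 1 - Finsupp.single Q 1)) + 2 =
          Module.finrank k ↥W := h Q
      rw [inf_L_sub_single_ne hWD hQP, ← hHPdef] at h1
      have : ¬ HP ≤ HP ⊓ Vloc Q (D Q - 1) := by
        intro hle
        have := Submodule.finrank_mono hle
        omega
      obtain ⟨f, hfH, hf⟩ := SetLike.not_le_iff_exists.1 this
      refine ⟨f, hfH.1, ?_, fun i => ?_⟩
      · rw [hjv]
        exact lt_exp_iff_le_exp_pred.2 hfH.2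
      · have h3 : ¬ Q.1 f ≤ WithZero.exp (D Q - 1) := fun h' => hf ⟨hfH, h'⟩
        rw [← lt_exp_iff_le_exp_pred] at h3
        exact (val_le_exp_mapDiv hK φ hφ0 Q i).trans (not_lt.1 h3)

end Groth.Agent.Helper16.FF
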