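import Mathlib
import Groth.Agent.Lib.Helper16.FF.RR

set_option autoImplicit false

namespace Groth.Agent.Helper16.FF

open FunFld IntermediateField Polynomial
open scoped WithZero

variable {k K : Type*} [Field k] [Field K] [Algebra k K]

/-- Strong approximation, inequality form. -/
theorem strong_approx_le (hK : IsFunctionField k K) (Pinf : Place k K) {n : ℕ}
    (P : Fin n → Place k K) (hP : Function.Injective P) (hinf : Pinf ∉ Set.range P)
    (z : Fin n → K) (e : Fin n → ℤ) :
    ∃ y : K, (∀ i, (P i).1 (y - z i) ≤ WithZero.exp (e i)) ∧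
      ∀ Q : Place k K, Q ≠ Pinf → Q ∉ Set.range P → Q.1 y ≤ 1 := by
  classical
  obtain ⟨N, hN⟩ := riemann_eq hK
  set E : Divisor k K := ∑ i, Finsupp.single (P i) (e i) with hE
  set l : ℕ := (N - E.deg).toNat with hl
  set D : Divisor k K := l • (Finsupp.single Pinf 1 : Divisor k K) + E with hD
  have hEapp : ∀ Q : Place k K, E Q = ∑ i, if P i = Q then e i else 0 := by
    intro Q
    rw [hE, Finsupp.finsetSum_apply]
    refine Finset.sum_congr rfl fun i _ => ?_
    rw [Finsupp.single_apply]
  have hEP : ∀ j, E (P j) = e j := by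
    intro j
    rw [hEapp, Finset.sum_eq_single j]
    · simp
    · intro i _ hij
      rw [if_neg (fun h => hij (hP h))]
    · intro h; exact absurd (Finset.mem_univ j) h
  have hEQ : ∀ Q : Place k K, Q ∉ Set.range P → E Q = 0 := by
    intro Q hQ
    rw [hEapp]
    refine Finset.sum_eq_zero fun i _ => ?_
    rw [if_neg (fun h => hQ ⟨i, h⟩)]
  have hDP : ∀ j, D (P j) = e j := by
    intro j
    rw [hD, Finsupp.add_apply, Finsupp.smul_apply, Finsupp.single_apply,
      if_neg (fun h => hinf ⟨j, h.symm⟩), hEP]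
    simp
  have hDQ : ∀ Q : Place k K, Q ≠ Pinf → Q ∉ Set.range P → D Q = 0 := by
    intro Q hQ1 hQ2
    rw [hD, Finsupp.add_apply, Finsupp.smul_apply, Finsupp.single_apply,
      if_neg (fun h => hQ1 h.symm), hEQ Q hQ2]
    simp
  have hdeg : N ≤ D.deg := by
    rw [hD, Divisor.deg_add, Divisor.deg_nsmul, Divisor.deg_single, one_mul]
    have h1 : (1 : ℤ) ≤ (Pinf.deg : ℤ) := by exact_mod_cast Place.deg_pos hK Pinf
    have h2 := Int.self_le_toNat (N - E.deg)
    have h3 : (0 : ℤ) ≤ (l : ℤ) := Int.natCast_nonneg _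
    nlinarith
  have hA := AD_sup_eq_adele hK (hN D hdeg)
  -- the adele with components z i at P i
  let α : Place k K → K := fun Q => if h : ∃ i, P i = Q then z h.choose else 0
  have hαP : ∀ j, α (P j) = z j := by
    intro j
    have h : ∃ i, P i = P j := ⟨j, rfl⟩
    simp only [α, dif_pos h]
    congr 1
    exact hP h.choose_spec
  have hαQ : ∀ Q : Place k K, Q ∉ Set.range P → α Q = 0 := by
    intro Q hQ
    have h : ¬ ∃ i, P i = Q := fun ⟨i, hi⟩ => hQ ⟨i, hi⟩
    simp only [α, dif_neg h]
  have hα : α ∈ adele k K := by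
    rw [mem_adele]
    refine (Set.finite_range P).subset ?_
    intro Q hQ
    by_contra hQ'
    apply hQ
    rw [hαQ Q hQ', map_zero]
    exact zero_le
  rw [← hA] at hα
  obtain ⟨a, ha, c, ⟨y, rfl⟩, hac⟩ := Submodule.mem_sup.1 hα
  refine ⟨y, ?_, ?_⟩
  · intro i
    have h1 := ha (P i)
    have h2 : a (P i) = z i - y := by
      have := congrFun hac (P i)
      rw [Pi.add_apply, diag_apply, hαP] at this
      rw [← this]; ring
    rw [h2, hDP] at h1
    rwa [← Valuation.map_neg, neg_sub] at h1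
  · intro Q hQ1 hQ2
    have h1 := ha Q
    have h2 : a Q = -y := by
      have := congrFun hac Q
      rw [Pi.add_apply, diag_apply, hαQ Q hQ2] at this
      rw [eq_neg_iff_add_eq_zero]; exact this
    rwa [h2, hDQ Q hQ1 hQ2, Valuation.map_neg, WithZero.exp_zero] at h1

/-- Strong approximation theorem. -/
theorem strong_approx (hK : IsFunctionField k K) (Pinf : Place k K) {n : ℕ}
    (P : Fin n → Place k K) (hP : Function.Injective P) (hinf : Pinf ∉ Set.range P)
    (x : Fin n → K) (m : Fin n → ℤ) :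
    ∃ y : K, (∀ i, (P i).1 (y - x i) = WithZero.exp (-(m i))) ∧
      ∀ Q : Place k K, Q ≠ Pinf → Q ∉ Set.range P → Q.1 y ≤ 1 := by
  have ht : ∀ i, ∃ t : K, (P i).1 t = WithZero.exp (-(m i)) := fun i =>
    Place.exists_val_eq_exp (P i) _
  choose t ht using ht
  obtain ⟨y, hy1, hy2⟩ := strong_approx_le hK Pinf P hP hinf (fun i => x i + t i)
    (fun i => -(m i) - 1)
  refine ⟨y, fun i => ?_, hy2⟩
  have h1 := hy1 i
  have h2 : (P i).1 (y - (x i + t i)) < (P i).1 (t i) := by
    rw [ht i]
    refine lt_of_le_of_lt h1 ?_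
    exact WithZero.exp_lt_exp.2 (by omega)
  have e : y - x i = t i + (y - (x i + t i)) := by ring
  rw [e, Valuation.map_add_eq_of_lt_left _ h2, ht i]

end Groth.Agent.Helper16.FF
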