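import Mathlib
import Groth.Agent.Lib.Helper16.FF.NSG
import Groth.Agent.Lib.Helper16.FF.StrongApprox

set_option autoImplicit false

namespace Groth.Agent.Helper16.FF

open FunFld IntermediateField
open scoped WithZero

variable {k K : Type*} [Field k] [Field K] [Algebra k K]

/-- strong approximation for a finite set of places -/
theorem strong_approx_finset (hK : IsFunctionField k K) (Pinf : Place k K)
    (S : Finset (Place k K)) (hinf : Pinf ∉ S) (x : Place k K → K) (m : Place k K → ℤ) :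
    ∃ y : K, (∀ Q ∈ S, Q.1 (y - x Q) = WithZero.exp (-(m Q))) ∧
      ∀ Q : Place k K, Q ≠ Pinf → Q ∉ S → Q.1 y ≤ 1 := by
  classical
  let e := S.equivFin
  obtain ⟨y, hy1, hy2⟩ := strong_approx hK Pinf (fun i => ((e.symm i : S) : Place k K))
    (fun a b h => e.symm.injective (Subtype.ext h))
    (by rintro ⟨i, hi⟩; exact hinf (hi ▸ (e.symm i).2))
    (fun i => x (e.symm i)) (fun i => m (e.symm i))
  refine ⟨y, fun Q hQ => ?_, fun Q hQ1 hQ2 => hy2 Q hQ1 ?_⟩
  · have := hy1 (e ⟨Q, hQ⟩)
    simpa using this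
  · rintro ⟨i, hi⟩
    exact hQ2 (hi ▸ (e.symm i).2)

/-- **Nonzero conductor**: if `Frac A = K` and `y ∈ A` is transcendental, some nonzero `c ∈ A`
multiplies every element whose poles are among the poles of `y` into `A`. -/
theorem exists_conductor (hK : IsFunctionField k K) (A : Subalgebra k K) {y : K} (hyA : y ∈ A)
    (hy : Transcendental k y)
    (hfrac : ∀ z : K, ∃ a ∈ A, ∃ s ∈ A, s ≠ 0 ∧ z * s = a) :
    ∃ c ∈ A, c ≠ 0 ∧ ∀ z : K, (∀ Q : Place k K, 1 < Q.1 z → 1 < Q.1 y) → c * z ∈ A := by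
  classical
  obtain ⟨m₁, hm₁⟩ := L_succ_eq hK hy
  set N : Divisor k K := poleDiv y with hN
  have hfd := finiteDimensional_L hK (m₁ • N)
  obtain ⟨S, hS⟩ : (L (m₁ • N)).FG := (Submodule.fg_iff_finiteDimensional _).2 hfd
  choose a ha d hd hd0 had using hfrac
  set c := ∏ s ∈ S, d s with hc
  have hcA : c ∈ A := Subalgebra.prod_mem _ (fun s _ => hd s)
  have hc0 : c ≠ 0 := Finset.prod_ne_zero_iff.2 (fun s _ => hd0 s)
  have hcS : ∀ s ∈ S, c * s ∈ A := by
    intro s hs
    have e : c * s = (s * d s) * ∏ s' ∈ S.erase s, d s' := by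
      rw [hc, ← Finset.mul_prod_erase S _ hs]; ring
    rw [e, had]
    exact A.mul_mem (ha s) (Subalgebra.prod_mem _ (fun s' _ => hd s'))
  have hcL : ∀ z ∈ L (m₁ • N), c * z ∈ A := by
    have : Submodule.span k (S : Set K) ≤
        (Subalgebra.toSubmodule A).comap (LinearMap.mulLeft k c) := by
      rw [Submodule.span_le]
      intro s hs
      exact hcS s hs
    intro z hz
    rw [← hS] at hz
    exact this hz
  have hcm : ∀ m, m₁ ≤ m → ∀ z ∈ L (m • N), c * z ∈ A := by
    intro m hm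
    induction m, hm using Nat.le_induction with
    | base => exact hcL
    | succ m hm ih =>
      intro z hz
      obtain ⟨a', ha', b', hb', rfl⟩ := hm₁ m hm z hz
      have e : c * (y * a' + b') = y * (c * a') + c * b' := by ring
      rw [e]
      exact A.add_mem (A.mul_mem hyA (ih a' ha')) (ih b' hb')
  refine ⟨c, hcA, hc0, fun z hz => ?_⟩
  obtain ⟨m, hm, hzm⟩ := exists_mem_L_nsmul hK hz m₁
  exact hcm m hm z hzm

end Groth.Agent.Helper16.FF
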