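import Mathlib
import Groth.Agent.Lib.Helper16.FF.NSH

set_option autoImplicit false

namespace Groth.Agent.Helper16.FF

open FunFld IntermediateField
open scoped WithZero

variable {k K : Type*} [Field k] [Field K] [Algebra k K]

theorem finite_zeros' (hK : IsFunctionField k K) {c : K} (hc : c ≠ 0) :
    {P : Place k K | P.1 c < 1}.Finite := by
  by_cases h : IsAlgebraic k c
  · have : {P : Place k K | P.1 c < 1} = ∅ := by
      ext P
      simp only [Set.mem_ofPred_eq, Set.mem_empty_iff_false, iff_false, not_lt]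
      rw [Place.val_eq_one_of_isAlgebraic hK P hc h]
    rw [this]; exact Set.finite_empty
  · exact finite_zeros hK h

/-- **S11058**: a birational projective map is nonsingular at all but finitely many places -/
theorem finite_singular [IsAlgClosed k] (hK : IsFunctionField k K) {ι : Type*} [Finite ι]
    (φ : ι → K) (i₀ : ι) (hφ0 : φ i₀ ≠ 0)
    (hbir : IntermediateField.adjoin k (Set.range fun i => φ i / φ i₀) = ⊤) :
    {P : Place k K | ¬ IsNonsingularAt φ P}.Finite := by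
  classical
  set x : ι → K := fun i => φ i / φ i₀ with hx
  set A := Algebra.adjoin k (Set.range x) with hA
  have hfrac : ∀ z : K, ∃ a ∈ A, ∃ s ∈ A, s ≠ 0 ∧ z * s = a := by
    intro z
    have hz : z ∈ IntermediateField.adjoin k (Set.range x) := by rw [hbir]; trivial
    obtain ⟨r, hr, s, hs, rfl⟩ := IntermediateField.mem_adjoin_iff_div.1 hz
    by_cases hs0 : s = 0
    · exact ⟨0, A.zero_mem, 1, A.one_mem, one_ne_zero, by simp [hs0]⟩
    · exact ⟨r, hr, s, hs, hs0, div_mul_cancel₀ r hs0⟩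
  -- the places at infinity
  have hTfin : {Q : Place k K | ∃ i, ¬ Q.1 (x i) ≤ 1}.Finite := by
    have : {Q : Place k K | ∃ i, ¬ Q.1 (x i) ≤ 1} = ⋃ i, {Q : Place k K | ¬ Q.1 (x i) ≤ 1} := by
      ext Q; simp
    rw [this]
    exact Set.finite_iUnion fun i => finite_poles hK (x i)
  set T := hTfin.toFinset with hT
  have hTmem : ∀ Q, Q ∈ T ↔ ∃ i, ¬ Q.1 (x i) ≤ 1 := fun Q => by
    rw [hT, Set.Finite.mem_toFinset]; rfl
  have hnT : ∀ Q, Q ∉ T → ∀ a ∈ A, Q.1 a ≤ 1 := by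
    intro Q hQ a ha
    refine val_le_one_of_mem_adjoin x Q (fun i => ?_) ha
    by_contra h
    exact hQ ((hTmem Q).2 ⟨i, h⟩)
  obtain ⟨y, hyA, hy⟩ := exists_pole_all A T (fun Q hQ => by
    obtain ⟨i, hi⟩ := (hTmem Q).1 hQ
    exact ⟨x i, Algebra.subset_adjoin ⟨i, rfl⟩, not_le.1 hi⟩)
  -- `T` is nonempty
  obtain ⟨Q₁, hQ₁T⟩ : T.Nonempty := by
    by_contra hempty
    rw [Finset.not_nonempty_iff_eq_empty] at hempty
    obtain ⟨⟨x₀, hx₀, -⟩, hK2⟩ := id hK
    obtain ⟨a, ha, s, hs, hs0, has⟩ := hfrac x₀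
    have halg : ∀ a ∈ A, IsAlgebraic k a := by
      intro a ha
      by_contra htr
      obtain ⟨Q, hQ⟩ := exists_pole hK htr
      exact absurd (hnT Q (by rw [hempty]; simp) a ha) (not_le.2 hQ)
    apply hx₀
    have : x₀ = a / s := by rw [← has]; field_simp
    rw [this]
    obtain ⟨c₁, rfl⟩ := hK2 a (halg a ha)
    obtain ⟨c₂, rfl⟩ := hK2 s (halg s hs)
    rw [← map_div₀]
    exact isAlgebraic_algebraMap _
  have hy0 : y ≠ 0 := by
    rintro rfl
    have := hy Q₁ hQ₁T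
    rw [map_zero] at this
    exact absurd this (by simp)
  have hytr : Transcendental k y :=
    Place.transcendental_of_val_ne_one hK Q₁ hy0 (ne_of_gt (hy Q₁ hQ₁T))
  obtain ⟨c, hcA, hc0, hc⟩ := exists_conductor hK A hyA hytr hfrac
  refine ((T.finite_toSet).union (finite_zeros' hK hc0)).subset ?_
  intro P hP
  by_contra hPbad
  rw [Set.mem_union, not_or] at hPbad
  obtain ⟨hPT, hPc⟩ := hPbad
  have hPT' : P ∉ T := hPT
  apply hP
  have hc1 : P.1 c = 1 := le_antisymm (hnT P hPT' c hcA) (not_lt.1 hPc)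
  have h0max : ∀ i, P.1 (φ i) ≤ P.1 (φ i₀) := by
    intro i
    have h1 : P.1 (x i) ≤ 1 := by
      by_contra h
      exact hPT' ((hTmem P).2 ⟨i, h⟩)
    rw [hx, map_div₀] at h1
    have hpos : 0 < P.1 (φ i₀) := zero_lt_iff.2 (by rw [Ne, map_eq_zero]; exact hφ0)
    exact (div_le_one₀ hpos).1 h1
  intro z hz
  rw [inLocRing_iff φ P hφ0 h0max]
  -- the poles of `z` outside `T`
  have hFfin : {Q : Place k K | ¬ Q.1 z ≤ 1 ∧ Q ∉ T}.Finite :=
    (finite_poles hK z).subset (fun Q h => h.1)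
  set F := hFfin.toFinset with hF
  have hFmem : ∀ Q, Q ∈ F ↔ ¬ Q.1 z ≤ 1 ∧ Q ∉ T := fun Q => by
    rw [hF, Set.Finite.mem_toFinset]; rfl
  have hPF : P ∉ F := fun h => ((hFmem P).1 h).1 hz
  have hQ₁S : Q₁ ∉ insert P F := by
    rw [Finset.mem_insert, not_or]
    exact ⟨fun h => hPT' (h ▸ hQ₁T), fun h => ((hFmem Q₁).1 h).2 hQ₁T⟩
  obtain ⟨b, hb1, hb2⟩ := strong_approx_finset hK Q₁ (insert P F) hQ₁S
    (fun Q => if Q = P then 1 else 0) (fun Q => if Q = P then 1 else -(Q.ord z))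
  have hbP : P.1 b = 1 := by
    have h1 := hb1 P (Finset.mem_insert_self _ _)
    rw [if_pos rfl, if_pos rfl] at h1
    have e : b = 1 + (b - 1) := by ring
    have h2 : P.1 (b - 1) < P.1 (1 : K) := by
      rw [h1, map_one, ← WithZero.exp_zero, WithZero.exp_lt_exp]; norm_num
    rw [e, Valuation.map_add_eq_of_lt_left _ h2, map_one]
  have hbF : ∀ Q ∈ F, Q.1 b = WithZero.exp (Q.ord z) := by
    intro Q hQ
    have hQP : Q ≠ P := fun h => hPF (h ▸ hQ)
    have h1 := hb1 Q (Finset.mem_insert_of_mem hQ)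
    rwa [if_neg hQP, if_neg hQP, sub_zero, neg_neg] at h1
  have hbo : ∀ Q, Q ∉ T → Q ≠ P → Q ∉ F → Q.1 b ≤ 1 := by
    intro Q hQT hQP hQF
    refine hb2 Q (fun h => hQT (h ▸ hQ₁T)) ?_
    rw [Finset.mem_insert, not_or]
    exact ⟨hQP, hQF⟩
  have hzF : ∀ Q ∈ F, z ≠ 0 ∧ Q.ord z < 0 := by
    intro Q hQ
    have h1 := ((hFmem Q).1 hQ).1
    have hz0 : z ≠ 0 := by
      rintro rfl; exact h1 (by simp)
    exact ⟨hz0, by rwa [Place.val_le_one_iff Q hz0, not_le] at h1⟩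
  have hpoles_b : ∀ Q : Place k K, 1 < Q.1 b → 1 < Q.1 y := by
    intro Q hQ
    by_contra hy'
    have hQT : Q ∉ T := fun h => hy' (hy Q h)
    by_cases hQP : Q = P
    · rw [hQP, hbP] at hQ; exact lt_irrefl _ hQ
    by_cases hQF : Q ∈ F
    · rw [hbF Q hQF, ← WithZero.exp_zero, WithZero.exp_lt_exp] at hQ
      have := (hzF Q hQF).2
      omega
    · exact absurd hQ (not_lt.2 (hbo Q hQT hQP hQF))
  have hpoles_zb : ∀ Q : Place k K, 1 < Q.1 (z * b) → 1 < Q.1 y := by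
    intro Q hQ
    by_contra hy'
    have hQT : Q ∉ T := fun h => hy' (hy Q h)
    rw [map_mul] at hQ
    by_cases hQP : Q = P
    · rw [hQP, hbP, mul_one] at hQ; exact absurd hQ (not_lt.2 hz)
    by_cases hQF : Q ∈ F
    · obtain ⟨hz0, -⟩ := hzF Q hQF
      rw [hbF Q hQF, Place.val_eq_exp_neg_ord Q hz0, ← WithZero.exp_add, neg_add_cancel,
        WithZero.exp_zero] at hQ
      exact lt_irrefl _ hQ
    · have hz1 : Q.1 z ≤ 1 := by
        by_contra h
        exact hQF ((hFmem Q).2 ⟨h, hQT⟩)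
      exact absurd hQ (not_lt.2 (mul_le_one' hz1 (hbo Q hQT hQP hQF)))
  refine ⟨c * (z * b), hc _ hpoles_zb, c * b, hc _ hpoles_b, ?_, by ring⟩
  rw [map_mul, hc1, hbP, one_mul]

end Groth.Agent.Helper16.FF
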