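import Mathlib
import Groth.Agent.Lib.Helper16.FF.MapDiv

set_option autoImplicit false

namespace Groth.Agent.Helper16.FF

open FunFld IntermediateField
open scoped WithZero

variable {k K : Type*} [Field k] [Field K] [Algebra k K]

theorem mul_mem_L_add {D₁ D₂ : Divisor k K} {a b : K} (ha : a ∈ L D₁) (hb : b ∈ L D₂) :
    a * b ∈ L (D₁ + D₂) := by
  intro P
  rw [map_mul, Finsupp.add_apply, WithZero.exp_add]
  exact mul_le_mul' (ha P) (hb P)

theorem pow_mem_L_nsmul {D : Divisor k K} {a : K} (ha : a ∈ L D) (i : ℕ) : a ^ i ∈ L (i • D) := by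
  induction i with
  | zero => rw [pow_zero, zero_smul]; exact one_mem_L_zero
  | succ i ih =>
    rw [pow_succ, succ_nsmul]
    exact mul_mem_L_add ih ha

theorem sum_trapezoid (d m : ℕ) (hd : d ≤ m + 1) :
    2 * ∑ j : Fin d, (m + 1 - (j : ℕ)) + d * (d - 1) = 2 * d * (m + 1) := by
  rw [Fin.sum_univ_eq_sum_range (fun j => m + 1 - j) d]
  have h1 : ∑ j ∈ Finset.range d, (m + 1 - j) + ∑ j ∈ Finset.range d, j = d * (m + 1) := by
    rw [← Finset.sum_add_distrib]
    rw [Finset.sum_congr rfl (fun j hj => by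
      have := Finset.mem_range.1 hj
      show m + 1 - j + j = m + 1
      omega)]
    simp
  have h2 := Finset.sum_range_id_mul_two d
  nlinarith

/-- the monomials `ℓ^i y^j`, `j < d`, `i + j ≤ m`, are independent elements of `L(mD)` -/
theorem two_mul_ell_ge (hK : IsFunctionField k K) {ℓ y : K} (hℓ : Transcendental k ℓ)
    (hgen : IntermediateField.adjoin k ({ℓ, y} : Set K) = ⊤) (D : Divisor k K) (hD0 : 0 ≤ D)
    (hℓD : ℓ ∈ L D) (hyD : y ∈ L D) (m : ℕ)
    (hm : Module.finrank (IntermediateField.adjoin k ({ℓ} : Set K)) K ≤ m + 1) :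
    2 * Module.finrank (IntermediateField.adjoin k ({ℓ} : Set K)) K * (m + 1) ≤
      2 * ell (m • D) + Module.finrank (IntermediateField.adjoin k ({ℓ} : Set K)) K *
        (Module.finrank (IntermediateField.adjoin k ({ℓ} : Set K)) K - 1) := by
  classical
  have hfin := finite_of_transcendental hK hℓ
  set F := IntermediateField.adjoin k ({ℓ} : Set K) with hF
  set d := Module.finrank F K with hd
  -- `F(y) = K`
  have htop : IntermediateField.adjoin F ({y} : Set K) = ⊤ := by
    apply IntermediateField.restrictScalars_injective k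
    rw [IntermediateField.adjoin_adjoin_left, IntermediateField.restrictScalars_top,
      Set.singleton_union, ← hgen]
  have hyint : IsIntegral F y := IsIntegral.of_finite F y
  have hdeg : (minpoly F y).natDegree = d := by
    rw [← IntermediateField.adjoin.finrank hyint, htop, IntermediateField.finrank_top']
  have hli2 : LinearIndependent F (fun j : Fin d => y ^ (j : ℕ)) := by
    have := linearIndependent_pow (K := F) y
    rw [hdeg] at this
    exact this
  let g : F := AdjoinSimple.gen k ℓ
  have hg : Transcendental k g := by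
    have h1 : algebraMap F K g = ℓ := AdjoinSimple.algebraMap_gen k ℓ
    rw [← transcendental_algebraMap_iff (algebraMap F K).injective, h1]
    exact hℓ
  have hli1 : LinearIndependent k (fun i : Fin (m + 1) => g ^ (i : ℕ)) :=
    (linearIndependent_pow_of_transcendental hg).comp _ Fin.val_injective
  have hli := linearIndependent_smul hli1 hli2
  -- the trapezoid
  let ι := Σ j : Fin d, Fin (m + 1 - (j : ℕ))
  let emb : ι → Fin (m + 1) × Fin d := fun p => (⟨(p.2 : ℕ), by have := p.2.2; omega⟩, p.1)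
  have hemb : Function.Injective emb := by
    rintro ⟨j, i⟩ ⟨j', i'⟩ h
    simp only [emb, Prod.mk.injEq, Fin.mk.injEq] at h
    obtain ⟨h1, h2⟩ := h
    subst h2
    congr 1
    exact Fin.ext h1
  have hli' := hli.comp emb hemb
  have hmem : ∀ p : ι, (g ^ ((emb p).1 : ℕ) • y ^ ((emb p).2 : ℕ)) ∈ L (m • D) := by
    intro p
    have e : g ^ ((emb p).1 : ℕ) • y ^ ((emb p).2 : ℕ) = ℓ ^ (p.2 : ℕ) * y ^ (p.1 : ℕ) := by
      rw [Algebra.smul_def, map_pow, AdjoinSimple.algebraMap_gen]
    rw [e]
    have h1 := mul_mem_L_add (pow_mem_L_nsmul hℓD (p.2 : ℕ)) (pow_mem_L_nsmul hyD (p.1 : ℕ))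
    rw [← add_smul] at h1
    refine L_mono ?_ h1
    have hle : (p.2 : ℕ) + (p.1 : ℕ) ≤ m := by
      have := p.2.2; omega
    intro Q
    rw [Finsupp.smul_apply, Finsupp.smul_apply]
    have := hD0 Q
    simp only [Finsupp.coe_zero, Pi.zero_apply, nsmul_eq_mul] at this ⊢
    have h2 : ((p.2 : ℕ) + (p.1 : ℕ) : ℤ) ≤ m := by exact_mod_cast hle
    push_cast
    nlinarith
  have h1 := finrank_span_eq_card hli'
  have hle : Submodule.span k (Set.range ((fun p : Fin (m + 1) × Fin d =>
      g ^ (p.1 : ℕ) • y ^ (p.2 : ℕ)) ∘ emb)) ≤ L (m • D) :=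
    Submodule.span_le.2 (Set.range_subset_iff.2 hmem)
  have := finiteDimensional_L hK (m • D)
  have h2 := Submodule.finrank_mono hle
  rw [h1] at h2
  have hcard : Fintype.card ι = ∑ j : Fin d, (m + 1 - (j : ℕ)) := by
    rw [Fintype.card_sigma]
    simp
  rw [hcard] at h2
  have h3 := sum_trapezoid d m hm
  unfold ell
  omega

end Groth.Agent.Helper16.FF
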