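import Mathlib
import Groth.Agent.Lib.Helper16.FF.PlaneA

set_option autoImplicit false

namespace Groth.Agent.Helper16.FF

open FunFld IntermediateField
open scoped WithZero

variable {k K : Type*} [Field k] [Field K] [Algebra k K]

/-- a generic element of `V` has the maximal pole order at each place of the support of `D` -/
theorem exists_generic [IsAlgClosed k] (V : Submodule k K) (D : Divisor k K)
    (hVD : V ≤ L D) (hatt : ∀ Q ∈ D.support, ∃ w ∈ V, Q.1 w = WithZero.exp (D Q)) :
    ∃ ℓ ∈ V, ∀ Q ∈ D.support, Q.1 ℓ = WithZero.exp (D Q) := by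
  classical
  let p : D.support → Submodule k V := fun Q =>
    (Vloc (Q : Place k K) (D Q - 1)).comap V.subtype
  have hp : ∀ Q, p Q ≠ ⊤ := by
    intro Q htop
    obtain ⟨w, hwV, hw⟩ := hatt Q Q.2
    have : (⟨w, hwV⟩ : V) ∈ p Q := by rw [htop]; trivial
    have h2 : (Q : Place k K).1 w ≤ WithZero.exp (D Q - 1) := this
    rw [hw, WithZero.exp_le_exp] at h2
    omega
  obtain ⟨ℓ, hℓ⟩ := Submodule.exists_forall_notMem_of_forall_ne_top p hp
  refine ⟨ℓ.1, ℓ.2, fun Q hQ => ?_⟩
  by_contra hne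
  have hlt : Q.1 (ℓ : K) < WithZero.exp (D Q) := lt_of_le_of_ne (hVD ℓ.2 Q) hne
  exact hℓ ⟨Q, hQ⟩ (lt_exp_iff_le_exp_pred.1 hlt)

theorem poleDiv_eq_of_generic (hK : IsFunctionField k K) {D : Divisor k K} (hD0 : 0 ≤ D)
    {ℓ : K} (hℓ0 : ℓ ≠ 0) (hℓD : ℓ ∈ L D)
    (hℓ : ∀ Q ∈ D.support, Q.1 ℓ = WithZero.exp (D Q)) : (poleDiv ℓ : Divisor k K) = D := by
  ext Q
  rw [poleDiv_apply hK]
  by_cases hQ : Q ∈ D.support
  · have h1 := hℓ Q hQ
    rw [Place.val_eq_exp_neg_ord Q hℓ0, WithZero.exp_inj] at h1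
    rw [h1]
    exact max_eq_left (hD0 Q)
  · have h0 : D Q = 0 := Finsupp.notMem_support_iff.1 hQ
    have h1 := hℓD Q
    rw [h0, WithZero.exp_zero, Place.val_le_one_iff Q hℓ0] at h1
    rw [h0]
    exact max_eq_right (by omega)

theorem val_le_exp_mapDiv' (hK : IsFunctionField k K) {ι : Type*} [Fintype ι] [Nonempty ι]
    (φ : ι → K) (P : Place k K) (i : ι) :
    P.1 (φ i) ≤ WithZero.exp (mapDiv k φ P) := by
  by_cases h : φ i = 0
  · rw [h, map_zero]; exact zero_le
  rw [mapDiv_apply hK, Place.val_eq_exp_neg_ord P h, WithZero.exp_le_exp, neg_le_neg_iff]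
  exact Finset.inf'_le _ (Finset.mem_univ i)

/-- for a tuple containing the entry `1`, the divisor of the map is effective and its value is
attained by a nonzero entry -/
theorem mapDiv_of_one (hK : IsFunctionField k K) {ι : Type*} [Fintype ι] [Nonempty ι]
    (φ : ι → K) {i₀ : ι} (h1 : φ i₀ = 1) (P : Place k K) :
    0 ≤ mapDiv k φ P ∧ ∃ j, P.1 (φ j) = WithZero.exp (mapDiv k φ P) := by
  have hle : Finset.univ.inf' Finset.univ_nonempty (fun i => P.ord (φ i)) ≤ 0 := by
    have := Finset.inf'_le (fun i => P.ord (φ i)) (Finset.mem_univ i₀)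
    rwa [h1, Place.ord_one] at this
  refine ⟨by rw [mapDiv_apply hK]; omega, ?_⟩
  obtain ⟨j, -, hj⟩ := Finset.exists_mem_eq_inf' Finset.univ_nonempty (fun i => P.ord (φ i))
  by_cases h0 : φ j = 0
  · refine ⟨i₀, ?_⟩
    rw [h0, Place.ord_zero] at hj
    rw [h1, map_one, mapDiv_apply hK, hj, neg_zero, WithZero.exp_zero]
  · exact ⟨j, by rw [mapDiv_apply hK, Place.val_eq_exp_neg_ord P h0, hj]⟩

/-- **S11054**: the genus of a plane model of degree `d` is at most `(d-1)(d-2)/2` -/
theorem plane_genus_bound [IsAlgClosed k] (hK : IsFunctionField k K) (x y : K)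
    (hxy : IntermediateField.adjoin k ({x, y} : Set K) = ⊤) :
    2 * (genus k K : ℤ) ≤
      ((mapDiv k ![(1 : K), x, y]).deg - 1) * ((mapDiv k ![(1 : K), x, y]).deg - 2) := by
  classical
  set φ : Fin 3 → K := ![(1 : K), x, y] with hφ
  set D := mapDiv k φ with hD
  set V := Submodule.span k (Set.range φ) with hV
  have hφ0 : φ 0 = 1 := rfl
  have hD0 : (0 : Divisor k K) ≤ D := fun Q => (mapDiv_of_one hK φ hφ0 Q).1
  have hVD : V ≤ L D := by
    rw [hV, Submodule.span_le]
    rintro _ ⟨i, rfl⟩ P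
    exact val_le_exp_mapDiv' hK φ P i
  have hxV : x ∈ V := Submodule.subset_span ⟨1, rfl⟩
  have hyV : y ∈ V := Submodule.subset_span ⟨2, rfl⟩
  have hatt : ∀ Q ∈ D.support, ∃ w ∈ V, Q.1 w = WithZero.exp (D Q) := by
    intro Q _
    obtain ⟨j, hj⟩ := (mapDiv_of_one hK φ hφ0 Q).2
    exact ⟨φ j, Submodule.subset_span ⟨j, rfl⟩, hj⟩
  obtain ⟨ℓ, hℓV, hℓ⟩ := exists_generic V D hVD hatt
  obtain ⟨⟨x₀, hx₀, -⟩, hK2⟩ := id hK
  -- the support is nonempty
  obtain ⟨Q₁, hQ₁⟩ : D.support.Nonempty := by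
    by_contra hempty
    rw [Finset.not_nonempty_iff_eq_empty, Finsupp.support_eq_empty] at hempty
    have hconst : ∀ w ∈ V, w ∈ Set.range (algebraMap k K) := by
      intro w hw
      have := hVD hw
      rw [hempty, L_zero_eq_one hK, Submodule.mem_one] at this
      exact this
    have hle : IntermediateField.adjoin k ({x, y} : Set K) ≤ ⊥ := by
      rw [IntermediateField.adjoin_le_iff]
      intro w hw
      rcases hw with rfl | rfl
      · exact IntermediateField.mem_bot.2 (hconst _ hxV)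
      · exact IntermediateField.mem_bot.2 (hconst _ hyV)
    rw [hxy] at hle
    have : x₀ ∈ (⊥ : IntermediateField k K) := hle trivial
    obtain ⟨c, rfl⟩ := IntermediateField.mem_bot.1 this
    exact hx₀ (isAlgebraic_algebraMap c)
  have hDQ₁ : 0 < D Q₁ :=
    lt_of_le_of_ne (hD0 Q₁) (Ne.symm (Finsupp.mem_support_iff.1 hQ₁))
  have hℓQ₁ : 1 < Q₁.1 ℓ := by
    rw [hℓ Q₁ hQ₁, ← WithZero.exp_zero, WithZero.exp_lt_exp]; exact hDQ₁
  have hℓ0 : ℓ ≠ 0 := by
    rintro rfl; rw [map_zero] at hℓQ₁; exact absurd hℓQ₁ (by simp)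
  have hℓtr : Transcendental k ℓ :=
    Place.transcendental_of_val_ne_one hK Q₁ hℓ0 (ne_of_gt hℓQ₁)
  have hpd : (poleDiv ℓ : Divisor k K) = D := poleDiv_eq_of_generic hK hD0 hℓ0 (hVD hℓV) hℓ
  have hdeg : D.deg = Module.finrank (IntermediateField.adjoin k ({ℓ} : Set K)) K := by
    rw [← hpd]; exact deg_poleDiv hK hℓtr
  -- a second coordinate
  obtain ⟨y', hy'V, hgen⟩ : ∃ y' ∈ V, IntermediateField.adjoin k ({ℓ, y'} : Set K) = ⊤ := by
    obtain ⟨c, hc⟩ := (Submodule.mem_span_range_iff_exists_fun k).1 hℓV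
    rw [Fin.sum_univ_three] at hc
    have hc' : c 0 • (1 : K) + c 1 • x + c 2 • y = ℓ := hc
    by_cases hb : c 1 = 0
    · by_cases hcc : c 2 = 0
      · exfalso
        rw [hb, hcc, zero_smul, zero_smul, add_zero, add_zero, Algebra.smul_def, mul_one] at hc'
        exact hℓtr (hc' ▸ isAlgebraic_algebraMap _)
      · refine ⟨x, hxV, ?_⟩
        rw [eq_top_iff, ← hxy, IntermediateField.adjoin_le_iff]
        have hℓm : ℓ ∈ IntermediateField.adjoin k ({ℓ, x} : Set K) :=
          IntermediateField.subset_adjoin k _ (by simp)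
        have hxm : x ∈ IntermediateField.adjoin k ({ℓ, x} : Set K) :=
          IntermediateField.subset_adjoin k _ (by simp)
        have hym : y ∈ IntermediateField.adjoin k ({ℓ, x} : Set K) := by
          have : y = (c 2)⁻¹ • (ℓ - c 0 • (1 : K)) := by
            rw [← hc', hb, zero_smul, add_zero, add_sub_cancel_left, smul_smul,
              inv_mul_cancel₀ hcc, one_smul]
          rw [this]
          exact IntermediateField.smul_mem _ (sub_mem hℓm
            (IntermediateField.smul_mem _ (one_mem _)))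
        intro w hw
        rcases hw with rfl | rfl
        · exact hxm
        · exact hym
    · refine ⟨y, hyV, ?_⟩
      rw [eq_top_iff, ← hxy, IntermediateField.adjoin_le_iff]
      have hℓm : ℓ ∈ IntermediateField.adjoin k ({ℓ, y} : Set K) :=
        IntermediateField.subset_adjoin k _ (by simp)
      have hym : y ∈ IntermediateField.adjoin k ({ℓ, y} : Set K) :=
        IntermediateField.subset_adjoin k _ (by simp)
      have hxm : x ∈ IntermediateField.adjoin k ({ℓ, y} : Set K) := by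
        have : x = (c 1)⁻¹ • (ℓ - c 0 • (1 : K) - c 2 • y) := by
          rw [← hc']
          have : c 0 • (1 : K) + c 1 • x + c 2 • y - c 0 • (1 : K) - c 2 • y = c 1 • x := by ring
          rw [this, smul_smul, inv_mul_cancel₀ hb, one_smul]
        rw [this]
        exact IntermediateField.smul_mem _ (sub_mem (sub_mem hℓm
          (IntermediateField.smul_mem _ (one_mem _))) (IntermediateField.smul_mem _ hym))
      intro w hw
      rcases hw with rfl | rfl
      · exact hxm
      · exact hym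
  set d := Module.finrank (IntermediateField.adjoin k ({ℓ} : Set K)) K with hd
  have hdpos : 0 < d := finrank_adjoin_pos hK hℓtr
  set m : ℕ := 2 * genus k K + d with hm
  have key : 2 * d * (m + 1) ≤ 2 * ell (m • D) + d * (d - 1) :=
    two_mul_ell_ge hK hℓtr hgen D hD0 (hVD hℓV) (hVD hy'V) m (by omega)
  have hlarge : 2 * (genus k K : ℤ) - 1 ≤ (m • D).deg := by
    rw [Divisor.deg_nsmul, hdeg, hm]
    have : (1 : ℤ) ≤ d := by exact_mod_cast hdpos
    push_cast
    nlinarith
  have hell := ell_eq_of_large hK hlarge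
  rw [Divisor.deg_nsmul, hdeg] at hell
  rw [hdeg]
  obtain ⟨d', hd'⟩ : ∃ d', d = d' + 1 := ⟨d - 1, by omega⟩
  rw [hd'] at key hell ⊢
  have key' : (2 * (d' + 1) * (m + 1) : ℤ) ≤ 2 * ell (m • D) + (d' + 1) * d' := by
    have : d' + 1 - 1 = d' := by omega
    rw [this] at key
    exact_mod_cast key
  push_cast at hell ⊢
  nlinarith

end Groth.Agent.Helper16.FF
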