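import Mathlib

/-!
# Separating transcendence bases inside generating sets (MacLane)
-/

set_option autoImplicit false

namespace Groth.Agent.Helper16.FF

open IntermediateField

section

variable {k K : Type*} [Field k] [Field K] [Algebra k K]

/-- MacLane's criterion, refined: under the `p`-th power linear independence condition,
any finite generating set of `K/k` contains a separating transcendence basis. -/
theorem exists_subset_sepTranscBasis_of_linearIndepOn_pow (p : ℕ) [ExpChar k p] (hp : p.Prime)
    (H : ∀ s : Finset K,
      LinearIndepOn k _root_.id (s : Set K) → LinearIndepOn k (· ^ p) (s : Set K))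
    (G : Finset K) (hG : adjoin k (G : Set K) = ⊤) :
    ∃ s : Finset K, s ⊆ G ∧ IsTranscendenceBasis k ((↑) : s → K) ∧
      Algebra.IsSeparable (adjoin k (s : Set K)) K := by
  classical
  have hess : Algebra.EssFiniteType k K := IntermediateField.fg_top_iff.mp ⟨G, hG⟩
  let d (s : Finset K) := Field.finInsepDegree (adjoin k (s : Set K)) K
  have Hexists : {s : Finset K | s ⊆ G ∧ IsTranscendenceBasis k ((↑) : s → K)}.Nonempty := by
    have : Algebra.IsAlgebraic (Algebra.adjoin k (G : Set K)) K := by
      rw [← isAlgebraic_adjoin_iff_top, hG, Algebra.isAlgebraic_iff_isIntegral]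
      refine Algebra.isIntegral_of_surjective topEquiv.surjective
    have ⟨t, hts, ht⟩ := exists_isTranscendenceBasis_subset (R := k) (G : Set K)
    lift t to Finset K using G.finite_toSet.subset hts
    exact ⟨t, by exact_mod_cast hts, ht⟩
  let s := d.argminOn _ Hexists
  have hs : s ⊆ G ∧ IsTranscendenceBasis k ((↑) : s → K) := d.argminOn_mem _ Hexists
  have hfin : Module.Finite (adjoin k (s : Set K)) K := by
    apply +allowSynthFailures Algebra.finite_of_essFiniteType_of_isAlgebraic
    · exact .of_comp k _ _
    · convert! hs.2.isAlgebraic_field <;> simp [s]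
  have key : ∀ n ∈ G, n ∈ separableClosure (adjoin k (s : Set K)) K := by
    intro n hnG
    by_contra hn
    have hns : n ∉ s := fun h ↦ hn (le_restrictScalars_separableClosure _ (subset_adjoin _ _ h))
    have ⟨i, hi₁, hi₂⟩ := exists_isTranscendenceBasis_and_isSeparable_of_linearIndepOn_pow'
      p hp (a := id) H s n hs.2 (by simpa using hns)
    rw [Set.image_id] at hi₂
    -- the new set
    set t : Finset K := (insert n s).erase i with ht
    have htset : (t : Set K) = insert n (s : Set K) \ {i} := by
      ext z; simp [ht, and_comm]
    have htG : t ⊆ G := by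
      intro z hz
      rw [ht, Finset.mem_erase, Finset.mem_insert] at hz
      rcases hz.2 with rfl | h
      · exact hnG
      · exact hs.1 h
    have htb : IsTranscendenceBasis k ((↑) : t → K) := by
      have : IsTranscendenceBasis k ((↑) : ((t : Set K)) → K) := by
        rw [htset]; exact hi₁
      exact this
    have hlt : (separableClosure (adjoin k (s : Set K)) K).restrictScalars k <
        (separableClosure (adjoin k (t : Set K)) K).restrictScalars k := by
      rw [htset]
      refine SetLike.lt_iff_le_and_exists.mpr ⟨?_, n, ?_, hn⟩
      · rw [separableClosure_le_separableClosure_iff, adjoin_le_iff]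
        intro x hx
        obtain rfl | ne := eq_or_ne x i
        exacts [hi₂, le_restrictScalars_separableClosure _ (subset_adjoin _ _ ⟨.inr hx, ne⟩)]
      · obtain rfl | ne := eq_or_ne n i
        exacts [hi₂, le_restrictScalars_separableClosure _ (subset_adjoin _ _ ⟨.inl rfl, ne⟩)]
    have : Module.Finite ((separableClosure (adjoin k (s : Set K)) K).restrictScalars k) K :=
      inferInstanceAs <| Module.Finite (separableClosure (adjoin k (s : Set K)) K) K
    have hmem : t ∈ {s : Finset K | s ⊆ G ∧ IsTranscendenceBasis k ((↑) : s → K)} := ⟨htG, htb⟩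
    exact d.not_lt_argminOn _ hmem (by apply finrank_lt_of_gt hlt)
  refine ⟨s, hs.1, hs.2, ?_⟩
  rw [← separableClosure.eq_top_iff, ← (restrictScalars_injective k).eq_iff,
    restrictScalars_top, eq_top_iff, ← hG, adjoin_le_iff]
  exact key

/-- Over a perfect field, any finite generating set of a finitely generated extension contains a
separating transcendence basis. -/
theorem exists_subset_sepTranscBasis_of_perfectField [PerfectField k]
    (G : Finset K) (hG : adjoin k (G : Set K) = ⊤) :
    ∃ s : Finset K, s ⊆ G ∧ IsTranscendenceBasis k ((↑) : s → K) ∧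
      Algebra.IsSeparable (adjoin k (s : Set K)) K := by
  obtain _ | ⟨p, hp, hpk⟩ := CharP.exists' k
  · have : Algebra.IsAlgebraic (Algebra.adjoin k (G : Set K)) K := by
      rw [← isAlgebraic_adjoin_iff_top, hG, Algebra.isAlgebraic_iff_isIntegral]
      exact Algebra.isIntegral_of_surjective topEquiv.surjective
    obtain ⟨t, hts, ht⟩ := exists_isTranscendenceBasis_subset (R := k) (G : Set K)
    lift t to Finset K using G.finite_toSet.subset hts
    have : Algebra.IsAlgebraic (IntermediateField.adjoin k (t : Set K)) K := by
      convert! ht.isAlgebraic_field <;> simp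
    exact ⟨t, by exact_mod_cast hts, ht, inferInstance⟩
  have : ExpChar k p := .prime hp.out
  have : CharP K p := .of_ringHom_of_ne_zero (algebraMap k K) p hp.out.ne_zero
  refine exists_subset_sepTranscBasis_of_linearIndepOn_pow p hp.out (fun s hs ↦ ?_) G hG
  apply hs.map_of_injective_injective (frobeniusEquiv k p).symm (frobenius K p).toAddMonoidHom <;>
    simp [frobenius, Algebra.smul_def, mul_pow, ← map_pow, frobeniusEquiv_symm_pow]

end

end Groth.Agent.Helper16.FF
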