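import Groth.Agent.Lib.Helper16.FF.SepGen
import Groth.Agent.Lib.Helper16.FF.Basic

/-!
# Separating variables in generating sets, primitive elements in generating subspaces
-/

set_option autoImplicit false

namespace Groth.Agent.Helper16.FF

open IntermediateField FunFld IntermediateField.algebraAdjoinAdjoin

variable {k K : Type*} [Field k] [Field K] [Algebra k K]

/-- trdeg one: a finset transcendence basis of a function field is a singleton. -/
theorem transcBasis_eq_singleton (hK : IsFunctionField k K) (s : Finset K)
    (hs : IsTranscendenceBasis k ((↑) : s → K)) : ∃ x, s = {x} := by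
  obtain ⟨⟨x₀, hx₀, hfin⟩, -⟩ := id hK
  have halg0 : Algebra.IsAlgebraic (IntermediateField.adjoin k ({x₀} : Set K)) K :=
    Algebra.IsAlgebraic.of_finite _ _
  have hind : AlgebraicIndependent k ((↑) : (({x₀} : Finset K) : Set K) → K) := by
    have : Subsingleton ((({x₀} : Finset K) : Set K)) := by
      constructor
      rintro ⟨a, ha⟩ ⟨b, hb⟩
      simp only [Finset.coe_singleton, Set.mem_singleton_iff] at ha hb
      subst ha; subst hb; rfl
    rw [algebraicIndependent_singleton_iff ⟨x₀, by simp⟩]
    exact hx₀
  have hb : IsTranscendenceBasis k ((↑) : (({x₀} : Finset K) : Set K) → K) := by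
    rw [hind.isTranscendenceBasis_iff_isAlgebraic]
    have : Algebra.IsAlgebraic (Algebra.adjoin k ({x₀} : Set K)) K :=
      Algebra.IsAlgebraic.trans _ (IntermediateField.adjoin k ({x₀} : Set K)) _
    have hr : Set.range ((↑) : (({x₀} : Finset K) : Set K) → K) = {x₀} := by simp
    rw [hr]
    exact this
  have hcard := hs.cardinalMk_eq hb
  have : s.card = 1 := by
    have h1 : Cardinal.mk (s : Set K) = s.card := by simp
    have h2 : Cardinal.mk ((({x₀} : Finset K) : Set K)) = 1 := by simp
    have h3 : Cardinal.mk (↥s) = Cardinal.mk (s : Set K) := rfl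
    have : (s.card : Cardinal) = 1 := by
      rw [← h1, ← h3]
      rw [← h2]
      exact hcard
    exact_mod_cast this
  exact Finset.card_eq_one.mp this

/-- In a function field over a perfect field, any finite generating set contains a separating
variable. -/
theorem exists_mem_separating [PerfectField k] (hK : IsFunctionField k K) (G : Finset K)
    (hG : adjoin k (G : Set K) = ⊤) :
    ∃ x ∈ G, Algebra.IsSeparable (adjoin k ({x} : Set K)) K := by
  obtain ⟨s, hsG, hs, hsep⟩ := exists_subset_sepTranscBasis_of_perfectField G hG
  obtain ⟨x, rfl⟩ := transcBasis_eq_singleton hK s hs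
  refine ⟨x, hsG (by simp), ?_⟩
  rw [Finset.coe_singleton] at hsep
  exact hsep

/-- Primitive element inside a generating subspace. -/
theorem exists_mem_adjoin_pair_eq_top [Infinite k] (x : K)
    (hsep : Algebra.IsSeparable (adjoin k ({x} : Set K)) K)
    (hfin : FiniteDimensional (adjoin k ({x} : Set K)) K) (W : Submodule k K)
    (hW : adjoin k (W : Set K) = ⊤) :
    ∃ y ∈ W, adjoin k ({x, y} : Set K) = ⊤ := by
  classical
  set F := adjoin k ({x} : Set K) with hF
  have hfinI : Finite (IntermediateField F K) :=
    Field.finite_intermediateField_of_exists_primitive_element F K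
      (Field.exists_primitive_element F K)
  let ι := {M : IntermediateField F K // M ≠ ⊤}
  let p : ι → Submodule k W := fun M =>
    Submodule.comap W.subtype ((M.1.restrictScalars k).toSubalgebra.toSubmodule)
  have hp : ∀ i, p i ≠ ⊤ := by
    rintro ⟨M, hM⟩ htop
    apply hM
    have hsub : (W : Set K) ⊆ (M.restrictScalars k : Set K) := by
      intro w hw
      have : (⟨w, hw⟩ : W) ∈ p ⟨M, hM⟩ := by rw [htop]; trivial
      exact this
    have h1 : adjoin k (W : Set K) ≤ M.restrictScalars k := adjoin_le_iff.mpr hsub
    rw [hW] at h1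
    rw [eq_top_iff]
    intro z _
    exact h1 (mem_top : z ∈ (⊤ : IntermediateField k K))
  obtain ⟨y, hy⟩ := Submodule.exists_forall_notMem_of_forall_ne_top p hp
  refine ⟨y.1, y.2, ?_⟩
  have htop : F⟮(y : K)⟯ = ⊤ := by
    by_contra hne
    apply hy ⟨F⟮(y : K)⟯, hne⟩
    show (y : K) ∈ F⟮(y : K)⟯
    exact mem_adjoin_simple_self F (y : K)
  have := adjoin_adjoin_left k ({x} : Set K) ({(y : K)} : Set K)
  rw [← hF, htop, restrictScalars_top] at this
  rw [this]
  congr 1

end Groth.Agent.Helper16.FF
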